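import Cfsg.Agent.H49.UChar.Natural
import Cfsg.Agent.H49.USix.Setup
import Cfsg.Agent.H20.UFourTwoMain
import Cfsg.Agent.Symplectic.Order

/-!
An involution centraliser with extraspecial two-core of order `2 ^ 9` and quotient the symplectic
group in dimension four over the field with three elements: the associated representation.
-/

set_option autoImplicit false
set_option maxRecDepth 20000
set_option linter.unusedSectionVars false

namespace Cfsg.Agent.H49.UChar

open Cfsg Subgroup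
open Cfsg.Agent.H92.ExtraForm (zp zp_inj FormMap exists_formMap)
open Cfsg.Agent.H41.SUSix (K4)
open Cfsg.Agent.H49.USix (W4 wt4 pol4)

universe u

variable {G : Type u} [Group G] [Finite G]

/-- The centraliser of `z` acting on the quotient of its core by `z`. -/
structure Pre (z : G) (J : Subgroup G) where
  z_sq : z * z = 1
  z_ne : z ≠ 1
  hzJ : z ∈ J
  le : ∀ q ∈ J, q * z = z * q
  norm : ∀ c : G, c * z = z * c → ∀ q ∈ J, c * q * c⁻¹ ∈ J
  V : Type
  [instA : AddCommGroup V]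
  [instM : Module (ZMod 2) V]
  [instF : Finite V]
  R : Rep V
  π : G → V
  π_mul : ∀ a ∈ J, ∀ b ∈ J, π (a * b) = π a + π b
  π_surj : ∀ v, ∃ q ∈ J, π q = v
  π_zero : ∀ q ∈ J, π q = 0 ↔ (q = 1 ∨ q = z)
  sq : ∀ q ∈ J, q * q = zp z (R.q (π q))
  comm : ∀ q ∈ J, ∀ r ∈ J, r * q = q * r * zp z (R.B (π q) (π r))
  ρ : G → Equiv.Perm V
  ρ_mul : ∀ c d : G, c * z = z * c → d * z = z * d → ρ (c * d) = ρ c * ρ d
  ρ_π : ∀ c : G, c * z = z * c → ∀ q ∈ J, π (c * q * c⁻¹) = ρ c (π q)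
  ρ_ker : ∀ c : G, c * z = z * c → (ρ c = 1 ↔ c ∈ J)
  ρ_range : ∀ g : SU4, ∃ c : G, c * z = z * c ∧ ρ c = R.φ g
  ρ_mem : ∀ c : G, c * z = z * c → ∃ g : SU4, ρ c = R.φ g
  card_C : Nat.card ↥(Subgroup.centralizer ({z} : Set G)) = 13271040

attribute [instance] Pre.instA Pre.instM Pre.instF

theorem char_two_sub : ∀ a b c : ZMod 2, a + b + c = a - b - c := by decide

theorem su_equiv_psp {F : Type*} [Field F] [Fintype F] (hF : Fintype.card F = 3) :
    Nonempty (SU4 ≃* Cfsg.PSp 2 F) := by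
  obtain ⟨e⟩ := H20.UFourTwo.psu_equiv_psp (F := K4) (K := F) rfl hF
  exact ⟨((QuotientGroup.quotientBot (G := SU4)).symm.trans
    (QuotientGroup.quotientMulEquivOfEq center_bot.symm)).trans e⟩

section Build

variable {z : G} (hz : orderOf z = 2) {F : Type*} [Field F] [Fintype F] (hF : Fintype.card F = 3)
  (hJ : Cfsg.IsExtraspecial 2 ↥(Cfsg.pCore 2 ↥(centralizer ({z} : Set G))))
  (hJc : Nat.card ↥(Cfsg.pCore 2 ↥(centralizer ({z} : Set G))) = 2 ^ 9)
  (hCJ : centralizer ((Cfsg.pCore 2 ↥(centralizer ({z} : Set G))) : Set ↥(centralizer ({z} : Set G))) ≤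
    Cfsg.pCore 2 ↥(centralizer ({z} : Set G)))
  [hJn : (Cfsg.pCore 2 ↥(centralizer ({z} : Set G))).Normal]

include hz hF hJ hJc hCJ

theorem exists_pre_of_form {U : Type} [AddCommGroup U] [Module (ZMod 2) U] [Finite U]
    {Q : QuadraticForm (ZMod 2) U} (Fm : FormMap ↥(Cfsg.pCore 2 ↥(centralizer ({z} : Set G))) U Q)
    (hU : Nat.card U = 256)
    (e : (↥(centralizer ({z} : Set G)) ⧸ Cfsg.pCore 2 ↥(centralizer ({z} : Set G))) ≃* Cfsg.PSp 2 F) :
    Nonempty (Pre z ((Cfsg.pCore 2 ↥(centralizer ({z} : Set G))).map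
      (centralizer ({z} : Set G)).subtype)) := by
  classical
  haveI : Fact (Nat.Prime 2) := ⟨Nat.prime_two⟩
  have zz : z * z = 1 := by rw [← pow_two, ← hz, pow_orderOf_eq_one]
  have z1 : z ≠ 1 := fun e => by rw [e, orderOf_one] at hz; norm_num at hz
  let C := centralizer ({z} : Set G)
  let J := Cfsg.pCore 2 ↥C
  have hcm : ∀ c : ↥C, (c : G) * z = z * c := fun c => mem_centralizer_singleton_iff.1 c.2
  let zc : ↥C := ⟨z, mem_centralizer_singleton_iff.2 rfl⟩
  have hzc : ∀ c : ↥C, c * zc = zc * c := fun c => Subtype.ext (hcm c)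
  have hzJ : zc ∈ J := by
    have hN : (Subgroup.zpowers zc).Normal :=
      ⟨fun a ha c => by
        obtain ⟨k, rfl⟩ := ha
        have : Commute c (zc ^ k) := (show Commute c zc from hzc c).zpow_right k
        rw [this.eq, mul_inv_cancel_right]
        exact Subgroup.zpow_mem_zpowers _ _⟩
    have hp : IsPGroup 2 ↥(Subgroup.zpowers zc) := IsPGroup.of_card (n := 1) (by
      rw [Nat.card_zpowers, ← orderOf_injective C.subtype C.subtype_injective]
      exact hz)
    exact le_sSup (s := {N : Subgroup ↥C | N.Normal ∧ IsPGroup 2 N}) ⟨hN, hp⟩ (mem_zpowers zc)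
  let zj : ↥J := ⟨zc, hzJ⟩
  have hzj : Fm.z = zj := by
    have h : zj ∈ center ↥J := mem_center_iff.2 fun a => Subtype.ext (hzc a)
    rcases (Fm.mem_center _).1 h with h1 | h1
    · exact absurd (congrArg (fun a : ↥J => ((a : ↥C) : G)) h1) z1
    · exact h1.symm
  let pi : G → U := fun x => if h : ∃ a : ↥J, ((a : ↥C) : G) = x then Fm.π h.choose else 0
  have hpi : ∀ a : ↥J, pi ((a : ↥C) : G) = Fm.π a := fun a => by
    have h : ∃ b : ↥J, ((b : ↥C) : G) = ((a : ↥C) : G) := ⟨a, rfl⟩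
    simp only [pi, dif_pos h]
    exact congrArg Fm.π (Subtype.ext (Subtype.ext h.choose_spec))
  have hzp : ∀ a : ZMod 2, (((zp Fm.z a : ↥J) : ↥C) : G) = zp z a := fun a => by
    unfold zp; split_ifs
    · rfl
    · rw [hzj]
  let act : ↥C →* Equiv.Perm U :=
    { toFun := fun c => (Fm.inducedEquiv (MulAut.conjNormal c)).toEquiv
      map_one' := Equiv.ext fun u => by
        show Fm.induced (MulAut.conjNormal (1 : ↥C)) u = u
        rw [map_one, Fm.induced_one]
      map_mul' := fun c d => Equiv.ext fun u => by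
        show Fm.induced (MulAut.conjNormal (c * d)) u = _
        rw [map_mul, Fm.induced_mul]; rfl }
  have hker : act.ker = J := by
    ext c
    constructor
    · intro h
      have h' : Fm.toIso (MulAut.conjNormal c) = 1 :=
        Subtype.ext (LinearEquiv.ext fun u => Equiv.congr_fun (MonoidHom.mem_ker.1 h) u)
      have h'' : MulAut.conjNormal c ∈ Fm.toIso.ker := MonoidHom.mem_ker.2 h'
      rw [Fm.toIso_ker hJ] at h''
      obtain ⟨g, hg⟩ := h''
      have hc : (g : ↥C)⁻¹ * c ∈ centralizer (J : Set ↥C) := by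
        rw [mem_centralizer_iff]
        intro a ha
        have h3 : (g : ↥C) * a * (g : ↥C)⁻¹ = c * a * c⁻¹ :=
          congrArg Subtype.val (MulEquiv.congr_fun hg ⟨a, ha⟩)
        calc a * ((g : ↥C)⁻¹ * c) = (g : ↥C)⁻¹ * ((g : ↥C) * a * (g : ↥C)⁻¹) * c := by group
          _ = (g : ↥C)⁻¹ * c * a := by rw [h3]; group
      have := mul_mem g.2 (hCJ hc)
      rwa [mul_inv_cancel_left] at this
    · intro h
      refine MonoidHom.mem_ker.2 (Equiv.ext fun u => ?_)
      obtain ⟨x, rfl⟩ := Fm.surj u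
      show Fm.induced (MulAut.conjNormal c) (Fm.π x) = Fm.π x
      rw [Fm.induced_π, show MulAut.conjNormal c x = (⟨c, h⟩ : ↥J) * x * (⟨c, h⟩ : ↥J)⁻¹ from
        Subtype.ext rfl, Fm.π_mul, Fm.π_mul, Fm.π_inv]
      abel
  obtain ⟨e'⟩ := su_equiv_psp hF
  let θ : SU4 ≃* (↥C ⧸ act.ker) := e'.trans (e.symm.trans (QuotientGroup.quotientMulEquivOfEq hker.symm))
  let φ : SU4 →* Equiv.Perm U := (QuotientGroup.kerLift act).comp θ.toMonoidHom
  have hB : ∀ u v, Q (u + v) + Q u + Q v = QuadraticMap.polar (⇑Q) u v := fun u v => by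
    rw [QuadraticMap.polar]
    exact char_two_sub _ _ _
  let R : Rep U :=
    { φ := φ
      add := fun g a b => by
        show QuotientGroup.kerLift act (θ g) (a + b) = _
        obtain ⟨c, hc⟩ := QuotientGroup.mk_surjective (θ g)
        rw [show φ g = QuotientGroup.kerLift act (θ g) from rfl, ← hc, QuotientGroup.kerLift_mk]
        exact Fm.induced_add _ a b
      inj := (QuotientGroup.kerLift_injective act).comp θ.injective
      q := fun u => Q u
      q_zero := QuadraticMap.map_zero Q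
      q_inv := fun g v => by
        show Q (QuotientGroup.kerLift act (θ g) v) = _
        obtain ⟨c, hc⟩ := QuotientGroup.mk_surjective (θ g)
        rw [← hc, QuotientGroup.kerLift_mk]
        exact Fm.induced_mem _ v
      B_add := fun a a' v => by rw [hB, hB, hB, QuadraticMap.polar_add_left]
      nondeg := fun u hu => by
        obtain ⟨x, rfl⟩ := Fm.surj u
        rw [Fm.π_eq_zero, ← Fm.mem_center, mem_center_iff]
        intro y
        rw [Fm.comm x y, ← hB, hu (Fm.π y)]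
        simp [zp]
      card := hU }
  have hρ : ∀ c : ↥C, ∃ g : SU4, act c = R.φ g := fun c => ⟨θ.symm (c : ↥C ⧸ act.ker), by
    show act c = QuotientGroup.kerLift act (θ (θ.symm (c : ↥C ⧸ act.ker)))
    rw [MulEquiv.apply_symm_apply, QuotientGroup.kerLift_mk]⟩
  let ρ : G → Equiv.Perm U := fun c => if h : c ∈ C then act ⟨c, h⟩ else 1
  have hρC : ∀ (c : G) (h : c * z = z * c), ρ c = act ⟨c, mem_centralizer_singleton_iff.2 h⟩ :=
    fun c h => dif_pos _
  refine ⟨{
    z_sq := zz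
    z_ne := z1
    hzJ := ⟨zc, hzJ, rfl⟩
    le := by rintro _ ⟨a, -, rfl⟩; exact hcm a
    norm := by
      rintro c hc _ ⟨a, ha, rfl⟩
      exact ⟨⟨c, mem_centralizer_singleton_iff.2 hc⟩ * a * (⟨c, mem_centralizer_singleton_iff.2 hc⟩)⁻¹,
        hJn.conj_mem a ha _, rfl⟩
    V := U
    R := R
    π := pi
    π_mul := by
      rintro _ ⟨a, ha, rfl⟩ _ ⟨b, hb, rfl⟩
      exact (hpi (⟨a, ha⟩ * ⟨b, hb⟩)).trans ((Fm.π_mul _ _).trans
        (congrArg₂ (· + ·) (hpi ⟨a, ha⟩).symm (hpi ⟨b, hb⟩).symm))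
    π_surj := fun v => by
      obtain ⟨a, rfl⟩ := Fm.surj v
      exact ⟨_, ⟨a.1, a.2, rfl⟩, hpi a⟩
    π_zero := by
      rintro _ ⟨a, ha, rfl⟩
      show pi ((⟨a, ha⟩ : ↥J) : ↥C) = 0 ↔ _
      rw [hpi, Fm.π_eq_zero, hzj]
      exact ⟨fun h => h.imp (fun h => congrArg (fun b : ↥J => ((b : ↥C) : G)) h)
          (fun h => congrArg (fun b : ↥J => ((b : ↥C) : G)) h),
        fun h => h.imp (fun h => Subtype.ext (Subtype.ext h)) (fun h => Subtype.ext (Subtype.ext h))⟩
    sq := by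
      rintro _ ⟨a, ha, rfl⟩
      show (((⟨a, ha⟩ * ⟨a, ha⟩ : ↥J) : ↥C) : G) = zp z (Q (pi ((⟨a, ha⟩ : ↥J) : ↥C)))
      rw [hpi, Fm.sq, hzp]
    comm := by
      rintro _ ⟨a, ha, rfl⟩ _ ⟨b, hb, rfl⟩
      show (((⟨b, hb⟩ * ⟨a, ha⟩ : ↥J) : ↥C) : G) =
        (((⟨a, ha⟩ * ⟨b, hb⟩ : ↥J) : ↥C) : G) *
          zp z (R.B (pi ((⟨a, ha⟩ : ↥J) : ↥C)) (pi ((⟨b, hb⟩ : ↥J) : ↥C)))
      rw [hpi, hpi, Fm.comm, ← hB, ← hzp]
      rfl
    ρ := ρ
    ρ_mul := fun c d hc hd => by
      rw [hρC c hc, hρC d hd, hρC (c * d) ((Commute.mul_left hc hd).eq), ← map_mul]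
      rfl
    ρ_π := fun c hc => by
      rintro _ ⟨a, ha, rfl⟩
      rw [hρC c hc]
      show pi _ = Fm.induced _ (pi ((⟨a, ha⟩ : ↥J) : ↥C))
      rw [hpi, Fm.induced_π]
      exact hpi (MulAut.conjNormal (⟨c, mem_centralizer_singleton_iff.2 hc⟩ : ↥C) ⟨a, ha⟩)
    ρ_ker := fun c hc => by
      rw [hρC c hc, ← MonoidHom.mem_ker, hker]
      exact ⟨fun h => ⟨_, h, rfl⟩, fun ⟨a, ha, e⟩ =>
        (show (⟨c, mem_centralizer_singleton_iff.2 hc⟩ : ↥C) = a from Subtype.ext e.symm) ▸ ha⟩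
    ρ_range := fun g => by
      obtain ⟨c, hc⟩ := QuotientGroup.mk_surjective (θ g)
      refine ⟨c.1, hcm c, ?_⟩
      rw [hρC c.1 (hcm c)]
      show act c = QuotientGroup.kerLift act (θ g)
      rw [← hc, QuotientGroup.kerLift_mk]
    ρ_mem := fun c hc => by rw [hρC c hc]; exact hρ _
    card_C := by
      rw [Subgroup.card_eq_card_quotient_mul_card_subgroup J, Nat.card_congr e.toEquiv,
        Symplectic.card_psp 2 F (by norm_num), hF, hJc, Finset.prod_range_succ,
        Finset.prod_range_one]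
      norm_num }⟩

theorem exists_pre
    (e : (↥(centralizer ({z} : Set G)) ⧸ Cfsg.pCore 2 ↥(centralizer ({z} : Set G))) ≃* Cfsg.PSp 2 F) :
    Nonempty (Pre z ((Cfsg.pCore 2 ↥(centralizer ({z} : Set G))).map
      (centralizer ({z} : Set G)).subtype)) := by
  rcases exists_formMap hJ 4 (by norm_num) hJc with h | h
  · obtain ⟨Fm⟩ := h
    exact exists_pre_of_form hz hF hJ hJc hCJ Fm
      (by rw [Nat.card_eq_fintype_card]; simp) e
  · obtain ⟨Fm⟩ := h
    exact exists_pre_of_form hz hF hJ hJc hCJ Fm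
      (by rw [Nat.card_eq_fintype_card]; simp) e

end Build

/-- In the natural case the centraliser is as in the recognition theorem. -/
theorem Pre.core {z : G} {J : Subgroup G} (P : Pre z J)
    (h0 : Nat.card ↥P.R.P0 = 1) (h4 : ∀ k : Fin 13, (k : ℕ) < 4 → Nat.card ↥(P.R.P k) = 4)
    (h1 : ∀ k : Fin 13, 4 ≤ (k : ℕ) → Nat.card ↥(P.R.P k) = 1) :
    Nonempty (USix.Core z J) := by
  classical
  obtain ⟨ψ, hq, hto, hfrom⟩ := P.R.natural h0 h4 h1
  let ρ : G → Equiv.Perm W4 := fun c => (ψ.toEquiv.trans (P.ρ c)).trans ψ.symm.toEquiv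
  have hρ : ∀ c w, ψ (ρ c w) = P.ρ c (ψ w) := fun c w => ψ.apply_symm_apply _
  refine ⟨{
    z_sq := P.z_sq, z_ne := P.z_ne, hzQ := P.hzJ, le := P.le, norm := P.norm
    π := fun x => ψ.symm (P.π x)
    π_mul := fun a ha b hb => by rw [P.π_mul a ha b hb, map_add]
    π_surj := fun v => by
      obtain ⟨q, hq', e⟩ := P.π_surj (ψ v)
      exact ⟨q, hq', by rw [e, ψ.symm_apply_apply]⟩
    π_zero := fun q hq' => by
      rw [← P.π_zero q hq', ← ψ.symm.map_eq_zero_iff]
    sq := fun q hq' => by rw [P.sq q hq', ← hq, ψ.apply_symm_apply]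
    comm := fun q hq' r hr => by
      rw [P.comm q hq' r hr, Rep.B, pol4, ← hq, ← hq, ← hq, map_add, ψ.apply_symm_apply,
        ψ.apply_symm_apply]
    ρ := ρ
    ρ_mul := fun c d hc hd => Equiv.ext fun w => ψ.injective (by
      rw [hρ, P.ρ_mul c d hc hd, Equiv.Perm.mul_apply, Equiv.Perm.mul_apply, hρ, hρ])
    ρ_π := fun c hc q hq' => ψ.injective (by
      rw [hρ, ψ.apply_symm_apply, ψ.apply_symm_apply, P.ρ_π c hc q hq'])
    ρ_ker := fun c hc => by
      rw [← P.ρ_ker c hc]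
      constructor
      · intro h
        refine Equiv.ext fun v => ?_
        obtain ⟨w, rfl⟩ := ψ.surjective v
        rw [← hρ, h]; rfl
      · intro h
        exact Equiv.ext fun w => ψ.injective (by rw [hρ, h]; rfl)
    ρ_iso := fun c hc => by
      obtain ⟨g, hg⟩ := P.ρ_mem c hc
      obtain ⟨g', hg'⟩ := hto g
      have e : ∀ w, ρ c w = Unitary.ap g' w := fun w => ψ.injective (by rw [hρ, hg, hg'])
      refine ⟨fun a b => ?_, fun a b => ?_, fun a b => ?_⟩
      · rw [e, e, e, Unitary.ap_add]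
      · rw [e, e, Unitary.ap_smul]
      · rw [e, e]; exact Unitary.herm_ap g' a b
    ρ_surj := fun g' => by
      obtain ⟨g, hg⟩ := hfrom g'
      obtain ⟨c, hc, hcg⟩ := P.ρ_range g
      exact ⟨c, hc, fun w => ψ.injective (by rw [hρ, hcg, hg])⟩
    card_C := P.card_C }⟩

end Cfsg.Agent.H49.UChar
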