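import Cfsg.Agent.H49.USix.PairCent

/-!
An isolated involution: the centraliser and the odd core generate the group.
-/

set_option autoImplicit false

namespace Cfsg.Agent.H49.UChar

open Cfsg

/-- The Z*-theorem in product form. -/
theorem sup_oddCore_top {G : Type*} [Group G] [Finite G] {z : G} (hz : z * z = 1) (h1 : z ≠ 1)
    (hiso : ∀ g : G, g * z * g⁻¹ * z = z * (g * z * g⁻¹) → g * z * g⁻¹ = z) :
    Subgroup.centralizer ({z} : Set G) ⊔ Cfsg.oddCore G = ⊤ := by
  have : Fact (Nat.Prime 2) := ⟨Nat.prime_two⟩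
  have hI : Cfsg.IsIsolated z := fun g hg => hiso g hg.symm.eq
  refine eq_top_iff.2 fun g _ => ?_
  have hn := USix.zstar_isolated hz h1 hI g⁻¹
  rw [inv_inv, inv_eq_of_mul_eq_one_right hz] at hn
  set n := z * g⁻¹ * z * g with hndef
  have hodd : Odd (orderOf n) :=
    (Cores.odd_card_oddCore (G := G)).of_dvd_nat (Subgroup.orderOf_dvd_natCard _ hn)
  obtain ⟨m, hm⟩ := hodd
  have hy : z * n * z = n⁻¹ := by
    rw [hndef]
    calc z * (z * g⁻¹ * z * g) * z = (z * z) * g⁻¹ * z * g * z := by group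
      _ = g⁻¹ * z * g * z := by rw [hz, one_mul]
      _ = _ := by simp [mul_assoc, inv_eq_of_mul_eq_one_right hz]
  set k := n ^ (m + 1) with hk
  have hkk : k * k = n := by
    rw [hk, ← pow_add, show m + 1 + (m + 1) = orderOf n + 1 by omega, pow_add, pow_orderOf_eq_one,
      pow_one, one_mul]
  have hzk : z * k⁻¹ * z = k := by
    have e : z * k * z = k⁻¹ := by
      have h := congrArg (· ^ (m + 1)) (show z * n * z⁻¹ = n⁻¹ by rw [inv_eq_of_mul_eq_one_right hz, hy])
      simp only [conj_pow, inv_pow] at h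
      rw [inv_eq_of_mul_eq_one_right hz] at h
      exact h
    rw [← e]
    calc z * (z * k * z) * z = (z * z) * k * (z * z) := by group
      _ = k := by rw [hz]; group
  have hgk : g * k⁻¹ ∈ Subgroup.centralizer ({z} : Set G) := by
    refine Subgroup.mem_centralizer_singleton_iff.2 ?_
    have e1 : k⁻¹ * z * k = g⁻¹ * z * g := by
      calc k⁻¹ * z * k = z * (z * k⁻¹ * z) * k := by rw [show z * (z * k⁻¹ * z) = (z * z) * k⁻¹ * z by group, hz, one_mul]
        _ = z * n := by rw [hzk, mul_assoc, hkk]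
        _ = (z * z) * g⁻¹ * z * g := by rw [hndef]; group
        _ = g⁻¹ * z * g := by rw [hz, one_mul]
    calc g * k⁻¹ * z = g * (k⁻¹ * z * k) * k⁻¹ := by group
      _ = z * (g * k⁻¹) := by rw [e1]; group
  have : g = g * k⁻¹ * k := by group
  rw [this]
  exact Subgroup.mul_mem_sup hgk (pow_mem hn _)

end Cfsg.Agent.H49.UChar
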