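import Cfsg.Agent.H49.UChar.Conv

/-!
An eight-dimensional orthogonal representation of the unitary group over the field with two
elements: the torus of order twenty-seven splits it into four planes, or three planes and a fixed
plane.
-/

set_option autoImplicit false
set_option maxRecDepth 20000
set_option linter.unusedSectionVars false

namespace Cfsg.Agent.H49.UChar

theorem three_t : ∀ t : T3, t + t + t = 0 := by decide +kernel

/-- A faithful orthogonal representation on a space with `256` elements. -/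
structure Rep (V : Type*) [AddCommGroup V] [Module (ZMod 2) V] where
  φ : SU4 →* Equiv.Perm V
  add : ∀ (g : SU4) (u v : V), φ g (u + v) = φ g u + φ g v
  inj : Function.Injective φ
  q : V → ZMod 2
  q_zero : q 0 = 0
  q_inv : ∀ (g : SU4) (v : V), q (φ g v) = q v
  B_add : ∀ u u' v : V, q (u + u' + v) + q (u + u') + q v =
    q (u + v) + q u + q v + (q (u' + v) + q u' + q v)
  nondeg : ∀ u : V, (∀ v, q (u + v) + q u + q v = 0) → u = 0
  card : Nat.card V = 256

namespace Rep

variable {V : Type*} [AddCommGroup V] [Module (ZMod 2) V] [Finite V] (R : Rep V)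
include R

/-- The polar form. -/
def B (u v : V) : ZMod 2 := R.q (u + v) + R.q u + R.q v

theorem B_comm (u v : V) : R.B u v = R.B v u := by
  rw [B, B, add_comm u v]; ring

theorem B_add_left (u u' v : V) : R.B (u + u') v = R.B u v + R.B u' v := R.B_add u u' v

theorem B_add_right (u v v' : V) : R.B u (v + v') = R.B u v + R.B u v' := by
  rw [R.B_comm, R.B_add_left, R.B_comm v, R.B_comm v']

theorem vv (v : V) : v + v = 0 := ZModModule.add_self v

theorem B_inv (g : SU4) (u v : V) : R.B (R.φ g u) (R.φ g v) = R.B u v := by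
  rw [B, B, ← R.add, R.q_inv, R.q_inv, R.q_inv]

theorem q_add (u v : V) : R.q (u + v) = R.q u + R.q v + R.B u v := by
  have key : ∀ a b c : ZMod 2, a = b + c + (a + b + c) := by decide
  exact key _ _ _

theorem phi_zero (g : SU4) : R.φ g 0 = 0 := by
  have h := R.add g 0 0
  rw [add_zero] at h
  exact left_eq_add.1 h

/-- The action as a linear map. -/
def lin (g : SU4) : V →ₗ[ZMod 2] V :=
  ((AddMonoidHom.mk' (R.φ g) (R.add g)).toZModLinearMap 2)

theorem lin_apply (g : SU4) (v : V) : R.lin g v = R.φ g v := rfl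

/-- The action of the torus. -/
def tt (s : T3) (v : V) : V := R.φ (dg s) v

theorem tt_add (s t : T3) (v : V) : R.tt (s + t) v = R.tt s (R.tt t v) := by
  rw [tt, dg_add, map_mul]; rfl

theorem tt_zero (v : V) : R.tt 0 v = v := by rw [tt, dg_zero, map_one]; rfl

theorem tt_map_add (s : T3) (u v : V) : R.tt s (u + v) = R.tt s u + R.tt s v := R.add _ u v

theorem tt_smul (s : T3) (a : ZMod 2) (v : V) : R.tt s (a • v) = a • R.tt s v :=
  (R.lin (dg s)).map_smul a v

theorem tt_sum {ι : Type*} (s : T3) (S : Finset ι) (f : ι → V) :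
    R.tt s (∑ i ∈ S, f i) = ∑ i ∈ S, R.tt s (f i) := map_sum (R.lin (dg s)) f S

/-- An element of the group algebra. -/
def op (f : T3 → ZMod 2) (v : V) : V := ∑ s, f s • R.tt s v

theorem op_congr {f g : T3 → ZMod 2} (h : ∀ s, f s = g s) (v : V) : R.op f v = R.op g v := by
  simp only [op, h]

theorem op_dlt (v : V) : R.op dlt v = v := by
  rw [op, Finset.sum_eq_single 0]
  · rw [show dlt 0 = 1 from if_pos rfl, one_smul, R.tt_zero]
  · intro s _ hs
    rw [show dlt s = 0 from if_neg hs, zero_smul]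
  · exact fun h => absurd (Finset.mem_univ _) h

theorem op_op (f g : T3 → ZMod 2) (v : V) :
    R.op f (R.op g v) = R.op (fun r => ∑ s, f s * g (r - s)) v := by
  have e : ∀ s, f s • R.tt s (R.op g v) = ∑ r, (f s * g (r - s)) • R.tt r v := fun s => by
    rw [op, R.tt_sum, Finset.smul_sum]
    refine Fintype.sum_equiv (Equiv.addLeft s) _ _ fun t => ?_
    rw [R.tt_smul, smul_smul, Equiv.coe_addLeft, add_sub_cancel_left, R.tt_add]
  conv_lhs => rw [op]
  simp only [e]
  rw [Finset.sum_comm, op]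
  simp only [Finset.sum_smul]

theorem op_add (f : T3 → ZMod 2) (u v : V) : R.op f (u + v) = R.op f u + R.op f v := by
  simp only [op, tt_map_add, smul_add, Finset.sum_add_distrib]

theorem op_zero' (f : T3 → ZMod 2) : R.op f 0 = 0 := by
  have h := R.op_add f 0 0
  rw [add_zero] at h
  exact left_eq_add.1 h

theorem op_zero_fun (v : V) : R.op (fun _ => 0) v = 0 := by simp [op]

theorem tt_op (t : T3) (f : T3 → ZMod 2) (v : V) :
    R.tt t (R.op f v) = R.op (fun r => f (r - t)) v := by
  rw [op, R.tt_sum, op]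
  refine Fintype.sum_equiv (Equiv.addLeft t) _ _ fun s => ?_
  rw [R.tt_smul, Equiv.coe_addLeft, add_sub_cancel_left, R.tt_add]

/-- The projection to the part of a functional. -/
def pr (k : Fin 13) (v : V) : V := R.op (ff k) v

/-- The projection to the fixed part. -/
def pr0 (v : V) : V := R.op (fun _ => 1) v

theorem pr_pr (k l : Fin 13) (v : V) : R.pr k (R.pr l v) = if k = l then R.pr k v else 0 := by
  rw [pr, pr, R.op_op, R.op_congr (g := fun r => if k = l then ff k r else 0) (ff_conv k l)]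
  split_ifs
  · rfl
  · exact R.op_zero_fun v

theorem pr_pr0 (k : Fin 13) (v : V) : R.pr k (R.pr0 v) = 0 := by
  rw [pr, pr0, R.op_op, R.op_congr (g := fun _ => 0) fun r => (ff_one k r).1]
  exact R.op_zero_fun v

theorem pr0_pr (k : Fin 13) (v : V) : R.pr0 (R.pr k v) = 0 := by
  rw [pr, pr0, R.op_op, R.op_congr (g := fun _ => 0) fun r => (ff_one k r).2]
  exact R.op_zero_fun v

theorem pr0_pr0 (v : V) : R.pr0 (R.pr0 v) = R.pr0 v := by
  show R.op _ (R.op _ v) = _
  rw [R.op_op]
  exact R.op_congr (fun _ => one_one) v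

theorem split (v : V) : v = R.pr0 v + ∑ k, R.pr k v := by
  conv_lhs => rw [← R.op_dlt v]
  simp only [pr0, pr, op]
  rw [Finset.sum_comm, ← Finset.sum_add_distrib]
  refine Finset.sum_congr rfl fun s _ => ?_
  rw [← Finset.sum_smul, ← add_smul, ff_sum]

theorem tt_pr (k : Fin 13) {t : T3} (h : chi k t = 0) (v : V) : R.tt t (R.pr k v) = R.pr k v := by
  rw [pr, R.tt_op]
  exact R.op_congr (ff_shift k h) v

theorem tt_pr0 (t : T3) (v : V) : R.tt t (R.pr0 v) = R.pr0 v := R.tt_op t _ v

theorem tt_triple (k : Fin 13) {t : T3} (h : chi k t ≠ 0) (v : V) :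
    R.pr k v + R.tt t (R.pr k v) + R.tt (t + t) (R.pr k v) = 0 := by
  rw [pr, R.tt_op, R.tt_op, ← R.op_zero_fun v]
  simp only [op, ← Finset.sum_add_distrib, ← add_smul, ff_triple k h]

/-- The part of a functional. -/
def P (k : Fin 13) : AddSubgroup V where
  carrier := {v | R.pr k v = v}
  zero_mem' := R.op_zero' _
  add_mem' {a b} ha hb := by
    show R.pr k (a + b) = a + b
    rw [pr, R.op_add]; exact congrArg₂ (· + ·) ha hb
  neg_mem' {a} ha := by
    show R.pr k (-a) = -a
    rwa [ZModModule.neg_eq_self]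

/-- The fixed part. -/
def P0 : AddSubgroup V where
  carrier := {v | R.pr0 v = v}
  zero_mem' := R.op_zero' _
  add_mem' {a b} ha hb := by
    show R.pr0 (a + b) = a + b
    rw [pr0, R.op_add]; exact congrArg₂ (· + ·) ha hb
  neg_mem' {a} ha := by
    show R.pr0 (-a) = -a
    rwa [ZModModule.neg_eq_self]

theorem pr_mem (k : Fin 13) (v : V) : R.pr k v ∈ R.P k := (R.pr_pr k k v).trans (if_pos rfl)

theorem pr0_mem (v : V) : R.pr0 v ∈ R.P0 := R.pr0_pr0 v

theorem fix_mem {k : Fin 13} {t : T3} (h : chi k t = 0) {v : V} (hv : v ∈ R.P k) :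
    R.tt t v = v := by
  rw [← (show R.pr k v = v from hv), R.tt_pr k h]

theorem fix0_mem (t : T3) {v : V} (hv : v ∈ R.P0) : R.tt t v = v := by
  rw [← (show R.pr0 v = v from hv), R.tt_pr0 t]

theorem triple_mem {k : Fin 13} {t : T3} (h : chi k t ≠ 0) {v : V} (hv : v ∈ R.P k) :
    v + R.tt t v + R.tt (t + t) v = 0 := by
  have := R.tt_triple k h v
  rwa [show R.pr k v = v from hv] at this

theorem free_mem {k : Fin 13} {t : T3} (h : chi k t ≠ 0) {v : V} (hv : v ∈ R.P k)
    (e : R.tt t v = v) : v = 0 := by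
  have h3 := R.triple_mem h hv
  rw [R.tt_add, e, e, R.vv, zero_add] at h3
  exact h3

theorem tt_mem {k : Fin 13} (t : T3) {v : V} (hv : v ∈ R.P k) : R.tt t v ∈ R.P k := by
  show R.op (ff k) (R.tt t v) = R.tt t v
  have e : ∀ w, R.op (ff k) (R.tt t w) = R.tt t (R.op (ff k) w) := fun w => by
    rw [op, op, R.tt_sum]
    refine Finset.sum_congr rfl fun s _ => ?_
    rw [R.tt_smul, ← R.tt_add, ← R.tt_add, add_comm]
  rw [e]
  exact congrArg (R.tt t) hv

/-- Different parts are orthogonal. -/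
theorem B_parts {k l : Fin 13} (hne : k ≠ l) {x y : V} (hx : x ∈ R.P k) (hy : y ∈ R.P l) :
    R.B x y = 0 := by
  obtain ⟨t, h0, h1⟩ := chi_surj k l hne
  have e : ∀ u : T3, chi k u = 0 → R.B x (R.tt u y) = R.B x y := fun u hu => by
    conv_lhs => rw [← R.fix_mem hu hx]
    exact R.B_inv _ _ _
  have h3 : R.B x (y + R.tt t y + R.tt (t + t) y) = 0 := by
    rw [R.triple_mem h1 hy]
    have h := R.B_add_right x 0 0
    rw [add_zero] at h
    exact left_eq_add.1 h
  rw [R.B_add_right, R.B_add_right, e t h0, e _ (by rw [chi_add, h0, add_zero])] at h3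
  have key : ∀ a : ZMod 2, a + a + a = 0 → a = 0 := by decide
  exact key _ h3

theorem B_part0 {k : Fin 13} {x y : V} (hx : x ∈ R.P0) (hy : y ∈ R.P k) : R.B x y = 0 := by
  obtain ⟨t, ht⟩ := chi_ne k
  have h1 : chi k t ≠ 0 := by rw [ht]; decide
  have e : ∀ u : T3, R.B x (R.tt u y) = R.B x y := fun u => by
    conv_lhs => rw [← R.fix0_mem u hx]
    exact R.B_inv _ _ _
  have h3 : R.B x (y + R.tt t y + R.tt (t + t) y) = 0 := by
    rw [R.triple_mem h1 hy]
    have h := R.B_add_right x 0 0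
    rw [add_zero] at h
    exact left_eq_add.1 h
  rw [R.B_add_right, R.B_add_right, e t, e] at h3
  have key : ∀ a : ZMod 2, a + a + a = 0 → a = 0 := by decide
  exact key _ h3

/-- The decomposition. -/
noncomputable def splitEquiv : V ≃ ↥R.P0 × ((k : Fin 13) → ↥(R.P k)) where
  toFun v := (⟨R.pr0 v, R.pr0_mem v⟩, fun k => ⟨R.pr k v, R.pr_mem k v⟩)
  invFun x := x.1.1 + ∑ k, (x.2 k).1
  left_inv v := (R.split v).symm
  right_inv x := by
    obtain ⟨⟨a, ha⟩, f⟩ := x
    have hsum : ∀ S : Finset (Fin 13), R.pr0 (∑ l ∈ S, (f l).1) = 0 ∧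
        ∀ k, R.pr k (∑ l ∈ S, (f l).1) = if k ∈ S then (f k).1 else 0 := by
      intro S
      induction S using Finset.induction_on with
      | empty => exact ⟨R.op_zero' _, fun k => R.op_zero' _⟩
      | insert l S hl ih =>
        rw [Finset.sum_insert hl]
        refine ⟨?_, fun k => ?_⟩
        · rw [pr0, R.op_add]
          show R.pr0 (f l).1 + R.pr0 _ = 0
          rw [ih.1, ← (show R.pr l (f l).1 = (f l).1 from (f l).2), R.pr0_pr, add_zero]
        · rw [pr, R.op_add]
          show R.pr k (f l).1 + R.pr k _ = _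
          rw [ih.2, ← (show R.pr l (f l).1 = (f l).1 from (f l).2), R.pr_pr]
          by_cases hk : k = l
          · subst hk
            rw [if_pos rfl, if_neg hl, if_pos (Finset.mem_insert_self _ _), add_zero]
            exact (f k).2
          · rw [if_neg hk, zero_add]
            by_cases hkS : k ∈ S
            · rw [if_pos hkS, if_pos (Finset.mem_insert_of_mem hkS)]
            · rw [if_neg hkS, if_neg (by simp [hk, hkS])]
    refine Prod.ext (Subtype.ext ?_) (funext fun k => Subtype.ext ?_)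
    · show R.pr0 (a + _) = a
      rw [pr0, R.op_add]
      show R.pr0 a + R.pr0 _ = a
      rw [(hsum Finset.univ).1, show R.pr0 a = a from ha, add_zero]
    · show R.pr k (a + _) = _
      rw [pr, R.op_add]
      show R.pr k a + R.pr k _ = _
      have e : R.pr k a = 0 := (congrArg (R.pr k) (show R.pr0 a = a from ha)).symm.trans (R.pr_pr0 k a)
      rw [(hsum Finset.univ).2, if_pos (Finset.mem_univ k), e, zero_add]

theorem card_P (k : Fin 13) : Nat.card ↥(R.P k) ∈ [1, 4, 16, 64, 256] := by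
  classical
  obtain ⟨t, ht⟩ := chi_ne k
  have h1 : chi k t ≠ 0 := by rw [ht]; decide
  letI := Fintype.ofFinite ↥(R.P k)
  haveI : Fact (Nat.Prime 3) := ⟨by norm_num⟩
  let f : Equiv.Perm ↥(R.P k) :=
    { toFun := fun v => ⟨R.tt t v.1, R.tt_mem t v.2⟩
      invFun := fun v => ⟨R.tt (-t) v.1, R.tt_mem _ v.2⟩
      left_inv := fun v => Subtype.ext (by
        show R.tt (-t) (R.tt t v.1) = v.1
        rw [← R.tt_add, neg_add_cancel, R.tt_zero])
      right_inv := fun v => Subtype.ext (by
        show R.tt t (R.tt (-t) v.1) = v.1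
        rw [← R.tt_add, add_neg_cancel, R.tt_zero]) }
  have hf : f ^ (3 : ℕ) ^ 1 = 1 := Equiv.ext fun v => Subtype.ext (by
    rw [pow_one, pow_succ, pow_succ, pow_one]
    show R.tt t (R.tt t (R.tt t v.1)) = v.1
    rw [← R.tt_add, ← R.tt_add]
    rw [three_t, R.tt_zero])
  have hm := Equiv.Perm.card_fixedPoints_modEq (f := (⇑f : Function.End ↥(R.P k))) (p := 3) (n := 1)
    (funext fun v => (show ((f ^ (3 : ℕ) ^ 1) : Equiv.Perm ↥(R.P k)) v = v by rw [hf]; rfl))
  have hfix : Fintype.card (Function.fixedPoints f) = 1 := by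
    refine Fintype.card_eq_one_iff.2 ⟨⟨0, Subtype.ext (R.phi_zero _)⟩, fun v => ?_⟩
    exact Subtype.ext (Subtype.ext (R.free_mem h1 v.1.2 (congrArg Subtype.val v.2)))
  rw [hfix, ← Nat.card_eq_fintype_card] at hm
  have hd : Nat.card ↥(R.P k) ∣ 2 ^ 8 := by
    rw [show (2 : ℕ) ^ 8 = Nat.card V by rw [R.card]; norm_num]
    exact AddSubgroup.card_addSubgroup_dvd_card _
  obtain ⟨m, hm8, e⟩ := (Nat.dvd_prime_pow Nat.prime_two).1 hd
  rw [e] at hm ⊢
  unfold Nat.ModEq at hm
  interval_cases m <;> first | (exfalso; norm_num at hm; done) | norm_num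

theorem card_base (k : Fin 13) : Nat.card ↥(R.P k) = Nat.card ↥(R.P (base k)) := by
  obtain ⟨σ, hσ⟩ := perm_base k
  have comm : ∀ v, R.pr k (R.φ (pm σ) v) = R.φ (pm σ) (R.pr (base k) v) := by
    intro v
    show R.op (ff k) _ = R.lin (pm σ) _
    rw [op, pr, op, map_sum]
    have hb : Function.Bijective (psh σ) := Finite.injective_iff_bijective.1 fun s s' e => by
      have h : ∀ i, ext4 s (σ i) = ext4 s' (σ i) := fun i => by rw [← ext4_psh, e, ext4_psh]
      funext j
      have h' := h (σ.symm j.castSucc)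
      rw [Equiv.apply_symm_apply] at h'
      have key : ∀ s : T3, ∀ j : Fin 3, ext4 s j.castSucc = s j := by decide +kernel
      rwa [key, key] at h'
    refine (Fintype.sum_equiv (Equiv.ofBijective _ hb) _ _ fun s => ?_).symm
    rw [(R.lin (pm σ)).map_smul, Equiv.ofBijective_apply, hσ, lin_apply, tt, tt,
      ← Equiv.Perm.mul_apply, ← map_mul, pm_dg, map_mul, Equiv.Perm.mul_apply]
  refine (Nat.card_congr (Equiv.subtypeEquiv (R.φ (pm σ)) fun v => ?_)).symm
  show R.pr (base k) v = v ↔ R.pr k _ = _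
  rw [comm, (R.φ (pm σ)).injective.eq_iff]

theorem shape : (Nat.card ↥R.P0 = 1 ∧ (∀ k : Fin 13, (k : ℕ) < 4 → Nat.card ↥(R.P k) = 4) ∧
      ∀ k : Fin 13, 4 ≤ (k : ℕ) → Nat.card ↥(R.P k) = 1) ∨
    (Nat.card ↥R.P0 = 4 ∧ (∀ k : Fin 13, 4 ≤ (k : ℕ) → (k : ℕ) < 7 → Nat.card ↥(R.P k) = 4) ∧
      ∀ k : Fin 13, (k : ℕ) < 4 ∨ 7 ≤ (k : ℕ) → Nat.card ↥(R.P k) = 1) := by
  classical
  have hc := Nat.card_congr R.splitEquiv
  rw [R.card, Nat.card_prod, Nat.card_pi, Finset.prod_congr rfl fun k _ => R.card_base k] at hc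
  have ha := R.card_P 0
  have hb := R.card_P 4
  have hd := R.card_P 7
  simp only [Fin.prod_univ_succ, Fin.prod_univ_zero] at hc
  simp only [base, Fin.val_zero, Fin.val_succ] at hc
  norm_num at hc
  generalize hn0 : Nat.card ↥R.P0 = n0 at hc ⊢
  have hn0' : n0 ∣ 256 := by rw [← hn0, ← R.card]; exact AddSubgroup.card_addSubgroup_dvd_card _
  simp only [List.mem_cons, List.not_mem_nil, or_false] at ha hb hd
  have fin : (n0 = 1 ∧ Nat.card ↥(R.P 0) = 4 ∧ Nat.card ↥(R.P 4) = 1 ∧ Nat.card ↥(R.P 7) = 1) ∨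
      (n0 = 4 ∧ Nat.card ↥(R.P 0) = 1 ∧ Nat.card ↥(R.P 4) = 4 ∧ Nat.card ↥(R.P 7) = 1) := by
    by_cases htriv : Nat.card ↥(R.P 0) = 1 ∧ Nat.card ↥(R.P 4) = 1 ∧ Nat.card ↥(R.P 7) = 1
    · exfalso
      have hfix : ∀ s v, R.tt s v = v := by
        intro s v
        conv_rhs => rw [R.split v]
        conv_lhs => rw [R.split v, R.tt_map_add, R.tt_sum, R.tt_pr0]
        congr 1
        refine Finset.sum_congr rfl fun k _ => ?_
        have h1 : Nat.card ↥(R.P k) = 1 := by
          rw [R.card_base k]; unfold base; split_ifs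
          exacts [htriv.1, htriv.2.1, htriv.2.2]
        haveI := (Nat.card_eq_one_iff_unique.1 h1).1
        exact congrArg Subtype.val (Subsingleton.elim (α := ↥(R.P k))
          ⟨_, R.tt_mem s (R.pr_mem k v)⟩ ⟨_, R.pr_mem k v⟩)
      refine dg_ne_one (s := tl 3) (i := 0) (by decide +kernel) (R.inj ?_)
      rw [map_one]
      exact Equiv.ext (hfix (tl 3))
    have hle : n0 ≤ 256 := Nat.le_of_dvd (by norm_num) hn0'
    generalize Nat.card ↥(R.P 0) = a at *
    generalize Nat.card ↥(R.P 4) = b at *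
    generalize Nat.card ↥(R.P 7) = c at *
    rcases ha with rfl | rfl | rfl | rfl | rfl <;> rcases hb with rfl | rfl | rfl | rfl | rfl <;>
      rcases hd with rfl | rfl | rfl | rfl | rfl <;>
        first | omega | (norm_num at hc htriv ⊢)
  have base_eq : ∀ k : Fin 13, Nat.card ↥(R.P k) = Nat.card ↥(R.P
      (if (k : ℕ) < 4 then 0 else if (k : ℕ) < 7 then 4 else 7)) := R.card_base
  rcases fin with ⟨e0, ea, eb, ec⟩ | ⟨e0, ea, eb, ec⟩
  · refine Or.inl ⟨e0, fun k hk => by rw [base_eq, if_pos hk, ea], fun k hk => ?_⟩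
    rw [base_eq, if_neg (by omega)]; split_ifs <;> assumption
  · refine Or.inr ⟨e0, fun k h4 h7 => by rw [base_eq, if_neg (by omega), if_pos h7, eb],
      fun k hk => ?_⟩
    rcases hk with h | h
    · rw [base_eq, if_pos h, ea]
    · rw [base_eq, if_neg (by omega), if_neg (by omega), ec]

end Rep

end Cfsg.Agent.H49.UChar
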