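import Cfsg.Agent.H49.UChar.Count
import Cfsg.Agent.H49.UChar.Isolated
import Cfsg.Agent.H49.USix.Swap

/-!
The natural case: the group is the unitary group in dimension six or `z` is isolated.
-/

set_option autoImplicit false

namespace Cfsg.Agent.H49.UChar

open Cfsg

/-- The conclusion in the natural case. -/
theorem core_main {G : Type*} [Group G] [Finite G] {z : G} {Q : Subgroup G} (S : USix.Core z Q)
    (hE : Cfsg.IsExtraspecial 2 ↥Q) :
    (∃ (F : Type) (_ : Field F) (_ : Fintype F), Fintype.card F = 4 ∧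
      Nonempty (G ≃* Cfsg.PSU 6 F 2)) ∨
    Subgroup.centralizer ({z} : Set G) ⊔ Cfsg.oddCore G = ⊤ := by
  rcases eps_dichotomy S with h | h
  · rcases untwisted S hE h with h' | ⟨⟨F⟩⟩
    · exact Or.inr (sup_oddCore_top S.z_sq S.z_ne h')
    · obtain ⟨seed⟩ := F.seed
      exact Or.inl seed.recognise
  · exact Or.inr (sup_oddCore_top S.z_sq S.z_ne fun g => twisted_isolated S hE h)

end Cfsg.Agent.H49.UChar
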