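import Cfsg.Agent.H49.UChar.PreBasic

/-!
When the core quotient splits as a fixed plane and three further planes, the involution is isolated.
-/

set_option autoImplicit false
set_option maxRecDepth 20000
set_option maxHeartbeats 1000000
set_option linter.unusedSectionVars false
set_option linter.unusedFintypeInType false
set_option linter.style.haveILetI false

namespace Cfsg.Agent.H49.UChar

open Cfsg
open Cfsg.Agent.H92.ExtraForm (zp zp_inj)
open Cfsg.Agent.H49.USix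
open H76.LocallyS3 (cj cj_cj cj_injective)

namespace Rep

variable {V : Type*} [AddCommGroup V] [Module (ZMod 2) V] [Finite V] (R : Rep V)

theorem disp_disp {a : SU4} (h2 : a * a = 1) (w : V) : R.disp a (R.disp a w) = 0 := by
  rw [disp_apply, disp_apply, R.add, ← Equiv.Perm.mul_apply, ← map_mul, h2, map_one,
    Equiv.Perm.one_apply, add_comm (R.φ a w) w, R.vv]

theorem range_perp {a : SU4} (w : V) {k : V} (hk : R.disp a k = 0) : R.B (R.disp a w) k = 0 := by
  rw [disp_apply, R.B_add_left]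
  nth_rw 2 [← R.fix_of_disp hk]
  rw [R.B_inv]
  exact ZModModule.add_self _

theorem range_four {a : SU4} (hcard : Nat.card ↥(R.disp a).range = 4) :
    ∃ w₁ w₂ : V, ∀ v, R.disp a v = 0 ∨ R.disp a (v + w₁) = 0 ∨ R.disp a (v + w₂) = 0 ∨
      R.disp a (v + w₁ + w₂) = 0 := by
  classical
  haveI := Fintype.ofFinite ↥(R.disp a).range
  obtain ⟨a₁, ha₁⟩ : ∃ u : ↥(R.disp a).range, u ≠ 0 := by
    haveI : Nontrivial ↥(R.disp a).range := Finite.one_lt_card_iff_nontrivial.1 (by omega)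
    exact exists_ne 0
  obtain ⟨a₂, ha₂, ha₂'⟩ : ∃ u : ↥(R.disp a).range, u ≠ 0 ∧ u ≠ a₁ := by
    by_contra hcon
    push Not at hcon
    have hsub : (Finset.univ : Finset ↥(R.disp a).range) ⊆ {0, a₁} := fun u _ => by
      by_cases h : u = 0
      · simp [h]
      · simp [hcon u h]
    have := (Finset.card_le_card hsub).trans Finset.card_le_two
    rw [Finset.card_univ, ← Nat.card_eq_fintype_card] at this
    omega
  have huniv : ({0, a₁, a₂, a₁ + a₂} : Finset ↥(R.disp a).range) = Finset.univ := by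
    refine Finset.eq_univ_of_card _ ?_
    rw [← Nat.card_eq_fintype_card, hcard]
    have h12 : a₁ + a₂ ≠ 0 := fun e => ha₂' (by
      have := eq_neg_of_add_eq_zero_right e
      rw [this]; exact Subtype.ext (ZModModule.neg_eq_self _))
    rw [Finset.card_insert_of_notMem (by simp [Ne.symm ha₁, Ne.symm ha₂, Ne.symm h12]),
      Finset.card_insert_of_notMem (by
        simp only [Finset.mem_insert, Finset.mem_singleton, not_or]
        exact ⟨Ne.symm ha₂', fun e => ha₂ (left_eq_add.1 e)⟩),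
      Finset.card_insert_of_notMem (by
        simp only [Finset.mem_singleton]
        exact fun e => ha₁ (right_eq_add.1 e)), Finset.card_singleton]
  obtain ⟨w₁, hw₁⟩ := a₁.2
  obtain ⟨w₂, hw₂⟩ := a₂.2
  refine ⟨w₁, w₂, fun v => ?_⟩
  have h : (⟨R.disp a v, v, rfl⟩ : ↥(R.disp a).range) ∈
      ({0, a₁, a₂, a₁ + a₂} : Finset ↥(R.disp a).range) := by rw [huniv]; exact Finset.mem_univ _
  simp only [Finset.mem_insert, Finset.mem_singleton] at h
  rcases h with e | e | e | e <;> replace e := congrArg Subtype.val e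
  · exact Or.inl e
  · refine Or.inr (Or.inl ?_)
    rw [map_add, hw₁, show R.disp a v = a₁.1 from e]; exact R.vv _
  · refine Or.inr (Or.inr (Or.inl ?_))
    rw [map_add, hw₂, show R.disp a v = a₂.1 from e]; exact R.vv _
  · refine Or.inr (Or.inr (Or.inr ?_))
    rw [map_add, map_add, hw₁, hw₂, show R.disp a v = a₁.1 + a₂.1 from e]
    rw [show a₁.1 + a₂.1 + a₁.1 + a₂.1 = (a₁.1 + a₁.1) + (a₂.1 + a₂.1) by abel, R.vv, R.vv,
      add_zero]

/-- What is orthogonal to the fixed space is a displacement. -/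
theorem perp_ker {a : SU4} (hcard : Nat.card ↥(R.disp a).range = 4) {u : V}
    (hu : ∀ k, R.disp a k = 0 → R.B u k = 0) : ∃ w, R.disp a w = u := by
  classical
  obtain ⟨w₁, w₂, hw⟩ := R.range_four hcard
  let Pp : AddSubgroup V :=
    { carrier := {u | ∀ k, R.disp a k = 0 → R.B u k = 0}
      zero_mem' := fun k _ => by
        have h := R.B_add_left 0 0 k
        rw [add_zero] at h
        exact left_eq_add.1 h
      add_mem' := fun hu hv k hk => by rw [R.B_add_left, hu k hk, hv k hk, add_zero]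
      neg_mem' := fun {u} hu k hk => by rw [ZModModule.neg_eq_self]; exact hu k hk }
  have hle : (R.disp a).range ≤ Pp := by
    rintro _ ⟨w, rfl⟩ k hk
    exact R.range_perp w hk
  have hcardP : Nat.card ↥Pp ≤ 4 := by
    refine le_trans (Nat.card_le_card_of_injective
      (fun u : ↥Pp => (R.B u.1 w₁, R.B u.1 w₂)) fun u v e => Subtype.ext ?_) (le_of_eq (by simp))
    have e₁ : R.B u.1 w₁ = R.B v.1 w₁ := congrArg Prod.fst e
    have e₂ : R.B u.1 w₂ = R.B v.1 w₂ := congrArg Prod.snd e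
    have h : ∀ y, R.B (u.1 + v.1) y = 0 := by
      intro y
      have hperp : ∀ k, R.disp a k = 0 → R.B (u.1 + v.1) k = 0 := fun k hk => (add_mem u.2 v.2 : _ ∈ Pp) k hk
      have h₁ : R.B (u.1 + v.1) w₁ = 0 := by rw [R.B_add_left, e₁]; exact ZModModule.add_self _
      have h₂ : R.B (u.1 + v.1) w₂ = 0 := by rw [R.B_add_left, e₂]; exact ZModModule.add_self _
      rcases hw y with k | k | k | k <;> have h' := hperp _ k
      · exact h'
      · rwa [R.B_add_right, h₁, add_zero] at h'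
      · rwa [R.B_add_right, h₂, add_zero] at h'
      · rwa [R.B_add_right, R.B_add_right, h₁, h₂, add_zero, add_zero] at h'
    have := R.nondeg _ h
    rwa [add_eq_zero_iff_eq_neg, ZModModule.neg_eq_self] at this
  have heq := AddSubgroup.eq_of_le_of_card_ge hle (by omega)
  have : u ∈ (R.disp a).range := heq ▸ (show u ∈ Pp from hu)
  exact this

end Rep

namespace Pre

variable {G : Type*} [Group G] [Finite G] {z : G} {J : Subgroup G} (P : Pre z J)
  (h0 : Nat.card ↥P.R.P0 = 4)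
  (h3 : ∀ k : Fin 13, 4 ≤ (k : ℕ) → (k : ℕ) < 7 → Nat.card ↥(P.R.P k) = 4)
  (h1 : ∀ k : Fin 13, (k : ℕ) < 4 ∨ 7 ≤ (k : ℕ) → Nat.card ↥(P.R.P k) = 1)

include h0 h3 h1

/-- No other conjugate of `z` is in the core. -/
theorem no_conj_J {g : G} (hy : cj g z ∈ J) : cj g z = z := by
  classical
  by_contra hne
  set x := cj g z with hx
  obtain ⟨b, hb5, hb1, hbx⟩ := P.R.exists_five h3 h1 (P.π x)
  obtain ⟨d, hd, hdb, hd5⟩ := P.exists_lift (m := 16) hb5
    (by rw [show (16 : ℕ) = 5 * 3 + 1 from rfl, pow_succ, pow_mul, hb5, one_pow, one_mul])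
    (by norm_num)
  have h5 : Odd 5 := by decide
  have hdx : d * x = x * d := P.odd_comm hd h5 hd5 hy (by rw [hdb]; exact hbx)
  obtain ⟨u, w, hu, hw, hux, hwx, huw⟩ := P.R.exists_fix_pair h0 h3 h1 hb5 hbx
  obtain ⟨c, hc, rfl⟩ := P.π_surj u
  obtain ⟨e, he, rfl⟩ := P.π_surj w
  have hdc : d * c = c * d := P.odd_comm hd h5 hd5 hc (by rw [hdb]; exact hu)
  have hde : d * e = e * d := P.odd_comm hd h5 hd5 he (by rw [hdb]; exact hw)
  have hcx : c * x = x * c := (P.comm_iff hc hy).2 hux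
  have hex : e * x = x * e := (P.comm_iff he hy).2 hwx
  have hec : e * c = c * e * z := by
    have h := P.comm c hc e he
    rw [huw] at h
    simpa [zp] using h
  have back : ∀ {a : G}, a * x = x * a → cj g⁻¹ a * z = z * cj g⁻¹ a := fun h => cj_back h
  have hc' := back hcx
  have he' := back hex
  have hd' := back hdx
  have pw : ∀ (a : G) (n : ℕ), cj g⁻¹ a ^ n = cj g⁻¹ (a ^ n) := fun a n => by
    simp only [cj, conj_pow]
  have hd'1 : P.sg (cj g⁻¹ d) ≠ 1 := fun h => by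
    have h4 := P.pow_four ((P.sg_eq_one hd').1 h)
    have h5' : cj g⁻¹ d ^ 5 = 1 := by rw [pw, hd5]; simp [cj]
    have h1' : cj g⁻¹ d = 1 := by rw [pow_succ, h4, one_mul] at h5'; exact h5'
    have hd1 : d = 1 := cj_injective g⁻¹ (h1'.trans (by simp [cj]))
    rw [hd1, P.sg_one] at hdb
    exact hb1 hdb.symm
  have hkey : ∀ {a : G}, a ∈ J → cj g⁻¹ a * z = z * cj g⁻¹ a → d * a = a * d → cj g⁻¹ a ∈ J := by
    intro a ha haz hda
    refine (P.sg_eq_one haz).1 (five_four ?_ (b := P.sg (cj g⁻¹ d)) ?_ hd'1 ?_)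
    · rw [← P.sg_pow haz, pw, P.pow_four ha, show cj g⁻¹ (1 : G) = 1 by simp [cj], P.sg_one]
    · rw [← P.sg_pow hd', pw, hd5, show cj g⁻¹ (1 : G) = 1 by simp [cj], P.sg_one]
    · show P.sg _ * P.sg _ = P.sg _ * P.sg _
      rw [← P.sg_mul haz hd', ← P.sg_mul hd' haz, ← cj_mul', ← cj_mul', hda]
  have hcJ := hkey hc hc' hdc
  have heJ := hkey he he' hde
  have hec' := congrArg (cj g⁻¹) hec
  rw [cj_mul', cj_mul', cj_mul', P.comm _ hcJ _ heJ, mul_right_inj] at hec'
  have hgz : cj g⁻¹ z = z := by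
    rw [← hec']
    unfold zp
    rw [if_neg]
    intro h0'
    rw [show zp z _ = (1 : G) from if_pos h0', eq_comm, cj, mul_inv_eq_one, mul_eq_left] at hec'
    exact P.z_ne hec'
  exact hne (by
    rw [hx]
    nth_rw 1 [← hgz]
    rw [cj_cj, mul_inv_cancel, cj_one'])

/-- Elements of the core that `x` fixes modulo `z` commute with `x`. -/
def Full (x : G) : Prop := ∀ q ∈ J, P.R.disp (P.sg x) (P.π q) = 0 → x * q = q * x

/-- A conjugate commuting with `z` is full. -/
theorem full_conj {g : G} (hxz : cj g z * z = z * cj g z) (hne : cj g z ≠ z) :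
    P.Full (cj g z) := by
  classical
  intro e he hde
  by_contra hxe
  set x := cj g z with hxdef
  have hx2 : x * x = 1 := cj_self_sq P.z_sq
  have hxi : x⁻¹ = x := inv_eq_of_mul_eq_one_right hx2
  have hxJ : x ∉ J := fun h => hne (P.no_conj_J h0 h3 h1 h)
  set a := P.sg x with ha
  have ha2 : a * a = 1 := by rw [ha, ← P.sg_mul hxz hxz, hx2, P.sg_one]
  have ha1 : a ≠ 1 := fun h => hxJ ((P.sg_eq_one hxz).1 h)
  have hcard := P.R.disp_card h3 h1 ha2 ha1
  have flip : ∀ {q : G}, q ∈ J → P.R.disp a (P.π q) = 0 → cj x q = q ∨ cj x q = z * q :=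
    fun hq h => P.cj_of_fix hxz hq (P.R.fix_of_disp h)
  have hxe' : cj x e = z * e := (flip he hde).resolve_left fun h => hxe (cj_fix_iff.1 h)
  have hex : cj e x = x * z := by
    have h1' : x * e * x = z * e := by rw [← hxe', cj, hxi]
    calc cj e x = e * x * e⁻¹ := rfl
      _ = x * (x * e * x) * e⁻¹ := by
          rw [show x * (x * e * x) = x * x * e * x by group, hx2, one_mul]
      _ = x * z := by rw [h1']; group
  -- the fixed elements of the core
  set F := J ⊓ Subgroup.centralizer ({x} : Set G) with hF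
  have memF : ∀ {q : G}, q ∈ F ↔ q ∈ J ∧ q * x = x * q := by
    intro q
    rw [hF, Subgroup.mem_inf, Subgroup.mem_centralizer_singleton_iff]
  have Fker : ∀ {q : G}, q ∈ F → P.R.disp a (P.π q) = 0 := fun {q} hq => by
    rw [Rep.disp_apply, ← P.π_cj hxz (memF.1 hq).1, cj_fix_iff.2 (memF.1 hq).2.symm, P.R.vv]
  have hcover : ∀ {q : G}, q ∈ J → P.R.disp a (P.π q) = 0 → q ∈ F ∨ e⁻¹ * q ∈ F := by
    intro q hq h
    rcases flip hq h with h' | h'
    · exact Or.inl (memF.2 ⟨hq, (cj_fix_iff.1 h').symm⟩)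
    · refine Or.inr (memF.2 ⟨mul_mem (inv_mem he) hq, (cj_fix_iff.1 ?_).symm⟩)
      rw [cj_mul', h', show cj x e⁻¹ = (cj x e)⁻¹ by simp [cj, mul_assoc], hxe', mul_inv_rev]
      group
  have hF64 : 64 ≤ Nat.card ↥F := by
    have hker : Nat.card ↥(P.R.disp a).ker = 64 := by
      have h := (P.R.disp a).ker.card_mul_index
      rw [AddSubgroup.index_ker, hcard, P.R.card] at h
      omega
    choose L hL hLπ using P.π_surj
    let Kd := {q : G // q ∈ J ∧ P.R.disp a (P.π q) = 0}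
    have h128 : 128 ≤ Nat.card Kd := by
      refine le_trans (le_of_eq ?_) (Nat.card_le_card_of_injective
        (fun p : ↥(P.R.disp a).ker × ZMod 2 => (⟨zp z p.2 * L p.1.1,
          mul_mem (by unfold zp; split_ifs; exacts [one_mem _, P.hzJ]) (hL _), by
            rw [P.π_mul _ (by unfold zp; split_ifs; exacts [one_mem _, P.hzJ]) _ (hL _), hLπ,
              show P.π (zp z p.2) = 0 by unfold zp; split_ifs; exacts [P.π_one, P.π_z], zero_add]
            exact p.1.2⟩ : Kd)) ?_)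
      · rw [Nat.card_prod, hker, Nat.card_zmod]
      · rintro ⟨v, s⟩ ⟨v', s'⟩ e'
        have e'' : zp z s * L v.1 = zp z s' * L v'.1 := congrArg Subtype.val e'
        have hv : v = v' := Subtype.ext (by
          have hzs : ∀ t : ZMod 2, zp z t ∈ J ∧ P.π (zp z t) = 0 := fun t => by
            unfold zp; split_ifs
            exacts [⟨one_mem _, P.π_one⟩, ⟨P.hzJ, P.π_z⟩]
          have h := congrArg P.π e''
          rwa [P.π_mul _ (hzs s).1 _ (hL _), P.π_mul _ (hzs s').1 _ (hL _), hLπ, hLπ, (hzs s).2,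
            (hzs s').2, zero_add, zero_add] at h)
        subst hv
        exact Prod.ext rfl (zp_inj P.z_ne (mul_right_cancel e''))
    have hle : Nat.card Kd ≤ Nat.card (Bool × ↥F) :=
      Nat.card_le_card_of_injective (fun q : Kd => if h : q.1 ∈ F then (true, ⟨q.1, h⟩)
        else (false, ⟨e⁻¹ * q.1, (hcover q.2.1 q.2.2).resolve_left h⟩)) fun q r e' => by
          dsimp only at e'
          split_ifs at e' <;> simp only [Prod.mk.injEq, Subtype.mk.injEq, mul_right_inj,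
            Bool.true_eq_false, Bool.false_eq_true, true_and, false_and] at e'
          all_goals exact Subtype.ext e'
    rw [Nat.card_prod, Nat.card_eq_fintype_card (α := Bool), Fintype.card_bool] at hle
    omega
  -- the conjugate core
  set R := J.map (MulAut.conj g).toMonoidHom with hR
  have memR : ∀ {r : G}, r ∈ R ↔ cj g⁻¹ r ∈ J := by
    intro r
    constructor
    · rintro ⟨q, hq, rfl⟩
      rw [show (MulAut.conj g).toMonoidHom q = cj g q from rfl, cj_inv_cj']; exact hq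
    · intro h
      exact ⟨_, h, show cj g (cj g⁻¹ r) = r by rw [cj_cj, mul_inv_cancel, cj_one']⟩
  have back : ∀ {c : G}, c * x = x * c → cj g⁻¹ c * z = z * cj g⁻¹ c := fun h => cj_back h
  have normR : ∀ {c : G}, c * x = x * c → ∀ {r : G}, r ∈ R → cj c r ∈ R := by
    intro c hc r hr
    rw [memR, show cj g⁻¹ (cj c r) = cj g⁻¹ c * cj g⁻¹ r * (cj g⁻¹ c)⁻¹ by simp [cj, mul_assoc]]
    exact P.norm _ (back hc) _ (memR.1 hr)
  have hzR : z ∉ R := fun h => hne (by
    have h' := P.no_conj_J h0 h3 h1 (memR.1 h)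
    conv_lhs => rw [hxdef, ← h']
    rw [cj_cj, mul_inv_cancel, cj_one'])
  have onlyx : ∀ {h : G}, cj h x ∈ R → cj h x = x := fun {h} hm => by
    have h' := P.no_conj_J h0 h3 h1 (g := g⁻¹ * (h * g)) (by
      rw [← cj_cj, ← cj_cj, ← hxdef]; exact memR.1 hm)
    rw [← cj_cj, ← cj_cj, ← hxdef] at h'
    have := congrArg (cj g) h'
    rwa [cj_cj, mul_inv_cancel, cj_one', ← hxdef] at this
  have hxR : x ∈ R := ⟨z, P.hzJ, rfl⟩
  set I := F ⊓ R with hI
  have invI : ∀ {i : G}, i ∈ I → i * i = 1 := by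
    intro i hi
    have hi' := (memF.1 hi.1).1
    rw [P.sq i hi']
    rcases Cfsg.Agent.H92.ExtraForm.two_cases (P.R.q (P.π i)) with e' | e'
    · simp [zp, e']
    · exfalso
      refine hzR ?_
      have := R.mul_mem hi.2 hi.2
      rwa [P.sq i hi', e', show zp z (1 : ZMod 2) = z by simp [zp]] at this
  have centI : ∀ {i q : G}, i ∈ I → q ∈ F → q * i = i * q := by
    intro i q hi hq
    refine cj_fix_iff.1 ?_
    have hqJ := (memF.1 hq).1
    have hiJ := (memF.1 hi.1).1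
    rcases P.π_eq hiJ (P.cj_mem (P.cz_J hqJ) hiJ)
      (by rw [P.π_cj (P.cz_J hqJ) hiJ, P.sg_J hqJ, map_one]; rfl) with h | h
    · exact h
    · refine absurd ?_ hzR
      rw [show z = cj q i * i⁻¹ by rw [h, mul_inv_cancel_right]]
      exact R.mul_mem (normR (memF.1 hq).2 hi.2) (R.inv_mem hi.2)
  have Irange : ∀ {i : G}, i ∈ I → (∃ w, P.R.disp a w = P.π i) → i = 1 := by
    rintro i hi ⟨w, hw⟩
    obtain ⟨hiJ, hix⟩ := memF.1 hi.1
    obtain ⟨r, hr, rfl⟩ := P.π_surj w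
    obtain ⟨hm, hmπ⟩ := P.π_move hxz hr
    rw [← ha, hw] at hmπ
    have hfin : ∀ h : G, cj h x = i * x → i = 1 := fun h e' => by
      have := onlyx (h := h) (by rw [e']; exact R.mul_mem hi.2 hxR)
      rw [e'] at this
      exact mul_eq_right.1 this
    rcases P.π_eq hiJ hm hmπ.symm with e' | e'
    · exact hfin r (by rw [P.cj_eq_move, e'])
    · refine hfin (r * e) ?_
      rw [← cj_cj, hex, cj_mul' r x z, P.cj_eq_move, e', P.cj_z (P.cz_J hr)]
      calc z * i * x * z = z * i * (z * x) := by rw [mul_assoc (z * i), hxz]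
        _ = z * (i * z) * x := by simp only [mul_assoc]
        _ = i * x := by rw [P.cz_J hiJ, ← mul_assoc z z i, P.z_sq, one_mul]
  have Iperp : ∀ {i : G}, i ∈ I → P.R.B (P.π i) (P.π e) = 0 → i = 1 := by
    intro i hi hie
    refine Irange hi (P.R.perp_ker hcard fun k hk => ?_)
    obtain ⟨q, hq, rfl⟩ := P.π_surj k
    obtain ⟨hiJ, -⟩ := memF.1 hi.1
    rcases hcover hq hk with h | h
    · exact (P.comm_iff hiJ hq).1 (centI hi h).symm
    · have h' := (P.comm_iff hiJ (memF.1 h).1).1 (centI hi h).symm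
      rwa [P.π_mul _ (inv_mem he) _ hq, P.π_inv he, P.R.B_add_right, hie, zero_add] at h'
  have hI2 : Nat.card ↥I ≤ 2 := by
    refine le_trans (Nat.card_le_card_of_injective (fun i : ↥I => P.R.B (P.π i.1) (P.π e))
      fun i j e' => ?_) (le_of_eq (Nat.card_zmod 2))
    dsimp only at e'
    have hij : i.1 * j.1 = 1 := Iperp (I.mul_mem i.2 j.2) (by
      rw [P.π_mul _ (memF.1 i.2.1).1 _ (memF.1 j.2.1).1, P.R.B_add_left, e']
      exact ZModModule.add_self _)
    exact Subtype.ext ((eq_inv_of_mul_eq_one_left hij).trans (inv_eq_of_mul_eq_one_right (invI j.2)))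
  -- the image
  let ψ : ↥F →* Equiv.Perm W4 := MonoidHom.mk' (fun q => Ahom (P.sg (cj g⁻¹ q.1))) fun p q => by
    show Ahom (P.sg (cj g⁻¹ (p.1 * q.1))) = _
    rw [cj_mul', P.sg_mul (back (memF.1 p.2).2) (back (memF.1 q.2).2), map_mul]
  have kerψ : ∀ q : ↥F, ψ q = 1 ↔ q.1 ∈ R := by
    intro q
    rw [memR, ← P.sg_eq_one (back (memF.1 q.2).2)]
    exact ⟨fun h => Ahom_inj (h.trans (map_one _).symm), fun h => by
      show Ahom _ = 1
      rw [h, map_one]⟩
  have hiso : ∀ m ∈ ψ.range, Iso m := by rintro _ ⟨q, rfl⟩; exact Ahom_iso _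
  have hp2 : IsPGroup 2 ↥ψ.range := by
    rintro ⟨m, q, rfl⟩
    refine ⟨2, Subtype.ext ?_⟩
    show ψ q ^ (2 ^ 2) = 1
    rw [← map_pow, show q ^ (2 ^ 2) = 1 from Subtype.ext (P.pow_four (memF.1 q.2).1), map_one]
  have hzF : z ∈ F := memF.2 ⟨P.hzJ, hxz.symm⟩
  have hM32 : Nat.card ↥ψ.range ≤ 32 := by
    refine no_small_derived hiso hp2 (c := ψ ⟨z, hzF⟩) ?_
    rintro _ ⟨p, rfl⟩ _ ⟨q, rfl⟩
    rw [← map_inv, ← map_inv, ← map_mul, ← map_mul, ← map_mul]
    have h : p.1 * q.1 * p.1⁻¹ * q.1⁻¹ = 1 ∨ p.1 * q.1 * p.1⁻¹ * q.1⁻¹ = z := by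
      rcases P.π_eq (memF.1 q.2).1 (P.cj_mem (P.cz_J (memF.1 p.2).1) (memF.1 q.2).1)
        (by rw [P.π_cj (P.cz_J (memF.1 p.2).1) (memF.1 q.2).1, P.sg_J (memF.1 p.2).1, map_one]; rfl)
        with h | h
      · exact Or.inl (by rw [show p.1 * q.1 * p.1⁻¹ = q.1 from h, mul_inv_cancel])
      · exact Or.inr (by rw [show p.1 * q.1 * p.1⁻¹ = z * q.1 from h, mul_inv_cancel_right])
    rcases h with h | h
    · exact Or.inl ((congrArg ψ (Subtype.ext h : p * q * p⁻¹ * q⁻¹ = 1)).trans (map_one _))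
    · exact Or.inr (congrArg ψ (Subtype.ext h))
  have hker : Nat.card ↥ψ.ker ≤ Nat.card ↥I := Nat.card_le_card_of_injective
    (fun q : ↥ψ.ker => (⟨q.1.1, q.1.2, (kerψ q.1).1 q.2⟩ : ↥I))
    fun p q e' => Subtype.ext (Subtype.ext (congrArg Subtype.val e' :))
  have hprod : Nat.card ↥ψ.ker * Nat.card ↥ψ.range = Nat.card ↥F := by
    rw [← Subgroup.card_mul_index ψ.ker, Subgroup.index_ker]
  have hM : 32 ≤ Nat.card ↥ψ.range := by
    have := Nat.mul_le_mul_right (Nat.card ↥ψ.range) (hker.trans hI2)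
    omega
  obtain ⟨i, hi, hi1⟩ : ∃ i ∈ I, i ≠ 1 := by
    by_contra hcon
    push Not at hcon
    have h1' : Nat.card ↥I ≤ 1 := Finite.card_le_one_iff_subsingleton.2
      ⟨fun p q => Subtype.ext ((hcon p.1 p.2).trans (hcon q.1 q.2).symm)⟩
    have := Nat.mul_le_mul_right (Nat.card ↥ψ.range) (hker.trans h1')
    omega
  have hie : P.R.B (P.π i) (P.π e) = 1 :=
    (Cfsg.Agent.H92.ExtraForm.two_cases _).resolve_left fun h => hi1 (Iperp hi h)
  -- the displacements
  let D : Subgroup ↥F :=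
    { carrier := {q | P.π q.1 ∈ (P.R.disp a).range}
      one_mem' := by
        show P.π (1 : G) ∈ (P.R.disp a).range
        rw [P.π_one]; exact zero_mem _
      mul_mem' := fun {p q} hp hq => by
        show P.π (p.1 * q.1) ∈ (P.R.disp a).range
        rw [P.π_mul _ (memF.1 p.2).1 _ (memF.1 q.2).1]; exact add_mem hp hq
      inv_mem' := fun {p} hp => by
        show P.π p.1⁻¹ ∈ (P.R.disp a).range
        rw [P.π_inv (memF.1 p.2).1]; exact hp }
  have hDmem : ∀ {q : G}, q ∈ J → P.π q ∈ (P.R.disp a).range → q ∈ F := by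
    rintro q hq ⟨w, hw⟩
    have hk : P.R.disp a (P.π q) = 0 := by rw [← hw]; exact P.R.disp_disp ha2 w
    refine (hcover hq hk).resolve_right fun h => ?_
    obtain ⟨hiJ, -⟩ := memF.1 hi.1
    have h' := (P.comm_iff hiJ (memF.1 h).1).1 (centI hi h).symm
    rw [P.π_mul _ (inv_mem he) _ hq, P.π_inv he, P.R.B_add_right, hie, ← hw,
      P.R.B_comm (P.π i) (P.R.disp a w), P.R.range_perp w (Fker hi.1), add_zero] at h'
    exact one_ne_zero h'
  refine no_central_eight (E := D.map ψ) hiso hp2 ?_ ?_ ?_ hM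
  · rintro _ ⟨q, -, rfl⟩; exact ⟨q, rfl⟩
  · rintro _ ⟨p, hp, rfl⟩ _ ⟨q, rfl⟩
    rw [← map_mul, ← map_mul]
    refine congrArg ψ (Subtype.ext ?_)
    obtain ⟨w, hw⟩ := hp
    show q.1 * p.1 = p.1 * q.1
    refine (P.comm_iff (memF.1 q.2).1 (memF.1 p.2).1).2 ?_
    rw [P.R.B_comm, ← hw]
    exact P.R.range_perp w (Fker q.2)
  · choose L hL hLπ using P.π_surj
    have hzs : ∀ t : ZMod 2, zp z t ∈ J ∧ P.π (zp z t) = 0 := fun t => by
      unfold zp; split_ifs
      exacts [⟨one_mem _, P.π_one⟩, ⟨P.hzJ, P.π_z⟩]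
    have hq : ∀ p : ↥(P.R.disp a).range × ZMod 2, zp z p.2 * L p.1.1 ∈ J ∧
        P.π (zp z p.2 * L p.1.1) = p.1.1 := fun p => by
      refine ⟨mul_mem (hzs p.2).1 (hL _), ?_⟩
      rw [P.π_mul _ (hzs p.2).1 _ (hL _), hLπ, (hzs p.2).2, zero_add]
    let T : ↥(P.R.disp a).range × ZMod 2 → ↥(D.map ψ) := fun p =>
      ⟨ψ ⟨zp z p.2 * L p.1.1, hDmem (hq p).1 (by rw [(hq p).2]; exact p.1.2)⟩, _, by
        show P.π (zp z p.2 * L p.1.1) ∈ (P.R.disp a).range
        rw [(hq p).2]; exact p.1.2, rfl⟩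
    refine le_trans (le_of_eq ?_) (Nat.card_le_card_of_injective T ?_)
    · rw [Nat.card_prod, hcard, Nat.card_zmod]
    · intro p p' e'
      have e'' : ψ ⟨zp z p.2 * L p.1.1, hDmem (hq p).1 (by rw [(hq p).2]; exact p.1.2)⟩ =
          ψ ⟨zp z p'.2 * L p'.1.1, hDmem (hq p').1 (by rw [(hq p').2]; exact p'.1.2)⟩ :=
        congrArg Subtype.val e'
      rw [← mul_inv_eq_one, ← map_inv, ← map_mul, kerψ] at e''
      have hJd : zp z p.2 * L p.1.1 * (zp z p'.2 * L p'.1.1)⁻¹ ∈ J :=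
        mul_mem (hq p).1 (inv_mem (hq p').1)
      have hπd : P.π (zp z p.2 * L p.1.1 * (zp z p'.2 * L p'.1.1)⁻¹) = p.1.1 + p'.1.1 := by
        rw [P.π_mul _ (hq p).1 _ (inv_mem (hq p').1), P.π_inv (hq p').1, (hq p).2, (hq p').2]
      have hmem : p.1.1 + p'.1.1 ∈ (P.R.disp a).range := add_mem p.1.2 p'.1.2
      have h' := Irange ⟨hDmem hJd (by rw [hπd]; exact hmem), e''⟩ (by rw [hπd]; exact hmem)
      rw [mul_inv_eq_one] at h'
      have hv : p.1 = p'.1 := Subtype.ext (by rw [← (hq p).2, ← (hq p').2, h'])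
      rw [hv] at h'
      exact Prod.ext hv (zp_inj P.z_ne (mul_right_cancel h'))

/-- The involution is isolated. -/
theorem split_isolated {g : G} (hg : g * z * g⁻¹ * z = z * (g * z * g⁻¹)) :
    g * z * g⁻¹ = z := by
  classical
  by_contra hne
  have hne' : cj g z ≠ z := hne
  set x := cj g z with hxdef
  have hxz : x * z = z * x := hg
  have hx2 : x * x = 1 := cj_self_sq P.z_sq
  have hxJ : x ∉ J := fun h => hne' (P.no_conj_J h0 h3 h1 h)
  have hfull : P.Full x := P.full_conj h0 h3 h1 hxz hne'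
  set y := cj g⁻¹ z with hydef
  have hyz : y * z = z * y := cj_back (g := g) hxz.symm
  have hyne : y ≠ z := fun h => hne' (by
    rw [hxdef]
    nth_rw 1 [← h]
    rw [hydef, cj_cj, mul_inv_cancel, cj_one'])
  have hfully : P.Full y := P.full_conj h0 h3 h1 hyz hyne
  set a := P.sg x with ha
  have ha2 : a * a = 1 := by rw [ha, ← P.sg_mul hxz hxz, hx2, P.sg_one]
  have ha1 : a ≠ 1 := fun h => hxJ ((P.sg_eq_one hxz).1 h)
  have hcard := P.R.disp_card h3 h1 ha2 ha1
  -- the torus element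
  obtain ⟨g₀, σ, hσ, hg₀⟩ : ∃ (g₀ : SU4) (σ : Equiv.Perm (Fin 4)), (σ = swA ∨ σ = swB) ∧
      g₀ * a * g₀⁻¹ = pm σ := by
    obtain ⟨g₀, e | e⟩ := invol_conj ha2 ha1
    exacts [⟨g₀, _, Or.inl rfl, e⟩, ⟨g₀, _, Or.inr rfl, e⟩]
  set t := g₀⁻¹ * dg t₀ * g₀ with ht
  have hta : t * a = a * t := by
    rw [ht, show a = g₀⁻¹ * pm σ * g₀ by rw [← hg₀]; group]
    calc g₀⁻¹ * dg t₀ * g₀ * (g₀⁻¹ * pm σ * g₀) = g₀⁻¹ * (dg t₀ * pm σ) * g₀ := by group
      _ = g₀⁻¹ * (pm σ * dg t₀) * g₀ := by rw [t₀_comm hσ]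
      _ = _ := by group
  have ht3 : t ^ 3 = 1 := by
    have hd : dg t₀ ^ 3 = 1 := by
      rw [pow_succ, pow_succ, pow_one, ← dg_add, ← dg_add, three_t, dg_zero]
    calc t ^ 3 = g₀⁻¹ * dg t₀ ^ 3 * g₀⁻¹⁻¹ := by rw [ht, ← conj_pow, inv_inv]
      _ = 1 := by rw [hd]; group
  have h3' : Odd 3 := by decide
  obtain ⟨d, hd, hdt, hd3⟩ := P.exists_lift (m := 4) ht3
    (by rw [pow_succ, ht3, one_mul]) (dvd_refl 4)
  set x' := cj d x with hx'
  have hx'z : x' * z = z * x' := P.cz_cj hd hxz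
  have hsx' : P.sg x' = a := by
    rw [hx', P.sg_cj hd hxz, hdt, ← ha, hta, mul_inv_cancel_right]
  set m := x' * x with hm
  have hmJ : m ∈ J := (P.sg_eq_one (P.cz_mul hx'z hxz)).1 (by
    rw [P.sg_mul hx'z hxz, hsx', ← ha, ha2])
  have hfull' : ∀ q ∈ J, P.R.disp a (P.π q) = 0 → x' * q = q * x' := by
    intro q hq hk
    have hq' := P.cj_mem (P.cz_inv hd) hq
    have hk' : P.R.disp a (P.π (cj d⁻¹ q)) = 0 := by
      rw [P.π_cj (P.cz_inv hd) hq, P.sg_inv hd, hdt, Rep.disp_apply, ← Equiv.Perm.mul_apply,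
        ← map_mul, show a * t⁻¹ = t⁻¹ * a from (Commute.inv_right (Commute.symm hta)).eq, map_mul,
        Equiv.Perm.mul_apply, P.R.fix_of_disp hk, P.R.vv]
    have h := congrArg (cj d) (hfull _ hq' hk')
    rwa [cj_mul' d x, cj_mul' d _ x, cj_cj d d⁻¹ q, mul_inv_cancel, cj_one', ← hx'] at h
  obtain ⟨w, hw⟩ := P.R.perp_ker hcard (u := P.π m) fun k hk => by
    obtain ⟨q, hq, rfl⟩ := P.π_surj k
    refine (P.comm_iff hmJ hq).1 ?_
    show x' * x * q = q * (x' * x)
    rw [mul_assoc, hfull q hq hk, ← mul_assoc, hfull' q hq hk, mul_assoc]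
  obtain ⟨r, hr, rfl⟩ := P.π_surj w
  obtain ⟨hmv, hmvπ⟩ := P.π_move hxz hr
  rw [← ha, hw] at hmvπ
  have hrz := P.cz_J hr
  set c := r⁻¹ * d with hc
  have hcz : c * z = z * c := P.cz_mul (P.cz_inv hrz) hd
  have hsc : P.sg c = t := by
    rw [hc, P.sg_mul (P.cz_inv hrz) hd, P.sg_J (inv_mem hr), one_mul, hdt]
  have hc3 : c ^ 3 ∈ J := (P.sg_eq_one (P.cz_pow hcz 3)).1 (by rw [P.sg_pow hcz, hsc, ht3])
  rcases P.π_eq hmJ hmv hmvπ.symm with e | e
  swap
  · -- the twisted choice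
    have hcx : cj c x = z * x := by
      rw [hc, ← cj_cj, ← hx', show x' = z * cj r x by
        rw [P.cj_eq_move, e, hm]
        simp only [← mul_assoc, P.z_sq, one_mul]
        rw [mul_assoc, hx2, mul_one], cj_mul' r⁻¹ z (cj r x), cj_inv_cj', P.cj_z (P.cz_inv hrz)]
    have hc3x : cj (c ^ 3) x = z * x := by
      rw [pow_succ, pow_succ, pow_one, ← cj_cj, hcx, cj_mul' _ z x, P.cj_z (P.cz_mul hcz hcz), ← cj_cj,
        hcx, cj_mul' _ z x, P.cj_z hcz, hcx]
      simp only [← mul_assoc, P.z_sq, one_mul]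
    obtain ⟨hv, hvπ⟩ := P.π_move hxz hc3
    have hvz : c ^ 3 * cj x (c ^ 3)⁻¹ = z := by
      have h := P.cj_eq_move (x := x) (q := c ^ 3)
      rw [hc3x] at h
      exact (mul_right_cancel h).symm
    rw [hvz, P.π_z, ← ha] at hvπ
    have := cj_fix_iff.2 (hfull _ hc3 hvπ.symm).symm
    rw [hc3x] at this
    exact P.z_ne (mul_eq_right.1 this)
  -- the untwisted choice
  have hcx : c * x = x * c := cj_fix_iff.1 (by
    rw [hc, ← cj_cj, ← hx', show x' = cj r x by
      rw [P.cj_eq_move, e, hm, mul_assoc, hx2, mul_one], cj_inv_cj'])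
  set k := c ^ 4 with hk
  have hk3 : k ^ 3 = 1 := by
    rw [hk, ← pow_mul, show 4 * 3 = 3 * 4 from rfl, pow_mul, P.pow_four hc3]
  have hkz := P.cz_pow hcz 4
  have hkx : k * x = x * k := ((show Commute c x from hcx).pow_left 4).eq
  have hsk : P.sg k = t := by rw [hk, P.sg_pow hcz, hsc, pow_succ, ht3, one_mul]
  set k' := cj g⁻¹ k with hk'
  have hk'z : k' * z = z * k' := cj_back hkx
  have hk'3 : k' ^ 3 = 1 := by
    rw [hk', cj, conj_pow, hk3]; group
  -- the fixed plane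
  let R0 : Subgroup G :=
    { carrier := {q | q ∈ J ∧ P.π q ∈ P.R.P0}
      one_mem' := ⟨one_mem _, by rw [P.π_one]; exact zero_mem _⟩
      mul_mem' := fun {p q} hp hq => ⟨mul_mem hp.1 hq.1, by
        rw [P.π_mul _ hp.1 _ hq.1]; exact add_mem hp.2 hq.2⟩
      inv_mem' := fun {p} hp => ⟨inv_mem hp.1, by rw [P.π_inv hp.1]; exact hp.2⟩ }
  have hR0y : ∀ {q : G}, q ∈ R0 → cj g q * z = z * cj g q := by
    intro q hq
    exact cj_fwd (hfully q hq.1 (by
      rw [Rep.disp_apply, P.R.phi_P0 h3 h1 _ hq.2, P.R.vv])).symm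
  let ψ : ↥R0 →* SU4 := MonoidHom.mk' (fun q => P.sg (cj g q.1)) fun p q => by
    show P.sg (cj g (p.1 * q.1)) = _
    rw [cj_mul', P.sg_mul (hR0y p.2) (hR0y q.2)]
  have hinj : Function.Injective ψ := by
    rw [← MonoidHom.ker_eq_bot_iff, eq_bot_iff]
    intro q hq
    have hqJ : cj g q.1 ∈ J := (P.sg_eq_one (hR0y q.2)).1 hq
    by_cases hq0 : P.π q.1 = 0
    · rcases (P.π_zero _ q.2.1).1 hq0 with h | h
      · exact Subtype.ext h
      · refine absurd ?_ hxJ
        rw [h] at hqJ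
        exact hqJ
    · exfalso
      obtain ⟨v, hv⟩ : ∃ v, P.R.B (P.π q.1) v = 1 := by
        by_contra hcon
        push Not at hcon
        exact hq0 (P.R.nondeg _ fun v =>
          (show ∀ s : ZMod 2, s ≠ 1 → s = 0 by decide) _ (hcon v))
      have hB : P.R.B (P.π q.1) (P.R.pr0 v) = 1 := by
        have h := P.R.B_split h3 h1 (P.π q.1) v
        rwa [show P.R.pr0 (P.π q.1) = P.π q.1 from q.2.2, P.R.vv, P.R.B_comm (0 : P.V),
          P.R.B_zero_right, add_zero, hv, eq_comm] at h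
      obtain ⟨s, hs, hsπ⟩ := P.π_surj (P.R.pr0 v)
      have hs0 : s ∈ R0 := ⟨hs, by rw [hsπ]; exact P.R.pr0_mem v⟩
      have h := P.comm q.1 q.2.1 s hs
      rw [hsπ, hB, show zp z (1 : ZMod 2) = z by simp [zp]] at h
      have h' := congrArg (cj g) h
      rw [cj_mul' g s q.1, cj_mul' g (q.1 * s) z, cj_mul' g q.1 s, ← hxdef] at h'
      refine hxJ ?_
      rw [show x = (cj g s)⁻¹ * ((cj g q.1)⁻¹ * (cj g s * cj g q.1)) by rw [h']; group]
      have := mul_mem (P.cj_mem (P.cz_inv (hR0y hs0)) (inv_mem hqJ)) hqJ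
      rw [cj, inv_inv] at this
      simpa only [mul_assoc] using this
  have h8 : 8 ≤ Nat.card ↥R0 := by
    choose L hL hLπ using P.π_surj
    have hzs : ∀ t : ZMod 2, zp z t ∈ J ∧ P.π (zp z t) = 0 := fun t => by
      unfold zp; split_ifs
      exacts [⟨one_mem _, P.π_one⟩, ⟨P.hzJ, P.π_z⟩]
    have hq : ∀ p : ↥P.R.P0 × ZMod 2, zp z p.2 * L p.1.1 ∈ R0 ∧
        P.π (zp z p.2 * L p.1.1) = p.1.1 := fun p => by
      have he : P.π (zp z p.2 * L p.1.1) = p.1.1 := by
        rw [P.π_mul _ (hzs p.2).1 _ (hL _), hLπ, (hzs p.2).2, zero_add]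
      exact ⟨⟨mul_mem (hzs p.2).1 (hL _), by rw [he]; exact p.1.2⟩, he⟩
    refine le_trans (le_of_eq ?_) (Nat.card_le_card_of_injective
      (fun p => (⟨_, (hq p).1⟩ : ↥R0)) ?_)
    · rw [Nat.card_prod, h0, Nat.card_zmod]
    · intro p p' e'
      have e'' : zp z p.2 * L p.1.1 = zp z p'.2 * L p'.1.1 := congrArg Subtype.val e'
      have hv : p.1 = p'.1 := Subtype.ext (by rw [← (hq p).2, ← (hq p').2, e''])
      rw [hv] at e''
      exact Prod.ext hv (zp_inj P.z_ne (mul_right_cancel e''))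
  let S := (ψ.range).map (MulAut.conj g₀).toMonoidHom
  have hS : Nat.card ↥S ≤ 4 := by
    refine cent_t₀ ?_ ?_
    · rintro ⟨_, u, ⟨q, rfl⟩, rfl⟩
      refine ⟨2, Subtype.ext ?_⟩
      show (MulAut.conj g₀).toMonoidHom (ψ q) ^ (2 ^ 2) = 1
      rw [← map_pow, ← map_pow, show q ^ (2 ^ 2) = 1 from Subtype.ext (P.pow_four q.2.1), map_one,
        map_one]
    · rintro _ ⟨u, ⟨q, rfl⟩, rfl⟩
      have hcomm : ψ q * t = t * ψ q := by
        show P.sg (cj g q.1) * t = t * P.sg (cj g q.1)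
        have h := P.odd_comm hk'z h3' hk'3 q.2.1 (P.R.phi_P0 h3 h1 _ q.2.2)
        have h' := congrArg (cj g) h
        rw [cj_mul' g k' q.1, cj_mul' g q.1 k', hk', show cj g (cj g⁻¹ k) = k by
          rw [cj_cj g g⁻¹ k, mul_inv_cancel, cj_one']] at h'
        rw [← hsk, ← P.sg_mul (hR0y q.2) hkz, ← P.sg_mul hkz (hR0y q.2), h']
      show g₀ * ψ q * g₀⁻¹ * dg t₀ = dg t₀ * (g₀ * ψ q * g₀⁻¹)
      calc g₀ * ψ q * g₀⁻¹ * dg t₀ = g₀ * (ψ q * t) * g₀⁻¹ := by rw [ht]; group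
        _ = g₀ * (t * ψ q) * g₀⁻¹ := by rw [hcomm]
        _ = _ := by rw [ht]; group
  rw [← Nat.card_congr (ψ.range.equivMapOfInjective _ (MulAut.conj g₀).injective).toEquiv,
    ← Nat.card_congr (MonoidHom.ofInjective hinj).toEquiv] at hS
  omega

end Pre

end Cfsg.Agent.H49.UChar
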