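import Mathlib
import Cfsg.Prelude.Def_Classical

/-!
Projective special unitary groups over isomorphic fields.
-/

set_option autoImplicit false

namespace Cfsg.Agent.H49.UChar

theorem map_su_mem {n : ℕ} {E E' : Type*} [Field E] [Field E'] (f : E ≃+* E') {q : ℕ}
    {g : Matrix.SpecialLinearGroup (Fin n) E} (hg : g ∈ Cfsg.SU n E q) :
    Matrix.SpecialLinearGroup.map f.toRingHom g ∈ Cfsg.SU n E' q := by
  have hh : ∀ a b : Fin n → E, Cfsg.hermForm n E' q (f ∘ a) (f ∘ b) =
      f (Cfsg.hermForm n E q a b) := by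
    intro a b
    simp [Cfsg.hermForm, map_sum, map_mul, map_pow]
  intro x y
  have hm : ∀ z : Fin n → E', Matrix.mulVec (Matrix.SpecialLinearGroup.map f.toRingHom g).1 z =
      f ∘ (Matrix.mulVec g.1 (f.symm ∘ z)) := by
    intro z
    funext i
    simp [Matrix.mulVec, dotProduct, map_sum, map_mul]
  show Cfsg.hermForm n E' q (Matrix.mulVec (Matrix.SpecialLinearGroup.map f.toRingHom g).1 x)
    (Matrix.mulVec (Matrix.SpecialLinearGroup.map f.toRingHom g).1 y) = _
  rw [hm, hm, hh]
  refine (congrArg f (hg (f.symm ∘ x) (f.symm ∘ y))).trans ?_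
  rw [← hh]
  congr 1 <;> funext i <;> simp

/-- Projective special unitary groups over finite fields of one order agree. -/
theorem psu_card_equiv {n : ℕ} {E E' : Type*} [Field E] [Fintype E] [Field E'] [Fintype E']
    (h : Fintype.card E = Fintype.card E') (q : ℕ) :
    Nonempty (Cfsg.PSU n E q ≃* Cfsg.PSU n E' q) := by
  let f : E ≃+* E' := FiniteField.ringEquivOfCardEq h
  let g : ↥(Cfsg.SU n E q) ≃* ↥(Cfsg.SU n E' q) :=
    { toFun := fun x => ⟨_, map_su_mem f x.2⟩
      invFun := fun x => ⟨_, map_su_mem f.symm x.2⟩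
      left_inv := fun x => Subtype.ext (Subtype.ext (Matrix.ext fun i j => f.symm_apply_apply (x.1.1 i j)))
      right_inv := fun x => Subtype.ext (Subtype.ext (Matrix.ext fun i j => f.apply_symm_apply (x.1.1 i j)))
      map_mul' := fun x y => Subtype.ext (map_mul _ _ _) }
  refine ⟨QuotientGroup.congr _ _ g ?_⟩
  ext x
  simp only [Subgroup.mem_map, Subgroup.mem_center_iff]
  constructor
  · rintro ⟨y, hy, rfl⟩ z
    obtain ⟨z, rfl⟩ := g.surjective z
    exact (map_mul g z y).symm.trans ((congrArg g (hy z)).trans (map_mul g y z))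
  · intro hx
    refine ⟨g.symm x, fun z => g.injective ?_, g.apply_symm_apply x⟩
    rw [map_mul, map_mul, g.apply_symm_apply, hx]

end Cfsg.Agent.H49.UChar
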