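import Cfsg.Agent.H49.UChar.Line
import Cfsg.Agent.H49.USix.Inst.Frame

/-!
The plane group: the centraliser of the preimage of a totally isotropic line.
-/

set_option autoImplicit false
set_option maxRecDepth 20000
set_option linter.unusedSectionVars false

namespace Cfsg.Agent.H49.UChar

open Cfsg
open Cfsg.Agent.H41.SUSix (K4 ω₄)
open Cfsg.Agent.H92.ExtraForm (zp zp_inj zp_add)
open Cfsg.Agent.H41.LFi (trK iot)
open Cfsg.Agent.H49.USix
open H76.LocallyS3 (cj cj_cj cj_injective)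

theorem inW0_zero : InW0 (0 : W4) := ⟨hh_zero_left _, hh_zero_left _⟩

theorem inW0_add {u v : W4} (hu : InW0 u) (hv : InW0 v) : InW0 (u + v) := by
  constructor <;> rw [hh_add_left]
  · rw [hu.1, hv.1, add_zero]
  · rw [hu.2, hv.2, add_zero]

theorem inW0_smul (c : K4) {u : W4} (hu : InW0 u) : InW0 (c • u) := by
  constructor <;> rw [hh_smul_left]
  · rw [hu.1, mul_zero]
  · rw [hu.2, mul_zero]

theorem inW0_point {k : Fin 45} (hk : k ∈ line i₀ j₀) : InW0 (pv k) := by
  obtain ⟨h1, h2⟩ := mem_line.1 hk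
  exact ⟨ort_iff.1 (ort_symm h1), ort_iff.1 (ort_symm h2)⟩

theorem inW0_ort {u v : W4} (hu : InW0 u) (hv : InW0 v) : hh u v = 0 := by
  obtain ⟨a, b, rfl⟩ := inW_span ort_base (by decide) hv
  rw [hh_add_right, hh_smul_right, hh_smul_right, hu.1, hu.2]
  simp

theorem pol_of_hh {u v : W4} (h : hh u v = 0) : pol4 u v = 0 := by
  rw [pol4_eq, h]; rfl

theorem pol4_comm (u v : W4) : pol4 u v = pol4 v u := by
  rw [pol4, pol4, add_comm u v]; ring

theorem trK_add : ∀ a b : K4, trK (a + b) = trK a + trK b := by decide +kernel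

theorem pol4_add_left (u u' v : W4) : pol4 (u + u') v = pol4 u v + pol4 u' v := by
  rw [pol4_eq, pol4_eq, pol4_eq, hh_add_left, trK_add]

theorem pol4_add_right (u v v' : W4) : pol4 u (v + v') = pol4 u v + pol4 u v' := by
  rw [pol4_eq, pol4_eq, pol4_eq, hh_add_right, trK_add]

theorem wt_of_inW0 {w : W4} (hw : InW0 w) : wt4 w = 0 := (iso_iff w).1 (inW0_ort hw hw)

theorem dual_K4 : ∀ x y : ZMod 2, ∃ d : K4, trK d = x ∧ trK (ω₄ * d) = y := by decide +kernel

theorem k4_bits : ∀ c : K4, ∃ a b : ZMod 2, c = iot a + iot b * ω₄ := by decide +kernel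

theorem k4_eq_of_add : ∀ a b : K4, a + b = 0 → a = b := by decide +kernel

theorem vec_eq_of_add {a b : W4} (e : a + b = 0) : a = b :=
  funext fun i => k4_eq_of_add _ _ (congrFun e i)

theorem trK_iot : ∀ (a : ZMod 2) (x : K4), trK (iot a * x) = a * trK x := by decide +kernel

/-- An additive functional on multiples of the field is a trace form. -/
theorem add_trace (f : K4 → ZMod 2) (hf : ∀ a b, f (a + b) = f a + f b) :
    ∃ d : K4, ∀ c, f c = trK (c * d) := by
  obtain ⟨d, h1, h2⟩ := dual_K4 (f 1) (f ω₄)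
  refine ⟨d, fun c => ?_⟩
  obtain ⟨a, b, rfl⟩ := k4_bits c
  have hi : ∀ (a : ZMod 2) (x : K4), f (iot a * x) = a * f x := fun a x => by
    rcases (show ∀ a : ZMod 2, a = 0 ∨ a = 1 by decide) a with rfl | rfl
    · have h0 := hf 0 0
      rw [add_zero] at h0
      rw [show iot 0 = (0 : K4) from rfl, zero_mul, zero_mul, left_eq_add.1 h0]
    · rw [show iot 1 = (1 : K4) from rfl, one_mul, one_mul]
  have e1 : f (iot a) = a * f 1 := by rw [← hi, mul_one]
  rw [hf, e1, hi, add_mul, trK_add, trK_iot, mul_assoc, trK_iot, h1, h2]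

theorem k4_root : ∀ d : K4, ∃ e : K4, e ^ 2 = d := by decide +kernel

section Core

variable {K : Type*} [Group K] [Finite K] {z : K} {Q : Subgroup K} (S : Core z Q)

/-- The preimage of the span of the base line. -/
def U0 : Subgroup K where
  carrier := {q | q ∈ Q ∧ InW0 (S.π q)}
  one_mem' := ⟨Q.one_mem, by rw [S.π_one]; exact inW0_zero⟩
  mul_mem' {a b} ha hb := ⟨mul_mem ha.1 hb.1, by rw [S.π_mul a ha.1 b hb.1]; exact inW0_add ha.2 hb.2⟩
  inv_mem' {a} ha := ⟨inv_mem ha.1, by rw [S.π_inv ha.1]; exact ha.2⟩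

/-- The plane group. -/
def A0 : Subgroup K := Subgroup.centralizer (U0 S : Set K)

theorem z_mem_U0 : z ∈ U0 S := ⟨S.hzQ, by rw [S.π_z]; exact inW0_zero⟩

theorem U0_comm {a b : K} (ha : a ∈ U0 S) (hb : b ∈ U0 S) : a * b = b * a :=
  (S.comm_iff ha.1 hb.1).2 (pol_of_hh (inW0_ort ha.2 hb.2))

theorem U0_sq {a : K} (ha : a ∈ U0 S) : a * a = 1 := (S.sq_iff ha.1).2 (wt_of_inW0 ha.2)

theorem U0_le : U0 S ≤ A0 S := fun _ ha => Subgroup.mem_centralizer_iff.2 fun _ hb => U0_comm S hb ha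

theorem A0_comm_U0 {a u : K} (ha : a ∈ A0 S) (hu : u ∈ U0 S) : a * u = u * a :=
  (Subgroup.mem_centralizer_iff.1 ha u hu).symm

theorem A0_cz {a : K} (ha : a ∈ A0 S) : a * z = z * a := A0_comm_U0 S ha (z_mem_U0 S)

theorem z_mem_A0 : z ∈ A0 S := U0_le S (z_mem_U0 S)

theorem A0_fix {a : K} (ha : a ∈ A0 S) {w : W4} (hw : InW0 w) : S.ρ a w = w := by
  obtain ⟨q, hq, rfl⟩ := S.π_surj w
  rw [← S.π_cj (A0_cz S ha) hq, cj_fix_iff.2 (A0_comm_U0 S ha ⟨hq, hw⟩)]

theorem A0_inf {a : K} (ha : a ∈ A0 S) (haQ : a ∈ Q) : a ∈ U0 S := by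
  refine ⟨haQ, ?_, ?_⟩ <;> refine hh_zero_of_pol fun c => ?_
  · obtain ⟨q, hq, e⟩ := S.π_surj (c • pv i₀)
    rw [← e]
    exact (S.comm_iff hq haQ).1 (A0_comm_U0 S ha
      ⟨hq, e ▸ inW0_smul c (inW0_point (left_mem_line ort_base))⟩).symm
  · obtain ⟨q, hq, e⟩ := S.π_surj (c • pv j₀)
    rw [← e]
    exact (S.comm_iff hq haQ).1 (A0_comm_U0 S ha
      ⟨hq, e ▸ inW0_smul c (inW0_point (right_mem_line ort_base))⟩).symm

theorem card_U0 : Nat.card ↥(U0 S) = 32 := by
  classical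
  choose a b hab using fun q : ↥(U0 S) => inW_span ort_base (by decide) q.2.2
  choose lift hlQ hl using fun c : K4 × K4 => S.π_surj (c.1 • pv i₀ + c.2 • pv j₀)
  let f : ↥(U0 S) → (K4 × K4) × Bool := fun q => ((a q, b q), decide (q.1 = lift (a q, b q)))
  have hinj : Function.Injective f := by
    intro q r e
    simp only [f, Prod.mk.injEq, decide_eq_decide] at e
    obtain ⟨⟨e1, e2⟩, e3⟩ := e
    rw [← e1, ← e2] at e3
    have h1 := S.π_eq (hlQ (a q, b q)) q.2.1 (by rw [hl, hab q])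
    have h2 := S.π_eq (hlQ (a q, b q)) r.2.1 (by rw [hl, hab r, e1, e2])
    refine Subtype.ext ?_
    rcases h1 with h1 | h1
    · rw [h1, e3.1 h1]
    · rcases h2 with h2 | h2
      · exact (e3.2 h2).trans h2.symm
      · rw [h1, h2]
  have hsurj : Function.Surjective f := by
    intro p
    obtain ⟨⟨x, y⟩, t⟩ := p
    have key : ∀ q : ↥(U0 S), S.π q.1 = x • pv i₀ + y • pv j₀ → a q = x ∧ b q = y := fun q e =>
      span_indep (by decide : i₀ ≠ j₀) ((hab q).symm.trans e)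
    have hl0 : lift (x, y) ∈ U0 S := ⟨hlQ _, by rw [hl]; exact inW_comb ort_base x y⟩
    cases t
    · refine ⟨⟨z * lift (x, y), mul_mem (z_mem_U0 S) hl0⟩, ?_⟩
      have e := key ⟨z * lift (x, y), mul_mem (z_mem_U0 S) hl0⟩ (by
        show S.π (z * lift (x, y)) = _; rw [S.π_zmul (hlQ _), hl])
      simp only [f, e.1, e.2, mul_eq_right, S.z_ne, decide_false]
    · refine ⟨⟨lift (x, y), hl0⟩, ?_⟩
      have e := key ⟨lift (x, y), hl0⟩ (hl _)
      simp only [f, e.1, e.2, decide_true]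
  rw [Nat.card_eq_of_bijective f ⟨hinj, hsurj⟩, Nat.card_prod, Nat.card_prod,
    Nat.card_eq_fintype_card, H41.SUSix.hK, Nat.card_eq_fintype_card, Fintype.card_bool]
  norm_num

theorem sq_rho {a : K} (ha : a ∈ A0 S) : S.ρ a * S.ρ a = 1 :=
  sq_one_of_fixW (S.ρ_iso a (A0_cz S ha)) (fun _ hw => A0_fix S ha hw) ort_base

theorem exists_lift (p : Fin 5 × Fin 5) : ∃ a ∈ A0 S, S.ρ a = code p := by
  have hmul : ∀ {g h : Equiv.Perm W4}, (∃ a ∈ A0 S, S.ρ a = g) → (∃ a ∈ A0 S, S.ρ a = h) →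
      ∃ a ∈ A0 S, S.ρ a = g * h := by
    rintro g h ⟨a, ha, rfl⟩ ⟨b, hb, rfl⟩
    exact ⟨a * b, mul_mem ha hb, S.ρ_mul a b (A0_cz S ha) (A0_cz S hb)⟩
  suffices h : ∀ m, ∃ a ∈ A0 S, S.ρ a = tp (lp m) by
    unfold code invP
    split_ifs
    · exact h _
    · exact hmul (h _) (h _)
  intro m
  obtain ⟨c, hc, hρ⟩ := S.exists_tp (lp m)
  have hfix : ∀ w, InW0 w → tp (lp m) w = w := fun w hw => by
    rw [tp_apply, inW0_ort hw (inW0_point (lp_mem m)), zero_smul, add_zero]
  have hex : ∀ u ∈ U0 S, ∃ t : ZMod 2, cj c u = u * zp z t := by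
    intro u hu
    have hπ : S.π (cj c u) = S.π u := by rw [S.π_cj hc hu.1, hρ, hfix _ hu.2]
    rcases S.π_eq hu.1 (S.cj_mem hc hu.1) hπ.symm with e | e
    · exact ⟨0, by rw [e]; simp [zp]⟩
    · exact ⟨1, by rw [e]; simp [zp, S.cz_Q hu.1]⟩
  choose t ht using hex
  choose lift hlQ hl using S.π_surj
  have hlU : ∀ w, InW0 w → lift w ∈ U0 S := fun w hw => ⟨hlQ w, (hl w).symm ▸ hw⟩
  let f : ∀ w, InW0 w → ZMod 2 := fun w hw => t _ (hlU w hw)
  have hzc : ∀ (a : ZMod 2) (x : K), x * z = z * x → x * zp z a = zp z a * x := fun a x h => by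
    unfold zp; split_ifs <;> simp [h]
  have cjz : ∀ a : ZMod 2, cj c (zp z a) = zp z a := fun a =>
    cj_fix_iff.2 (hzc a c hc)
  have tcong : ∀ u v (hu : u ∈ U0 S) (hv : v ∈ U0 S), u = v → t u hu = t v hv := by
    intro u v hu hv e
    subst e
    rfl
  have huniq : ∀ u (hu : u ∈ U0 S), t u hu = f (S.π u) hu.2 := by
    intro u hu
    rcases S.π_eq (hlQ _) hu.1 (hl (S.π u)) with e | e
    · exact tcong _ _ hu _ e
    · refine zp_inj S.z_ne (mul_left_cancel (a := u) ?_)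
      calc u * zp z (t u hu) = cj c u := (ht u hu).symm
        _ = cj c (z * lift (S.π u)) := congrArg (cj c) e
        _ = z * (lift (S.π u) * zp z (f (S.π u) hu.2)) := by
          rw [cj_mul', S.cj_z hc, ht _ (hlU _ hu.2)]
        _ = z * lift (S.π u) * zp z (f (S.π u) hu.2) := (mul_assoc _ _ _).symm
        _ = u * zp z (f (S.π u) hu.2) := congrArg (· * zp z (f (S.π u) hu.2)) e.symm
  have hfadd : ∀ u v (hu : InW0 u) (hv : InW0 v), f (u + v) (inW0_add hu hv) = f u hu + f v hv := by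
    intro u v hu hv
    have hmem : lift u * lift v ∈ U0 S := mul_mem (hlU u hu) (hlU v hv)
    have hπ : S.π (lift u * lift v) = u + v := by rw [S.π_mul _ (hlQ u) _ (hlQ v), hl, hl]
    have e := huniq _ hmem
    simp only [hπ] at e
    rw [← e]
    refine zp_inj S.z_ne (mul_left_cancel (a := lift u * lift v) ?_)
    rw [← ht _ hmem, cj_mul', ht _ (hlU u hu), ht _ (hlU v hv), zp_add S.z_sq, mul_assoc,
      mul_assoc, ← mul_assoc (zp z (t (lift u) _)),
      ← hzc _ _ (A0_cz S (U0_le S (hlU v hv))), mul_assoc]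
  -- realise the functional by an element of the core
  obtain ⟨d, hd⟩ := add_trace (fun c : K4 => f (c • pv i₀) (inW0_smul c (inW0_point (left_mem_line ort_base))))
    fun a b => by
      have := hfadd _ _ (inW0_smul a (inW0_point (left_mem_line ort_base)))
        (inW0_smul b (inW0_point (left_mem_line ort_base)))
      simpa only [← add_smul] using this
  obtain ⟨d', hd'⟩ := add_trace (fun c : K4 => f (c • pv j₀) (inW0_smul c (inW0_point (right_mem_line ort_base))))
    fun a b => by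
      have := hfadd _ _ (inW0_smul a (inW0_point (right_mem_line ort_base)))
        (inW0_smul b (inW0_point (right_mem_line ort_base)))
      simpa only [← add_smul] using this
  obtain ⟨v, hv1, hv2⟩ := exists_values (show i₀ ≠ j₀ by decide) (d ^ 2) (d' ^ 2)
  obtain ⟨q, hqQ, rfl⟩ := S.π_surj v
  have hagree : ∀ w (hw : InW0 w), f w hw = pol4 (S.π q) w := by
    intro w hw
    obtain ⟨a, b, rfl⟩ := inW_span ort_base (by decide) hw
    rw [hfadd _ _ (inW0_smul a (inW0_point (left_mem_line ort_base)))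
      (inW0_smul b (inW0_point (right_mem_line ort_base))), pol4_add_right, pol4_comm _ (a • pv i₀),
      pol4_comm _ (b • pv j₀), pol4_eq, pol4_eq, hh_smul_left, hh_smul_left,
      hh_swap (S.π q) (pv i₀), hh_swap (S.π q) (pv j₀), hv1, hv2]
    have key : ∀ x : K4, (x ^ 2) ^ 2 = x := by decide +kernel
    rw [key, key]
    exact congrArg₂ (· + ·) (hd a) (hd' b)
  refine ⟨c * q, Subgroup.mem_centralizer_iff.2 fun u hu => ?_, by
    rw [S.ρ_mul c q hc (S.cz_Q hqQ), S.ρ_of_Q hqQ, mul_one, hρ]⟩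
  replace hu : u ∈ U0 S := hu
  have e1 : q * u = u * q * zp z (f (S.π u) hu.2) := by
    rw [hagree (S.π u) hu.2, pol4_comm]; exact S.comm u hu.1 q hqQ
  have e2 : c * u = u * zp z (f (S.π u) hu.2) * c := by
    rw [← huniq u hu, ← ht u hu, cj, inv_mul_cancel_right]
  have hz2 : ∀ a : ZMod 2, zp z a * zp z a = 1 := fun a => by
    unfold zp; split_ifs <;> simp [S.z_sq]
  symm
  set Z := zp z (f (S.π u) hu.2)
  calc c * q * u = c * (q * u) := mul_assoc _ _ _
    _ = c * u * (q * Z) := by rw [e1]; simp only [mul_assoc]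
    _ = u * Z * (c * q * Z) := by rw [e2]; simp only [mul_assoc]
    _ = u * Z * (Z * (c * q)) := by rw [hzc _ (c * q) (S.cz_mul hc (S.cz_Q hqQ))]
    _ = u * (Z * Z) * (c * q) := by simp only [mul_assoc]
    _ = u * (c * q) := by rw [hz2, mul_one]

theorem rho_cases {a : K} (ha : a ∈ A0 S) :
    S.ρ a = 1 ∨ ∃ p : Fin 5 × Fin 5, p.1 ≤ p.2 ∧ S.ρ a = code p :=
  fixW0_code (S.ρ_iso a (A0_cz S ha)) fun _ hw => A0_fix S ha hw

theorem code_ne_one (p : Fin 5 × Fin 5) : code p ≠ 1 := by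
  unfold code invP
  split_ifs with h
  · exact tp_ne_one _
  · exact fun e => h (tp_injective ((eq_inv_of_mul_eq_one_left e).trans (tp_inv _)))

theorem A0_mem_U0_of_rho {a : K} (ha : a ∈ A0 S) (h : S.ρ a = 1) : a ∈ U0 S :=
  A0_inf S ha ((S.ρ_ker a (A0_cz S ha)).1 h)

theorem card_A0 : Nat.card ↥(A0 S) = 512 := by
  classical
  let r : ↥(A0 S) →* Equiv.Perm W4 :=
    { toFun := fun a => S.ρ a.1
      map_one' := S.ρ_one
      map_mul' := fun a b => S.ρ_mul _ _ (A0_cz S a.2) (A0_cz S b.2) }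
  have hker : Nat.card ↥r.ker = 32 := by
    rw [← card_U0 S]
    exact Nat.card_congr
      { toFun := fun a => ⟨a.1.1, A0_mem_U0_of_rho S a.1.2 a.2⟩
        invFun := fun u => ⟨⟨u.1, U0_le S u.2⟩, S.ρ_of_Q u.2.1⟩
        left_inv := fun a => rfl
        right_inv := fun u => rfl }
  let T := (Finset.univ.filter fun p : Fin 5 × Fin 5 => p.1 ≤ p.2).image code
  have hrange : Nat.card ↥r.range = 16 := by
    have hset : (r.range : Set (Equiv.Perm W4)) = ↑(insert 1 T) := by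
      ext g
      constructor
      · rintro ⟨a, rfl⟩
        rw [Finset.mem_coe, Finset.mem_insert, Finset.mem_image]
        rcases rho_cases S a.2 with e | ⟨p, hp, e⟩
        · exact Or.inl e
        · exact Or.inr ⟨p, Finset.mem_filter.2 ⟨Finset.mem_univ _, hp⟩, e.symm⟩
      · intro hg
        rw [Finset.mem_coe, Finset.mem_insert, Finset.mem_image] at hg
        rcases hg with rfl | ⟨p, -, rfl⟩
        · exact r.range.one_mem
        · obtain ⟨a, ha, e⟩ := exists_lift S p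
          exact ⟨⟨a, ha⟩, e⟩
    rw [← SetLike.coe_sort_coe, Nat.card_coe_set_eq, hset, Set.ncard_coe_finset,
      Finset.card_insert_of_notMem fun h => by
        obtain ⟨p, -, e⟩ := Finset.mem_image.1 h
        exact code_ne_one p e,
      Finset.card_image_of_injOn fun p hp q hq e =>
        code_inj (Finset.mem_filter.1 hp).2 (Finset.mem_filter.1 hq).2 e, card_pairs]
  rw [← Subgroup.card_mul_index r.ker, Subgroup.index_ker, hker, hrange]

/-- Conjugating by the core moves within a coset of `U0`. -/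
theorem cj_Q_A0 {a q : K} (ha : a ∈ A0 S) (hq : q ∈ Q) : q * a * q⁻¹ * a⁻¹ ∈ U0 S := by
  have hQ : a * q⁻¹ * a⁻¹ ∈ Q := S.norm a (A0_cz S ha) _ (inv_mem hq)
  rw [show q * a * q⁻¹ * a⁻¹ = q * (a * q⁻¹ * a⁻¹) by group]
  refine ⟨mul_mem hq hQ, ?_⟩
  rw [S.π_mul q hq _ hQ, show S.π (a * q⁻¹ * a⁻¹) = S.ρ a (S.π q⁻¹) from
    S.ρ_π a (A0_cz S ha) _ (inv_mem hq), S.π_inv hq]
  have hi := S.ρ_iso a (A0_cz S ha)
  constructor
  · rw [hh_add_left]
    conv_lhs => arg 2; arg 2; rw [← A0_fix S ha (inW0_point (left_mem_line ort_base))]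
    rw [hi.herm, k4_add_self]
  · rw [hh_add_left]
    conv_lhs => arg 2; arg 2; rw [← A0_fix S ha (inW0_point (right_mem_line ort_base))]
    rw [hi.herm, k4_add_self]

include S in
/-- An element of the core commuting with the core is central. -/
theorem core_center {s : K} (hs : s ∈ Q) (h : ∀ q ∈ Q, q * s = s * q) : s = 1 ∨ s = z := by
  rw [← S.π_zero s hs]
  refine hh_nondeg fun w => hh_zero_symm.1 (hh_zero_of_pol fun c => ?_)
  obtain ⟨q, hq, e⟩ := S.π_surj (c • w)
  rw [← e]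
  exact (S.comm_iff hq hs).1 (h q hq)

theorem sq_cases {a : K} (ha : a ∈ A0 S) : a * a = 1 ∨ a * a = z := by
  have hρ : S.ρ (a * a) = 1 := by rw [S.ρ_mul a a (A0_cz S ha) (A0_cz S ha), sq_rho S ha]
  refine core_center S ((S.ρ_ker _ (S.cz_mul (A0_cz S ha) (A0_cz S ha))).1 hρ) fun q hq => ?_
  have hu := cj_Q_A0 S ha hq
  set u := q * a * q⁻¹ * a⁻¹ with hu'
  have e : q * a * q⁻¹ = u * a := by rw [hu']; group
  have e2 : q * (a * a) * q⁻¹ = a * a := by
    calc q * (a * a) * q⁻¹ = q * a * q⁻¹ * (q * a * q⁻¹) := by group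
      _ = u * (a * u) * a := by rw [e]; group
      _ = u * u * (a * a) := by rw [A0_comm_U0 S ha hu]; group
      _ = a * a := by rw [U0_sq S hu, one_mul]
  exact mul_inv_eq_iff_eq_mul.1 e2

/-- The square, as a bit. -/
noncomputable def eps (a : K) : ZMod 2 := open Classical in if a * a = 1 then 0 else 1

theorem eps_spec {a : K} (ha : a ∈ A0 S) : a * a = zp z (eps a) := by
  classical
  unfold eps
  split_ifs with h
  · rw [h]; simp [zp]
  · rw [(sq_cases S ha).resolve_left h]; simp [zp]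

theorem zp_central (t : ZMod 2) {a : K} (ha : a ∈ A0 S) : a * zp z t = zp z t * a := by
  unfold zp; split_ifs <;> simp [A0_cz S ha]

include S in
theorem zp_sq (t : ZMod 2) : zp z t * zp z t = 1 := by
  unfold zp; split_ifs <;> simp [S.z_sq]

/-- The commutator, as a bit. -/
noncomputable def cb (a b : K) : ZMod 2 := eps (a * b) + eps a + eps b

theorem cb_spec {a b : K} (ha : a ∈ A0 S) (hb : b ∈ A0 S) : b * a = a * b * zp z (cb a b) := by
  have hab := eps_spec S (mul_mem ha hb)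
  have e1 := eps_spec S ha
  have e2 := eps_spec S hb
  have : a * (b * a) * b = a * (a * b * zp z (cb a b)) * b := by
    calc a * (b * a) * b = a * b * (a * b) := by group
      _ = zp z (eps (a * b)) := hab
      _ = zp z (eps a) * zp z (cb a b) * zp z (eps b) := by
        rw [← zp_add S.z_sq, ← zp_add S.z_sq, cb]
        have key : ∀ x y w : ZMod 2, x = y + (x + y + w) + w := by decide
        rw [← key]
      _ = (a * a) * zp z (cb a b) * (b * b) := by rw [e1, e2]
      _ = a * (a * (zp z (cb a b) * b)) * b := by group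
      _ = a * (a * b * zp z (cb a b)) * b := by rw [← zp_central S _ hb]; group
  exact mul_left_cancel (mul_right_cancel this)

theorem cb_add_right {a b c : K} (ha : a ∈ A0 S) (hb : b ∈ A0 S) (hc : c ∈ A0 S) :
    cb a (b * c) = cb a b + cb a c := by
  refine zp_inj S.z_ne (mul_left_cancel (a := a * (b * c)) ?_)
  rw [← cb_spec S ha (mul_mem hb hc), zp_add S.z_sq]
  calc b * c * a = b * (c * a) := by group
    _ = b * a * c * zp z (cb a c) := by rw [cb_spec S ha hc]; group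
    _ = a * b * (zp z (cb a b) * c) * zp z (cb a c) := by rw [cb_spec S ha hb]; group
    _ = _ := by rw [← zp_central S _ hc]; group

theorem eps_U0 {u : K} (hu : u ∈ U0 S) : eps u = 0 := by rw [eps, if_pos (U0_sq S hu)]

theorem eps_mul_U0 {a u : K} (ha : a ∈ A0 S) (hu : u ∈ U0 S) : eps (a * u) = eps a := by
  refine zp_inj S.z_ne ?_
  rw [← eps_spec S (mul_mem ha (U0_le S hu)), ← eps_spec S ha]
  calc a * u * (a * u) = a * (u * a) * u := by group
    _ = a * a * (u * u) := by rw [← A0_comm_U0 S ha hu]; group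
    _ = a * a := by rw [U0_sq S hu, mul_one]

theorem rho_eq_coset {a b : K} (ha : a ∈ A0 S) (hb : b ∈ A0 S) (h : S.ρ a = S.ρ b) :
    ∃ u ∈ U0 S, b = a * u :=
  ⟨a⁻¹ * b, A0_inf S (mul_mem (inv_mem ha) hb) (S.mem_Q_of_ρ (A0_cz S ha) (A0_cz S hb) h),
    (mul_inv_cancel_left a b).symm⟩

theorem eps_of_rho {a b : K} (ha : a ∈ A0 S) (hb : b ∈ A0 S) (h : S.ρ a = S.ρ b) : eps a = eps b := by
  obtain ⟨u, hu, rfl⟩ := rho_eq_coset S ha hb h
  rw [eps_mul_U0 S ha hu]

/-- Preserving the span. -/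
def Pres (c : K) : Prop := ∀ w, InW0 w → InW0 (S.ρ c w)

theorem cj_U0 {c : K} (hc : c * z = z * c) (hp : Pres S c) {u : K} (hu : u ∈ U0 S) :
    cj c u ∈ U0 S :=
  ⟨S.cj_mem hc hu.1, by rw [S.π_cj hc hu.1]; exact hp _ hu.2⟩

theorem pres_inv {c : K} (hc : c * z = z * c) (hp : Pres S c) : Pres S c⁻¹ := by
  intro w hw
  classical
  let f : {w : W4 // InW0 w} → {w : W4 // InW0 w} := fun x => ⟨S.ρ c x.1, hp _ x.2⟩
  have hf : Function.Injective f := fun x y e =>
    Subtype.ext ((S.ρ c).injective (congrArg Subtype.val e))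
  obtain ⟨x, hx⟩ := Finite.injective_iff_surjective.1 hf ⟨w, hw⟩
  rw [S.ρ_inv hc, ← (show S.ρ c x.1 = w from congrArg Subtype.val hx), Equiv.Perm.inv_def,
    Equiv.symm_apply_apply]
  exact x.2

theorem cj_A0 {c : K} (hc : c * z = z * c) (hp : Pres S c) {a : K} (ha : a ∈ A0 S) :
    cj c a ∈ A0 S := by
  refine Subgroup.mem_centralizer_iff.2 fun u hu => ?_
  have hu' := cj_U0 S (S.cz_inv hc) (pres_inv S hc hp) hu
  have e := A0_comm_U0 S ha hu'
  have h := congrArg (cj c) e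
  rw [cj_mul' c a (cj c⁻¹ u), cj_mul' c (cj c⁻¹ u) a, cj_cj, mul_inv_cancel, cj_one'] at h
  exact h.symm

theorem Q_pres {q : K} (hq : q ∈ Q) : Pres S q := fun w hw => by rwa [S.ρ_of_Q hq]

/-- Elements moving two points of the base line to two of its points. -/
theorem exists_pres {i j : Fin 45} (hi : i ∈ line i₀ j₀) (hj : j ∈ line i₀ j₀) (hne : i ≠ j) :
    ∃ c : K, c * z = z * c ∧ Pres S c ∧ act (S.ρ c) i = i₀ ∧ act (S.ρ c) j = j₀ := by
  have ho := line_clique ort_base (by decide) hi hj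
  obtain ⟨c, hc, e1, e2⟩ := S.exists_pair_map ho hne
  refine ⟨c, hc, fun w hw => ?_, e1, e2⟩
  have hiso := S.ρ_iso c hc
  obtain ⟨x, hx, ex⟩ := act_spec hiso i
  obtain ⟨y, hy, ey⟩ := act_spec hiso j
  rw [e1] at ex; rw [e2] at ey
  have hw' : InW i j w := ⟨inW0_ort hw (inW0_point hi), inW0_ort hw (inW0_point hj)⟩
  obtain ⟨a, b, rfl⟩ := inW_span ho hne hw'
  rw [hiso.add, hiso.smul, hiso.smul, ex, ey, smul_smul, smul_smul]
  exact inW_comb ort_base _ _

theorem cj_eps {c a : K} : eps (cj c a) = eps a := by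
  classical
  unfold eps
  have h : cj c a * cj c a = 1 ↔ a * a = 1 := by
    rw [← cj_mul']
    exact ⟨fun h => cj_injective c (h.trans (by simp [cj])), fun h => by rw [h]; simp [cj]⟩
  simp only [h]

/-- The index of the base point. -/
theorem lp_base : ∃ m₀ n₀ : Fin 5, lp m₀ = i₀ ∧ lp n₀ = j₀ ∧ m₀ ≠ n₀ := by
  obtain ⟨m, hm⟩ := lp_surj (left_mem_line ort_base)
  obtain ⟨n, hn⟩ := lp_surj (right_mem_line ort_base)
  exact ⟨m, n, hm, hn, fun e => by rw [e, hn] at hm; exact absurd hm (by decide)⟩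

/-- The squares over transvections are trivial, and constant over pairs. -/
theorem eps_shape : (∀ a ∈ A0 S, ∀ m, S.ρ a = tp (lp m) → eps a = 0) ∧
    ∃ η : ZMod 2, ∀ a ∈ A0 S, ∀ m n, m ≠ n → S.ρ a = tp (lp m) * tp (lp n) → eps a = η := by
  classical
  obtain ⟨m₀, n₀, hm₀, hn₀, hmn₀⟩ := lp_base
  choose l hl hlρ using fun m : Fin 5 => exists_lift S (m, m)
  have hlρ' : ∀ m, S.ρ (l m) = tp (lp m) := fun m => by rw [hlρ, code, invP, if_pos rfl]
  -- constancy
  have trans : ∀ a ∈ A0 S, ∀ m n, m ≠ n →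
      (S.ρ a = tp (lp m) → eps a = eps (l m₀)) ∧
      (S.ρ a = tp (lp m) * tp (lp n) → eps a = eps (l m₀ * l n₀)) := by
    intro a ha m n hmn
    obtain ⟨c, hc, hp, e1, e2⟩ := exists_pres S (lp_mem m) (lp_mem n) fun e => hmn (lp_inj e)
    have hiso := S.ρ_iso c hc
    refine ⟨fun h => ?_, fun h => ?_⟩
    · rw [← cj_eps (c := c) (a := a)]
      refine eps_of_rho S (cj_A0 S hc hp ha) (hl m₀) ?_
      rw [S.ρ_cj_tp hc (A0_cz S ha) h, e1, hlρ', hm₀]
    · rw [← cj_eps (c := c) (a := a)]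
      refine eps_of_rho S (cj_A0 S hc hp ha) (mul_mem (hl m₀) (hl n₀)) ?_
      rw [S.ρ_cj hc (A0_cz S ha), h, S.ρ_mul _ _ (A0_cz S (hl m₀)) (A0_cz S (hl n₀)), hlρ', hlρ',
        hm₀, hn₀, ← e1, ← e2, ← conj_tp hiso, ← conj_tp hiso]
      group
  set e1 := eps (l m₀)
  set η := eps (l m₀ * l n₀)
  have s1 : ∀ m, eps (l m) = e1 := fun m => by
    by_cases h : m = n₀
    · exact ((trans (l m) (hl m) m m₀ (by rw [h]; exact hmn₀.symm)).1 (hlρ' m))
    · exact ((trans (l m) (hl m) m n₀ h).1 (hlρ' m))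
  have s2 : ∀ m n, m ≠ n → cb (l m) (l n) = η := fun m n h => by
    rw [cb, (trans _ (mul_mem (hl m) (hl n)) m n h).2
      (by rw [S.ρ_mul _ _ (A0_cz S (hl m)) (A0_cz S (hl n)), hlρ', hlρ']), s1, s1]
    have key : ∀ x y : ZMod 2, x + y + y = x := by decide
    exact key _ _
  have cb_comm : ∀ a b : K, a ∈ A0 S → b ∈ A0 S → cb a b = cb b a := by
    intro a b ha hb
    have h1 := cb_spec S ha hb
    have h2 := cb_spec S hb ha
    rw [h1, mul_assoc, ← zp_add S.z_sq] at h2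
    have h3 : zp z (cb a b + cb b a) = 1 := mul_eq_left.1 h2.symm
    have h4 := zp_inj S.z_ne (h3.trans (show (1 : K) = zp z 0 by simp [zp]))
    have key : ∀ x y : ZMod 2, x + y = 0 → x = y := by decide
    exact key _ _ h4
  have eps_mul : ∀ a b : K, eps (a * b) = eps a + eps b + cb a b := fun a b => by
    unfold cb
    have key : ∀ x y w : ZMod 2, x = y + w + (x + y + w) := by decide
    exact key _ _ _
  have cl : ∀ a b c : K, a ∈ A0 S → b ∈ A0 S → c ∈ A0 S → cb (a * b) c = cb a c + cb b c := by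
    intro a b c ha hb hc
    rw [cb_comm _ _ (mul_mem ha hb) hc, cb_add_right S hc ha hb, cb_comm c a hc ha, cb_comm c b hc hb]
  -- the relation of the five transvections
  have h01 := mul_mem (hl 0) (hl 1)
  have h012 := mul_mem h01 (hl 2)
  have h0123 := mul_mem h012 (hl 3)
  have hρ4 : S.ρ (l 0 * l 1 * l 2 * l 3) = S.ρ (l 4) := by
    rw [S.ρ_mul _ _ (A0_cz S h012) (A0_cz S (hl 3)), S.ρ_mul _ _ (A0_cz S h01) (A0_cz S (hl 2)),
      S.ρ_mul _ _ (A0_cz S (hl 0)) (A0_cz S (hl 1)), hlρ', hlρ', hlρ', hlρ', hlρ']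
    have := eq_inv_of_mul_eq_one_left five_mul
    rwa [tp_inv] at this
  have h4 := eps_of_rho S h0123 (hl 4) hρ4
  rw [eps_mul, eps_mul, eps_mul, cl _ _ _ h01 (hl 2) (hl 3), cl _ _ _ (hl 0) (hl 1) (hl 3),
    cl _ _ _ (hl 0) (hl 1) (hl 2), s1, s1, s1, s1, s1, s2 0 1 (by decide), s2 0 2 (by decide),
    s2 1 2 (by decide), s2 0 3 (by decide), s2 1 3 (by decide), s2 2 3 (by decide)] at h4
  have he1 : e1 = 0 := by
    have key : ∀ x y : ZMod 2, x + x + y + x + (y + y) + x + (y + y + y) = x → x = 0 := by decide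
    exact key _ _ h4
  refine ⟨fun a ha m h => ?_, η, fun a ha m n hmn h => (trans a ha m n hmn).2 h⟩
  by_cases hm : m = n₀
  · exact ((trans a ha m m₀ (by rw [hm]; exact hmn₀.symm)).1 h).trans he1
  · exact ((trans a ha m n₀ hm).1 h).trans he1

/-- Either every element squares to one, or the squares over pairs are the involution. -/
theorem eps_dichotomy : (∀ a ∈ A0 S, a * a = 1) ∨
    ∀ a ∈ A0 S, ∀ m n, m ≠ n → S.ρ a = tp (lp m) * tp (lp n) → a * a = z := by
  classical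
  obtain ⟨h1, η, h2⟩ := eps_shape S
  rcases (show ∀ a : ZMod 2, a = 0 ∨ a = 1 by decide) η with rfl | rfl
  · refine Or.inl fun a ha => ?_
    rw [eps_spec S ha]
    have he : eps a = 0 := by
      rcases rho_cases S ha with e | ⟨⟨m, n⟩, -, e⟩
      · exact eps_U0 S (A0_mem_U0_of_rho S ha e)
      · unfold code invP at e
        split_ifs at e with h
        · exact h1 a ha m e
        · exact h2 a ha m n (fun e' => h (congrArg lp e')) e
    rw [he]; simp [zp]
  · refine Or.inr fun a ha m n hmn h => ?_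
    rw [eps_spec S ha, h2 a ha m n hmn h]
    simp [zp]

theorem A0_abelian (h : ∀ a ∈ A0 S, a * a = 1) {a b : K} (ha : a ∈ A0 S) (hb : b ∈ A0 S) :
    a * b = b * a := by
  have e := h _ (mul_mem ha hb)
  calc a * b = (a * b)⁻¹ := (inv_eq_of_mul_eq_one_right e).symm
    _ = b * a := by
      rw [_root_.mul_inv_rev, inv_eq_of_mul_eq_one_right (h a ha), inv_eq_of_mul_eq_one_right (h b hb)]

end Core

end Cfsg.Agent.H49.UChar
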