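import Cfsg.Agent.H49.UChar.Mono

/-!
The idempotents of the group algebra over the field with two elements of an elementary abelian group
of order twenty-seven, as indicator functions.
-/

set_option autoImplicit false
set_option maxRecDepth 20000

namespace Cfsg.Agent.H49.UChar

/-- Functionals on the torus: four of rank one, three sums and six differences. -/
def fn : Fin 13 → Fin 4 → ZMod 3 :=
  ![![1, 0, 0, 0], ![0, 1, 0, 0], ![0, 0, 1, 0], ![0, 0, 0, 1],
    ![1, 1, 0, 0], ![1, 0, 1, 0], ![1, 0, 0, 1],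
    ![1, 2, 0, 0], ![1, 0, 2, 0], ![1, 0, 0, 2], ![0, 1, 2, 0], ![0, 1, 0, 2], ![0, 0, 1, 2]]

/-- The value of a functional. -/
def chi (k : Fin 13) (s : T3) : ZMod 3 :=
  fn k 0 * ext4 s 0 + fn k 1 * ext4 s 1 + fn k 2 * ext4 s 2 + fn k 3 * ext4 s 3

/-- The idempotent of a functional. -/
def ff (k : Fin 13) (s : T3) : ZMod 2 := if chi k s = 0 then 0 else 1

/-- The unit. -/
def dlt (s : T3) : ZMod 2 := if s = 0 then 1 else 0

theorem chi_add (k : Fin 13) (s t : T3) : chi k (s + t) = chi k s + chi k t := by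
  simp only [chi, ext4_add, Pi.add_apply]
  ring

theorem ff_sum : ∀ s : T3, 1 + ∑ k, ff k s = dlt s := by decide +kernel

theorem ff_conv : ∀ k l : Fin 13, ∀ r : T3,
    (∑ s, ff k s * ff l (r - s)) = if k = l then ff k r else 0 := by decide +kernel

theorem ff_one : ∀ k : Fin 13, ∀ r : T3,
    (∑ s, ff k s * 1) = 0 ∧ (∑ s : T3, (1 : ZMod 2) * ff k (r - s)) = 0 := by decide +kernel

theorem one_one : (∑ _s : T3, (1 : ZMod 2) * 1) = 1 := by decide +kernel

theorem ff_shift (k : Fin 13) {t : T3} (h : chi k t = 0) (r : T3) : ff k (r - t) = ff k r := by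
  have e := chi_add k (r - t) t
  rw [sub_add_cancel, h, add_zero] at e
  simp only [ff, e]

theorem ff_triple (k : Fin 13) {t : T3} (h : chi k t ≠ 0) (r : T3) :
    ff k r + ff k (r - t) + ff k (r - (t + t)) = 0 := by
  have e1 := chi_add k (r - t) t
  have e2 := chi_add k (r - (t + t)) (t + t)
  rw [sub_add_cancel] at e1 e2
  rw [chi_add] at e2
  have key : ∀ a b c u : ZMod 3, u ≠ 0 → a = b + u → a = c + (u + u) →
      (if a = 0 then (0 : ZMod 2) else 1) + (if b = 0 then 0 else 1) + (if c = 0 then 0 else 1) = 0 := by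
    decide +kernel
  exact key _ _ _ _ h e1 e2

/-- The base of each class of functionals. -/
def base (k : Fin 13) : Fin 13 := if (k : ℕ) < 4 then 0 else if (k : ℕ) < 7 then 4 else 7

theorem perm_base : ∀ k : Fin 13, ∃ σ : Equiv.Perm (Fin 4),
    ∀ s : T3, ff k (psh σ s) = ff (base k) s := by decide +kernel

theorem chi_single : ∀ i : Fin 4, ∀ s : T3,
    chi (Fin.castLE (by norm_num) i) s = ext4 s i := by decide +kernel

theorem chi_tl : ∀ l : Fin 4, chi (4 : Fin 13) (tl l) ≠ 0 ∧ chi (5 : Fin 13) (tl l) ≠ 0 ∧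
    chi (6 : Fin 13) (tl l) ≠ 0 := by decide +kernel

theorem chi_surj : ∀ k l : Fin 13, k ≠ l → ∃ t : T3, chi k t = 0 ∧ chi l t ≠ 0 := by decide +kernel

theorem chi_ne : ∀ k : Fin 13, ∃ t : T3, chi k t = 1 := by decide +kernel

end Cfsg.Agent.H49.UChar
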