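import Cfsg.Agent.H49.UChar.NoQ

/-!
In the elementary abelian case the plane group is weakly closed in a Sylow two-subgroup and its
normaliser controls fusion in it.
-/

set_option autoImplicit false
set_option maxRecDepth 20000
set_option linter.unusedSectionVars false

namespace Cfsg.Agent.H49.UChar

open Cfsg
open Cfsg.Agent.Compute
open Cfsg.Agent.H41.SUSix (K4 fe anyN anyN_iff)
open Cfsg.Agent.H49.USix
open H76.LocallyS3 (cj cj_cj cj_injective)

/-- Coded fixing of a vector by one of the pairs of the base line. -/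
noncomputable def fixP (w t : ℕ) : Bool :=
  Nat.ble (Nat.div t 5) (Nat.mod t 5) &&
    Nat.beq (cond (Nat.beq (Nat.div t 5) (Nat.mod t 5)) (tC (lptC (Nat.div t 5)) w)
      (gC (lptC (Nat.div t 5)) (lptC (Nat.mod t 5)) w)) w

theorem one_fix_ok : allN 256 (fun w => (Nat.beq (h4C w (pc 1)) 0 && Nat.beq (h4C w (pc 15)) 0) ||
    allN 25 (fun s => !fixP w s || allN 25 (fun t => !fixP w t || Nat.beq s t))) = true := by
  decide +kernel

theorem d4_lt (v : W4) : ∃ n < 256, d4 n = v := by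
  obtain ⟨w, hw⟩ := d4_surj v
  exact ⟨w.1, w.2, hw⟩

theorem d4_inj {x y : ℕ} (hx : x < 256) (hy : y < 256) (e : d4 x = d4 y) : x = y := by
  have h0 := congrArg Fin.val (d4_lt_inj ⟨Nat.xor x y, Nat.xor_lt_two_pow (n := 8) hx hy⟩ fun i =>
    congrFun (show d4 (Nat.xor x y) = 0 by rw [d4_xor, e, vec_add_self]) i)
  exact Nat.eq_of_xor_eq_zero h0

theorem sc4_lt_ok : allN 4 (fun c => allN 45 (fun k => Nat.blt (sc4 c (pc k)) 256)) = true := by
  decide +kernel

theorem dC_lt (k : Fin 45) (s : ℕ) : dC k s < 256 := by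
  have h := (allN_iff _ _).1 ((allN_iff _ _).1 sc4_lt_ok _ (h4C_spec s (pc k)).1) k k.2
  rwa [Nat.blt_eq] at h

/-- A group fixing the span of the base line and a vector outside it has at most two elements. -/
theorem fix_few {w : W4} (hw : ¬ InW0 w) {E : Subgroup (Equiv.Perm W4)}
    (hiso : ∀ f ∈ E, Iso f) (hW : ∀ f ∈ E, ∀ v, InW0 v → f v = v) (hfix : ∀ f ∈ E, f w = w) :
    Nat.card ↥E ≤ 2 := by
  classical
  obtain ⟨n, hn, rfl⟩ := d4_lt w
  have hbase : (Nat.beq (h4C n (pc 1)) 0 && Nat.beq (h4C n (pc 15)) 0) = false := by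
    rw [Bool.eq_false_iff]
    intro h
    rw [Bool.and_eq_true, Nat.beq_eq, Nat.beq_eq] at h
    refine hw ⟨?_, ?_⟩
    · show hh (d4 n) (d4 (pc i₀)) = 0
      rw [← (h4C_spec _ _).2, show ((i₀ : Fin 45) : ℕ) = 1 from rfl, h.1]; rfl
    · show hh (d4 n) (d4 (pc j₀)) = 0
      rw [← (h4C_spec _ _).2, show ((j₀ : Fin 45) : ℕ) = 15 from rfl, h.2]; rfl
  have h0 := (allN_iff _ _).1 one_fix_ok n hn
  rw [hbase, Bool.false_or] at h0
  have hidx : ∀ f ∈ E, f ≠ 1 → ∃ t < 25, fixP n t = true ∧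
      ∃ p : Fin 5 × Fin 5, t = 5 * (p.1 : ℕ) + p.2 ∧ f = code p := by
    intro f hf hf1
    obtain ⟨⟨a, b⟩, hab, rfl⟩ := (fixW0_code (hiso f hf) (hW f hf)).resolve_left hf1
    refine ⟨5 * (a : ℕ) + b, by omega, ?_, (a, b), rfl, rfl⟩
    have hd : Nat.div (5 * (a : ℕ) + b) 5 = a := by
      show (5 * (a : ℕ) + b) / 5 = a
      omega
    have hm : Nat.mod (5 * (a : ℕ) + b) 5 = b := by
      show (5 * (a : ℕ) + b) % 5 = b
      omega
    rw [fixP, hd, hm, show Nat.ble (a : ℕ) b = true by rw [Nat.ble_eq]; exact hab, Bool.true_and,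
      Nat.beq_eq]
    have hfx := hfix _ hf
    by_cases hmn : a = b
    · subst hmn
      rw [Nat.beq_refl, cond_true]
      refine d4_inj (Nat.xor_lt_two_pow (n := 8) hn (dC_lt (lp a) n)) hn ?_
      rw [show lptC (a : ℕ) = ((lp a : Fin 45) : ℕ) from rfl, d4_tC]
      rw [code, invP, if_pos rfl] at hfx
      exact hfx
    · rw [show Nat.beq (a : ℕ) b = false from Bool.eq_false_iff.2 fun e =>
        hmn (Fin.ext (Nat.eq_of_beq_eq_true e)), cond_false]
      refine d4_inj (Nat.xor_lt_two_pow (n := 8)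
        (Nat.xor_lt_two_pow (n := 8) hn (dC_lt (lp b) n)) (dC_lt (lp a) _)) hn ?_
      rw [gC, show lptC (a : ℕ) = ((lp a : Fin 45) : ℕ) from rfl,
        show lptC (b : ℕ) = ((lp b : Fin 45) : ℕ) from rfl, d4_tC, d4_tC]
      rw [code, invP, if_neg (fun e => hmn (lp_inj e))] at hfx
      exact hfx
  let f : ↥E → Bool := fun e => decide (e.1 = 1)
  refine le_trans (Nat.card_le_card_of_injective f fun a b e => Subtype.ext ?_)
    (le_of_eq (by rw [Nat.card_eq_fintype_card, Fintype.card_bool]))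
  simp only [f, decide_eq_decide] at e
  by_cases ha : a.1 = 1
  · rw [ha, e.1 ha]
  · obtain ⟨s, hs, hfs, p, hp, hap⟩ := hidx _ a.2 ha
    obtain ⟨t, ht, hft, r, hr, hbr⟩ := hidx _ b.2 fun hb => ha (e.2 hb)
    have h1 := (allN_iff _ _).1 h0 s hs
    rw [hfs, Bool.not_true, Bool.false_or] at h1
    have h2 := (allN_iff _ _).1 h1 t ht
    rw [hft, Bool.not_true, Bool.false_or, Nat.beq_eq] at h2
    rw [hap, hbr]
    congr 1
    rw [hp, hr] at h2
    exact Prod.ext (Fin.ext (by omega)) (Fin.ext (by omega))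

section Core

variable {K : Type*} [Group K] [Finite K] {z : K} {Q : Subgroup K} (S : Core z Q)
  (hE : Cfsg.IsExtraspecial 2 ↥Q) (h1 : ∀ a ∈ A0 S, a * a = 1)

include S h1

theorem A0_two : IsPGroup 2 ↥(A0 S) := fun a => ⟨1, Subtype.ext (by
  show (a : K) ^ 2 ^ 1 = 1
  rw [pow_one, pow_two, h1 a a.2])⟩

/-- A Sylow subgroup of the group above the plane group inside the centraliser. -/
theorem exists_T : ∃ T : Sylow 2 K, A0 S ≤ T ∧ ∀ t ∈ (T : Subgroup K), t * z = z * t := by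
  classical
  have : Fact (Nat.Prime 2) := ⟨Nat.prime_two⟩
  have hQ2 : IsPGroup 2 ↥Q := IsPGroup.of_card (n := 9) (by rw [card_core S]; norm_num)
  have hle : A0 S ≤ Subgroup.normalizer (Q : Set K) := fun a ha => by
    refine Subgroup.mem_normalizer_iff.2 fun q => ⟨fun hq => S.norm a (A0_cz S ha) q hq, fun hq => ?_⟩
    have h := S.norm _ (S.cz_inv (A0_cz S ha)) _ hq
    rwa [show a⁻¹ * (a * q * a⁻¹) * a⁻¹⁻¹ = q by group] at h
  obtain ⟨T, hT⟩ := (IsPGroup.to_sup_of_normal_right' (A0_two S h1) hQ2 hle).exists_le_sylow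
  refine ⟨T, le_trans le_sup_left hT, ?_⟩
  obtain ⟨w, hw, hw1⟩ : ∃ w ∈ Subgroup.center ↥(T : Subgroup K), w ≠ 1 := by
    have : Nontrivial ↥(T : Subgroup K) := ⟨⟨⟨z, hT (Subgroup.mem_sup_right S.hzQ)⟩, 1,
      fun e => S.z_ne (congrArg Subtype.val e :)⟩⟩
    have := T.2.center_nontrivial
    obtain ⟨⟨w, hw⟩, hne⟩ := exists_ne (1 : ↥(Subgroup.center ↥(T : Subgroup K)))
    exact ⟨w, hw, fun e => hne (Subtype.ext e)⟩
  have hcomm : ∀ t ∈ (T : Subgroup K), t * w.1 = w.1 * t := fun t ht =>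
    congrArg Subtype.val ((Subgroup.mem_center_iff.1 hw) ⟨t, ht⟩)
  have hwz : w.1 * z = z * w.1 := (hcomm z (hT (Subgroup.mem_sup_right S.hzQ))).symm
  have hfix : ∀ q ∈ Q, q * w.1 = w.1 * q := fun q hq => hcomm q (hT (Subgroup.mem_sup_right hq))
  have hwQ : w.1 ∈ Q := by
    refine (S.ρ_ker _ hwz).1 (Equiv.ext fun v => ?_)
    obtain ⟨q, hq, rfl⟩ := S.π_surj v
    rw [← S.π_cj hwz hq, cj_fix_iff.2 (hfix q hq).symm]
    rfl
  rcases core_center S hwQ hfix with e | e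
  · exact absurd (Subtype.ext e) hw1
  · intro t ht
    rw [← e]
    exact hcomm t ht

omit h1 in
theorem cj_inv_mem {g : K} (hg : ∀ a ∈ A0 S, cj g a ∈ A0 S) {a : K} (ha : a ∈ A0 S) :
    cj g⁻¹ a ∈ A0 S := by
  obtain ⟨b, hb⟩ := Finite.injective_iff_surjective.1
    (show Function.Injective (fun b : ↥(A0 S) => (⟨cj g b.1, hg _ b.2⟩ : ↥(A0 S))) from
      fun b c e => Subtype.ext (cj_injective g (congrArg Subtype.val e :))) ⟨a, ha⟩
  have e : cj g b.1 = a := congrArg Subtype.val hb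
  rw [← e, cj_inv_cj']
  exact b.2

theorem weak_T {T : Sylow 2 K} (hAT : A0 S ≤ T) (hTz : ∀ t ∈ (T : Subgroup K), t * z = z * t)
    {g : K} (hg : ∀ a ∈ A0 S, cj g a ∈ (T : Subgroup K)) {a : K} (ha : a ∈ A0 S) :
    cj g a ∈ A0 S := by
  classical
  set B := (A0 S).map (MulAut.conj g).toMonoidHom with hB
  have memB : ∀ {b : K}, b ∈ B ↔ ∃ a ∈ A0 S, cj g a = b := Iff.rfl
  have hBz : ∀ {b : K}, b ∈ B → b * z = z * b := by
    intro b hb
    obtain ⟨a, ha, rfl⟩ := memB.1 hb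
    exact hTz _ (hg a ha)
  have hB2 : ∀ {b : K}, b ∈ B → b * b = 1 := by
    intro b hb
    obtain ⟨a, ha, rfl⟩ := memB.1 hb
    exact cj_self_sq (h1 a ha)
  have hBc : ∀ {b c : K}, b ∈ B → c ∈ B → b * c = c * b := by
    intro b c hb hc
    obtain ⟨a, ha, rfl⟩ := memB.1 hb
    obtain ⟨a', ha', rfl⟩ := memB.1 hc
    rw [← cj_mul', ← cj_mul', A0_abelian S h1 ha ha']
  have hcardB : Nat.card ↥B = 512 := by
    rw [hB, ← Nat.card_congr ((A0 S).equivMapOfInjective _ (MulAut.conj g).injective).toEquiv, card_A0]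
  let ψ : ↥B →* Equiv.Perm W4 :=
    MonoidHom.mk' (fun b => S.ρ b) fun b c => S.ρ_mul _ _ (hBz b.2) (hBz c.2)
  have hEiso : ∀ f ∈ ψ.range, Iso f := by rintro _ ⟨b, rfl⟩; exact S.ρ_iso _ (hBz b.2)
  have hE2 : ∀ f ∈ ψ.range, f * f = 1 := by
    rintro _ ⟨b, rfl⟩
    rw [← map_mul, show b * b = 1 from Subtype.ext (hB2 b.2), map_one]
  have hEc : ∀ e ∈ ψ.range, ∀ f ∈ ψ.range, e * f = f * e := by
    rintro _ ⟨b, rfl⟩ _ ⟨c, rfl⟩
    rw [← map_mul, ← map_mul, show b * c = c * b from Subtype.ext (hBc b.2 c.2)]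
  have hprod : Nat.card ↥ψ.ker * Nat.card ↥ψ.range = 512 := by
    rw [← hcardB, ← Subgroup.card_mul_index ψ.ker, Subgroup.index_ker]
  have hE16 := elem_le hEiso hE2 hEc
  let W : AddSubgroup W4 :=
    { carrier := {w | ∃ q ∈ B ⊓ Q, S.π q = w}
      zero_mem' := ⟨1, one_mem _, S.π_one⟩
      add_mem' := by
        rintro _ _ ⟨q, hq, rfl⟩ ⟨r, hr, rfl⟩
        exact ⟨q * r, mul_mem hq hr, S.π_mul q hq.2 r hr.2⟩
      neg_mem' := by
        rintro _ ⟨q, hq, rfl⟩
        exact ⟨q, hq, (neg_eq_of_add_eq_zero_left (vec_add_self _)).symm⟩ }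
  have polW : ∀ u ∈ W, ∀ v ∈ W, pol4 u v = 0 := by
    rintro _ ⟨q, hq, rfl⟩ _ ⟨r, hr, rfl⟩
    exact (S.comm_iff hq.2 hr.2).1 (hBc hq.1 hr.1)
  have wtW : ∀ u ∈ W, wt4 u = 0 := by
    rintro _ ⟨q, hq, rfl⟩
    exact (S.sq_iff hq.2).1 (hB2 hq.1)
  have hker : Nat.card ↥ψ.ker ≤ 2 * Nat.card ↥W := by
    choose lift hlQ hl using S.π_surj
    have hq : ∀ b : ↥ψ.ker, b.1.1 ∈ Q := fun b => (S.ρ_ker _ (hBz b.1.2)).1 b.2
    refine le_trans (Nat.card_le_card_of_injective (fun b : ↥ψ.ker =>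
      (decide (b.1.1 = lift (S.π b.1.1)), (⟨S.π b.1.1, b.1.1, ⟨b.1.2, hq b⟩, rfl⟩ : ↥W))) fun b c e => ?_) ?_
    · simp only [Prod.mk.injEq, Subtype.mk.injEq, decide_eq_decide] at e
      obtain ⟨e2, e1⟩ := e
      rw [← e1] at e2
      have hb := S.π_eq (hlQ (S.π b.1.1)) (hq b) (hl _)
      have hc := S.π_eq (hlQ (S.π b.1.1)) (hq c) ((hl _).trans e1)
      refine Subtype.ext (Subtype.ext ?_)
      rcases hb with hb | hb
      · exact hb.trans (e2.1 hb).symm
      · rcases hc with hc | hc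
        · exact (e2.2 hc).trans hc.symm
        · exact hb.trans hc.symm
    · rw [Nat.card_prod, Nat.card_eq_fintype_card (α := Bool), Fintype.card_bool]
  have hW8 : 8 ≤ Nat.card ↥W := by
    have := Nat.mul_le_mul hker hE16
    omega
  obtain ⟨i, j, hij, hne, x, y, hx, hy, hxW, hyW⟩ := exists_line_in hW8 polW wtW
  have hfixW : ∀ f ∈ ψ.range, ∀ v ∈ W, f v = v := by
    rintro _ ⟨b, rfl⟩ _ ⟨q, hq, rfl⟩
    show S.ρ b.1 (S.π q) = S.π q
    rw [← S.π_cj (hBz b.2) hq.2, cj_fix_iff.2 (hBc b.2 hq.1)]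
  -- move to the base line
  obtain ⟨c, hc, hci, hcj⟩ := S.exists_pair_map hij hne
  have hciso := S.ρ_iso c hc
  obtain ⟨s, hs, es⟩ := act_spec hciso i
  obtain ⟨t, ht, et⟩ := act_spec hciso j
  rw [hci] at es
  rw [hcj] at et
  set E := ψ.range.map (MulAut.conj (S.ρ c)).toMonoidHom with hEdef
  have memE : ∀ {f}, f ∈ E ↔ ∃ e ∈ ψ.range, S.ρ c * e * (S.ρ c)⁻¹ = f := Iff.rfl
  have hmove : ∀ v, InW0 v → ∃ a b : K4, v = S.ρ c (a • (x • pv i) + b • (y • pv j)) := by
    intro v hv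
    obtain ⟨a, b, rfl⟩ := inW_span ort_base (by decide) hv
    refine ⟨a * s⁻¹ * x⁻¹, b * t⁻¹ * y⁻¹, ?_⟩
    rw [hciso.add, hciso.smul, hciso.smul, hciso.smul, hciso.smul, es, et]
    simp only [smul_smul, mul_assoc, inv_mul_cancel_left₀ hx, inv_mul_cancel_left₀ hy,
      inv_mul_cancel₀ hs, inv_mul_cancel₀ ht, mul_one]
  have hEW : ∀ f ∈ E, ∀ v, InW0 v → f v = v := by
    intro f hf v hv
    obtain ⟨e, he, rfl⟩ := memE.1 hf
    obtain ⟨a, b, rfl⟩ := hmove v hv
    simp only [Equiv.Perm.mul_apply, Equiv.Perm.inv_def, Equiv.symm_apply_apply]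
    congr 1
    rw [(hEiso e he).add, (hEiso e he).smul a, (hEiso e he).smul b, hfixW e he _ hxW, hfixW e he _ hyW]
  have hEiso' : ∀ f ∈ E, Iso f := by
    intro f hf
    obtain ⟨e, he, rfl⟩ := memE.1 hf
    exact (hciso.mul (hEiso e he)).mul hciso.inv
  have hin : ∀ q ∈ B ⊓ Q, InW0 (S.ρ c (S.π q)) := by
    intro q hq
    by_contra hout
    have h2 := fix_few hout hEiso' hEW fun f hf => by
      obtain ⟨e, he, rfl⟩ := memE.1 hf
      simp only [Equiv.Perm.mul_apply, Equiv.Perm.inv_def, Equiv.symm_apply_apply]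
      rw [hfixW e he _ ⟨q, hq, rfl⟩]
    rw [hEdef, ← Nat.card_congr (ψ.range.equivMapOfInjective _ (MulAut.conj (S.ρ c)).injective).toEquiv]
      at h2
    have hker256 : 256 ≤ Nat.card ↥ψ.ker := by
      have := Nat.mul_le_mul (le_refl (Nat.card ↥ψ.ker)) h2
      omega
    -- then the image holds the whole span of the base line
    let D : AddSubgroup W4 :=
      { carrier := {w | w ∈ W ∧ InW0 (S.ρ c w)}
        zero_mem' := ⟨W.zero_mem, by rw [hciso.map_zero]; exact inW0_zero⟩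
        add_mem' := fun {u v} hu hv => ⟨W.add_mem hu.1 hv.1, by
          rw [hciso.add]; exact inW0_add hu.2 hv.2⟩
        neg_mem' := fun {u} hu => by
          rw [neg_eq_of_add_eq_zero_left (vec_add_self u)]; exact hu }
    have hall : ∀ v, InW0 v → ∃ w ∈ W, S.ρ c w = v := by
      let U := {v : W4 // InW0 v}
      have hU : Nat.card U ≤ 16 := by
        choose a b hab using fun v : U => inW_span ort_base (by decide) v.2
        refine le_trans (Nat.card_le_card_of_injective (fun v => (a v, b v)) fun u v e => ?_)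
          (le_of_eq (by rw [Nat.card_prod, Nat.card_eq_fintype_card (α := K4), H41.SUSix.hK]; norm_num))
        simp only [Prod.mk.injEq] at e
        exact Subtype.ext (by rw [hab u, hab v, e.1, e.2])
      let val : ↥W → K4 × K4 := fun w => (hh (S.ρ c w.1) (pv i₀), hh (S.ρ c w.1) (pv j₀))
      have hvalsmall : ∀ w : ↥W, ∀ (a : K4) (k : Fin 45) (i' : Fin 45) (r : K4), r ≠ 0 →
          a • pv i' ∈ W → S.ρ c (pv i') = r • pv k → a ≠ 0 →
          hh (S.ρ c w.1) (pv k) = 0 ∨ hh (S.ρ c w.1) (pv k) = ((a * r) ^ 2)⁻¹ := by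
        intro w a k i' r hr haW e ha0
        have h := polW w.1 w.2 _ haW
        rw [pol4_eq, ← hciso.herm, hciso.smul, e, smul_smul, hh_smul_right] at h
        have key : ∀ m v : K4, m ≠ 0 → H41.LFi.trK (m * v) = 0 → v = 0 ∨ v = m⁻¹ := by decide +kernel
        exact key _ _ (by rw [Ne, k4_sq_zero]; exact mul_ne_zero ha0 hr) h
      intro v hv
      by_contra hv'
      push Not at hv'
      have hD : Nat.card ↥D < Nat.card U := by
        let fD : ↥D → U := fun w => ⟨S.ρ c w.1, w.2.2⟩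
        have hfD : Function.Injective fD := fun a b e =>
            Subtype.ext ((S.ρ c).injective (congrArg Subtype.val e :))
        refine lt_of_le_of_ne (Nat.card_le_card_of_injective fD hfD) fun e => ?_
        obtain ⟨-, hsurj⟩ := (Nat.bijective_iff_injective_and_card fD).2 ⟨hfD, e⟩
        obtain ⟨w, hw⟩ := hsurj ⟨v, hv⟩
        exact hv' w.1 w.2.1 (congrArg Subtype.val hw :)
      have hWD : Nat.card ↥W ≤ 4 * Nat.card ↥D := by
        classical
        let g : ↥W →+ K4 × K4 := AddMonoidHom.mk' val fun u v => by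
          simp only [val, AddSubgroup.coe_add, hciso.add, hh_add_left, Prod.mk_add_mk]
        have h := AddSubgroup.card_mul_index g.ker
        rw [AddSubgroup.index_ker] at h
        have h1 : Nat.card ↥g.range ≤ 4 := by
          have hsub : (g.range : Set (K4 × K4)) ⊆
              ↑(({0, ((x * s) ^ 2)⁻¹} : Finset K4) ×ˢ ({0, ((y * t) ^ 2)⁻¹} : Finset K4)) := by
            rintro _ ⟨w, rfl⟩
            simp only [Finset.mem_coe, Finset.mem_product, Finset.mem_insert, Finset.mem_singleton]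
            exact ⟨hvalsmall w x i₀ i s hs hxW es hx, hvalsmall w y j₀ j t ht hyW et hy⟩
          have h2 := Set.ncard_le_ncard hsub (Set.toFinite _)
          rw [Set.ncard_coe_finset, Finset.card_product, ← Nat.card_coe_set_eq] at h2
          exact h2.trans (Nat.mul_le_mul Finset.card_le_two Finset.card_le_two)
        have h2 : Nat.card ↥g.ker ≤ Nat.card ↥D := Nat.card_le_card_of_injective
          (fun w : ↥g.ker => (⟨w.1.1, w.1.2, congrArg Prod.fst w.2, congrArg Prod.snd w.2⟩ : ↥D))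
          fun a b e => Subtype.ext (Subtype.ext (congrArg Subtype.val e :))
        rw [← h, mul_comm 4]
        exact Nat.mul_le_mul h2 h1
      omega
    refine hout ⟨?_, ?_⟩ <;> refine hh_zero_of_pol fun a => ?_
    · obtain ⟨w, hw, e⟩ := hall (a • pv i₀) (inW0_smul a (inW0_point (left_mem_line ort_base)))
      rw [← e, pol4_eq, hciso.herm, ← pol4_eq]
      exact polW _ hw _ ⟨q, hq, rfl⟩
    · obtain ⟨w, hw, e⟩ := hall (a • pv j₀) (inW0_smul a (inW0_point (right_mem_line ort_base)))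
      rw [← e, pol4_eq, hciso.herm, ← pol4_eq]
      exact polW _ hw _ ⟨q, hq, rfl⟩
  -- hence the conjugate is the plane group moved by the centraliser
  have hU : ∀ u ∈ U0 S, cj c⁻¹ u ∈ B := by
    have h32 : 32 ≤ Nat.card ↥ψ.ker := by
      have := Nat.mul_le_mul (le_refl (Nat.card ↥ψ.ker)) hE16
      omega
    let e : ↥ψ.ker → ↥(U0 S) := fun b =>
      ⟨cj c b.1.1, S.cj_mem hc ((S.ρ_ker _ (hBz b.1.2)).1 b.2), by
        rw [S.π_cj hc ((S.ρ_ker _ (hBz b.1.2)).1 b.2)]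
        exact hin _ ⟨b.1.2, (S.ρ_ker _ (hBz b.1.2)).1 b.2⟩⟩
    have hinj : Function.Injective e := fun a b h =>
      Subtype.ext (Subtype.ext (cj_injective c (congrArg Subtype.val h :)))
    obtain ⟨-, hsurj⟩ := (Nat.bijective_iff_injective_and_card e).2 ⟨hinj,
      le_antisymm (Nat.card_le_card_of_injective e hinj) ((card_U0 S).le.trans h32)⟩
    intro u hu
    obtain ⟨b, hb⟩ := hsurj ⟨u, hu⟩
    rw [← show cj c b.1.1 = u from congrArg Subtype.val hb, cj_inv_cj']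
    exact b.1.2
  have hBA : ∀ {b : K}, b ∈ B → cj c b ∈ A0 S := by
    intro b hb
    refine Subgroup.mem_centralizer_iff.2 fun u hu => ?_
    have h := congrArg (cj c) (hBc (hU u hu) hb)
    rw [cj_mul' c (cj c⁻¹ u) b, cj_mul' c b (cj c⁻¹ u), cj_cj, mul_inv_cancel, cj_one'] at h
    exact h
  have hAB : ∀ a ∈ A0 S, cj c⁻¹ a ∈ B := by
    let e : ↥B → ↥(A0 S) := fun b => ⟨cj c b.1, hBA b.2⟩
    have hinj : Function.Injective e := fun a b h =>
      Subtype.ext (cj_injective c (congrArg Subtype.val h :))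
    obtain ⟨-, hsurj⟩ := (Nat.bijective_iff_injective_and_card e).2 ⟨hinj, by rw [hcardB, card_A0]⟩
    intro a ha
    obtain ⟨b, hb⟩ := hsurj ⟨a, ha⟩
    rw [← show cj c b.1 = a from congrArg Subtype.val hb, cj_inv_cj']
    exact b.2
  -- both lines are held by one two-group
  let φ : ↥(T : Subgroup K) →* Equiv.Perm W4 :=
    MonoidHom.mk' (fun b => S.ρ b) fun b d => S.ρ_mul _ _ (hTz _ b.2) (hTz _ d.2)
  have hc' := S.cz_inv hc
  have hline := line_unique (M := φ.range) (by rintro _ ⟨b, rfl⟩; exact S.ρ_iso _ (hTz _ b.2))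
    (T.2.of_surjective φ.rangeRestrict φ.rangeRestrict_surjective)
    ort_base (show i₀ ≠ j₀ by decide) ((ort_act (S.ρ_iso _ hc')).2 ort_base)
    (fun e => (show i₀ ≠ j₀ by decide) (act_inj (S.ρ_iso _ hc') e))
    (fun k hk => by
      obtain ⟨m, rfl⟩ := lp_surj hk
      obtain ⟨d, hd, hdρ⟩ := exists_lift S (m, m)
      rw [code, invP, if_pos rfl] at hdρ
      exact ⟨⟨d, hAT hd⟩, hdρ⟩)
    (fun k hk => by
      rw [← map_line (S.ρ_iso _ hc'), Finset.mem_image] at hk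
      obtain ⟨l, hl, rfl⟩ := hk
      obtain ⟨m, rfl⟩ := lp_surj hl
      obtain ⟨d, hd, hdρ⟩ := exists_lift S (m, m)
      rw [code, invP, if_pos rfl] at hdρ
      obtain ⟨a', ha', e⟩ := memB.1 (hAB d hd)
      refine ⟨⟨cj c⁻¹ d, e ▸ hg a' ha'⟩, ?_⟩
      show S.ρ (cj c⁻¹ d) = _
      rw [S.ρ_cj_tp hc' (A0_cz S hd) hdρ])
  have hpres : Pres S c⁻¹ := by
    intro w hw
    obtain ⟨p, r, rfl⟩ := inW_span ort_base (by decide) hw
    have hiso := S.ρ_iso _ hc'
    obtain ⟨p', -, ep⟩ := act_spec hiso i₀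
    obtain ⟨r', -, er⟩ := act_spec hiso j₀
    rw [hiso.add, hiso.smul, hiso.smul, ep, er]
    exact inW0_add (inW0_smul _ (inW0_smul _ (inW0_point (hline ▸ left_mem_line ((ort_act hiso).2 ort_base)))))
      (inW0_smul _ (inW0_smul _ (inW0_point (hline ▸ right_mem_line ((ort_act hiso).2 ort_base)))))
  have hab := cj_A0 S hc' hpres (hBA (memB.2 ⟨a, ha, rfl⟩))
  rwa [cj_inv_cj'] at hab

/-- Weak closure in every two-subgroup. -/
theorem weak_closed {g : K} {P : Subgroup K} (hP : IsPGroup 2 ↥P) (hAP : A0 S ≤ P)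
    (hg : ∀ a ∈ A0 S, cj g a ∈ P) {a : K} (ha : a ∈ A0 S) : cj g a ∈ A0 S := by
  have : Fact (Nat.Prime 2) := ⟨Nat.prime_two⟩
  obtain ⟨T, hAT, hTz⟩ := exists_T S h1
  obtain ⟨T', hT'⟩ := hP.exists_le_sylow
  obtain ⟨h, hh'⟩ := MulAction.exists_smul_eq K T' T
  have key : ∀ x ∈ P, cj h x ∈ (T : Subgroup K) := fun x hx => by
    rw [← hh', Sylow.coe_subgroup_smul]
    exact ⟨x, hT' hx, rfl⟩
  have hnorm : ∀ a ∈ A0 S, cj h a ∈ A0 S := fun a ha =>
    weak_T S h1 hAT hTz (fun b hb => key b (hAP hb)) ha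
  have h2 := weak_T S h1 hAT hTz (g := h * g) (fun b hb => by rw [← cj_cj]; exact key _ (hg b hb)) ha
  rw [← cj_cj] at h2
  have := cj_inv_mem S hnorm h2
  rwa [cj_inv_cj'] at this

/-- The normaliser of the plane group. -/
def Nm : Subgroup K where
  carrier := {n | ∀ a ∈ A0 S, cj n a ∈ A0 S}
  one_mem' a ha := by rwa [cj_one']
  mul_mem' {m n} hm hn a ha := by rw [← cj_cj]; exact hm _ (hn a ha)
  inv_mem' {n} hn _ ha := cj_inv_mem S hn ha

/-- The normaliser controls fusion in the plane group. -/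
theorem fusion {x y g : K} (hx : x ∈ A0 S) (hy : y ∈ A0 S) (e : cj g x = y) :
    ∃ n ∈ Nm S, cj n x = y := by
  classical
  have : Fact (Nat.Prime 2) := ⟨Nat.prime_two⟩
  set C := Subgroup.centralizer ({y} : Set K) with hC
  have hA : A0 S ≤ C := fun a ha => Subgroup.mem_centralizer_singleton_iff.2 (A0_abelian S h1 ha hy)
  set B := (A0 S).map (MulAut.conj g).toMonoidHom with hB
  have hB' : B ≤ C := by
    rintro _ ⟨a, ha, rfl⟩
    refine Subgroup.mem_centralizer_singleton_iff.2 ?_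
    show cj g a * y = y * cj g a
    rw [← e, ← cj_mul', ← cj_mul', A0_abelian S h1 ha hx]
  obtain ⟨P1, hP1⟩ := ((A0_two S h1).comap_of_injective C.subtype C.subtype_injective).exists_le_sylow
  obtain ⟨P2, hP2⟩ := ((((A0_two S h1).map _ : IsPGroup 2 ↥B)).comap_of_injective C.subtype
    C.subtype_injective).exists_le_sylow
  obtain ⟨h, hh'⟩ := MulAction.exists_smul_eq ↥C P2 P1
  refine ⟨h.1 * g, fun a ha => ?_, ?_⟩
  · refine weak_closed S h1 (P1.2.map C.subtype) (fun b hb => ⟨⟨b, hA hb⟩, hP1 hb, rfl⟩)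
      (fun b hb => ?_) ha
    refine ⟨h * ⟨cj g b, hB' ⟨b, hb, rfl⟩⟩ * h⁻¹, ?_, ?_⟩
    · rw [← hh', Sylow.coe_subgroup_smul]
      exact ⟨⟨cj g b, hB' ⟨b, hb, rfl⟩⟩, hP2 (show cj g b ∈ B from ⟨b, hb, rfl⟩), rfl⟩
    · show h.1 * cj g b * h.1⁻¹ = _
      simp [cj, mul_assoc]
  · rw [← cj_cj, e]
    exact cj_fix_iff.2 (Subgroup.mem_centralizer_singleton_iff.1 h.2)

/-- The conjugates of `z` in the plane group. -/
def Oset : Set K := {x | x ∈ A0 S ∧ ∃ g, cj g z = x}

theorem Oset_dvd : (Oset S).ncard ∣ Nat.card ↥(Nm S) := by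
  classical
  let _ : MulAction ↥(Nm S) K :=
    MulAction.compHom K ((ConjAct.toConjAct (G := K)).toMonoidHom.comp (Nm S).subtype)
  have hsmul : ∀ (n : ↥(Nm S)) (x : K), n • x = cj n.1 x := fun n x => rfl
  have e : MulAction.orbit ↥(Nm S) z = Oset S := by
    ext x
    constructor
    · rintro ⟨n, rfl⟩
      show n • z ∈ Oset S
      rw [hsmul]
      exact ⟨n.2 z (z_mem_A0 S), n.1, rfl⟩
    · rintro ⟨hx, g, hg⟩
      obtain ⟨n, hn, e⟩ := fusion S h1 (z_mem_A0 S) hx hg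
      exact ⟨⟨n, hn⟩, (hsmul _ z).trans e⟩
  rw [← e, ← MulAction.index_stabilizer]
  exact Subgroup.index_dvd_card _

/-- Odd prime divisors of the normaliser divide some `2 ^ k - 1`. -/
theorem prime_small {p : ℕ} (hp : p.Prime) (h2 : p ≠ 2) (hdvd : p ∣ Nat.card ↥(Nm S)) :
    ∃ k ∈ Finset.Icc 1 9, p ∣ 2 ^ k - 1 := by
  classical
  have : Fact p.Prime := ⟨hp⟩
  have := Fintype.ofFinite ↥(A0 S)
  obtain ⟨σ, hσ⟩ := exists_prime_orderOf_dvd_card' p hdvd
  have hσp : σ.1 ^ p = 1 := by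
    rw [← SubmonoidClass.coe_pow, ← hσ, pow_orderOf_eq_one, OneMemClass.coe_one]
  let act : ↥(Nm S) →* Equiv.Perm ↥(A0 S) :=
    MonoidHom.mk' (fun n => Equiv.ofBijective (fun a => ⟨cj n.1 a.1, n.2 _ a.2⟩)
      (Finite.injective_iff_bijective.1 fun a b e =>
        Subtype.ext (cj_injective n.1 (congrArg Subtype.val e :)))) fun m n =>
      Equiv.ext fun a => Subtype.ext (cj_cj _ _ _).symm
  have hperm : act σ ^ p ^ 1 = 1 := by
    rw [pow_one, ← map_pow, show σ ^ p = 1 from Subtype.ext (by simpa using hσp), map_one]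
  have hmod := Equiv.Perm.card_compl_support_modEq hperm
  set F := A0 S ⊓ Subgroup.centralizer ({σ.1} : Set K) with hF
  have hcount : (act σ).supportᶜ.card = Nat.card ↥F := by
    rw [← Nat.card_eq_finsetCard]
    refine Nat.card_congr
      { toFun := fun a => ⟨a.1.1, a.1.2, Subgroup.mem_centralizer_singleton_iff.2 ?_⟩
        invFun := fun a => ⟨⟨a.1, a.2.1⟩, ?_⟩
        left_inv := fun a => rfl
        right_inv := fun a => rfl }
    · have h := Finset.mem_compl.1 a.2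
      rw [Equiv.Perm.mem_support, not_not] at h
      exact (cj_fix_iff.1 (congrArg Subtype.val h :)).symm
    · rw [Finset.mem_compl, Equiv.Perm.mem_support, not_not]
      exact Subtype.ext (cj_fix_iff.2 (Subgroup.mem_centralizer_singleton_iff.1 a.2.2).symm)
  rw [hcount, ← Nat.card_eq_fintype_card, card_A0] at hmod
  have hFd : Nat.card ↥F ∣ 2 ^ 9 := by
    have := Subgroup.card_dvd_of_le (inf_le_left : F ≤ A0 S)
    rw [card_A0] at this
    exact this
  obtain ⟨k, hk, ek⟩ := (Nat.dvd_prime_pow Nat.prime_two).1 hFd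
  rw [ek] at hmod
  by_cases hk9 : k = 9
  · exfalso
    have hall : ∀ a ∈ A0 S, a ∈ F := by
      intro a ha
      have e := Subgroup.eq_of_le_of_card_ge (inf_le_left : F ≤ A0 S)
        (le_of_eq (by rw [ek, hk9, card_A0]; norm_num))
      rw [hF, e]; exact ha
    have hσA : σ.1 ∈ A0 S := Subgroup.mem_centralizer_iff.2 fun u hu =>
      Subgroup.mem_centralizer_singleton_iff.1 (hall u (U0_le S hu)).2
    have h2' : orderOf σ.1 ∣ 2 := orderOf_dvd_of_pow_eq_one (by rw [pow_two, h1 _ hσA])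
    rw [Subgroup.orderOf_coe, hσ] at h2'
    exact h2 ((Nat.prime_dvd_prime_iff_eq hp Nat.prime_two).1 h2')
  · refine ⟨9 - k, Finset.mem_Icc.2 ⟨by omega, by omega⟩, ?_⟩
    have hle : 2 ^ k ≤ 512 := (Nat.pow_le_pow_right two_pos hk).trans (by norm_num)
    have h := (Nat.modEq_iff_dvd' hle).1 hmod
    have e : 512 - 2 ^ k = 2 ^ k * (2 ^ (9 - k) - 1) := by
      rw [Nat.mul_sub, ← pow_add, Nat.add_sub_cancel' hk]
      norm_num
    rw [e] at h
    exact (Nat.Coprime.dvd_of_dvd_mul_left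
      (((Nat.coprime_primes hp Nat.prime_two).2 h2).pow_right k) h)

end Core

end Cfsg.Agent.H49.UChar
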