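import Cfsg.Agent.H49.UChar.Twisted
import Cfsg.Agent.H49.UChar.Weak

/-!
The conjugates of `z` in an elementary abelian plane group: one, or twenty-one.
-/

set_option autoImplicit false
set_option maxRecDepth 20000
set_option linter.unusedSectionVars false
set_option maxHeartbeats 400000

namespace Cfsg.Agent.H49.UChar

open Cfsg
open Cfsg.Agent.H41.SUSix (K4)
open Cfsg.Agent.H92.ExtraForm (zp)
open Cfsg.Agent.H49.USix
open H76.LocallyS3 (cj cj_cj cj_injective)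

theorem scalar_word :
    ∃ s : K4, (tp 25 * tp 7 * tp 6 * tp 0) (pv i₀) = s • pv i₀ ∧ s ≠ 0 ∧
      (tp 25 * tp 7 * tp 6 * tp 0) (pv j₀) = H41.SUSix.ω₄ • pv j₀ := by
  have hd : ∀ (w : ℕ), (tp 25 * tp 7 * tp 6 * tp 0) (d4 w) = d4 (tC 25 (tC 7 (tC 6 (tC 0 w)))) := by
    intro w
    simp only [Equiv.Perm.mul_apply, ← d4_tC]
    rfl
  have ok : (tC 25 (tC 7 (tC 6 (tC 0 (pc 1)))) = 13 ∧
      tC 25 (tC 7 (tC 6 (tC 0 (pc 15)))) = 160) ∧
      (∃ c < 4, c ≠ 0 ∧ sc4 c (pc 1) = 13) ∧ sc4 2 (pc 15) = 160 := by decide +kernel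
  obtain ⟨⟨e1, e2⟩, ⟨c, hc, c0, e3⟩, e4⟩ := ok
  refine ⟨H41.SUSix.fe c, ?_, ?_, ?_⟩
  · show (tp 25 * tp 7 * tp 6 * tp 0) (d4 (pc 1)) = _
    rw [hd, e1, ← e3, d4_sc4 hc]
    rfl
  · intro h
    have key : ∀ n < 4, H41.SUSix.fe n = 0 → n = 0 := by decide
    exact c0 (key _ hc h)
  · show (tp 25 * tp 7 * tp 6 * tp 0) (d4 (pc 15)) = _
    rw [hd, e2, ← e4, d4_sc4 (by norm_num)]
    rfl

section Core

variable {K : Type*} [Group K] [Finite K] {z : K} {Q : Subgroup K} (S : Core z Q)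
  (hE : Cfsg.IsExtraspecial 2 ↥Q) (h1 : ∀ a ∈ A0 S, a * a = 1)

/-- The members over an element of the plane group. -/
def ofib (f : Equiv.Perm W4) : Set K := {x | x ∈ Oset S ∧ S.ρ x = f}

/-- The members with given coordinates relative to a lift. -/
def slice (a : K) (p : K4 × K4) : Set K :=
  {x | x ∈ ofib S (S.ρ a) ∧ S.π (a⁻¹ * x) = p.1 • pv i₀ + p.2 • pv j₀}

theorem Oset_move {c x : K} (hc : c * z = z * c) (hp : Pres S c) (hx : x ∈ Oset S) :
    cj c x ∈ Oset S := by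
  obtain ⟨hA, g, e⟩ := hx
  exact ⟨cj_A0 S hc hp hA, c * g, by rw [← cj_cj, e]⟩

theorem diff_mem {a x : K} (ha : a ∈ A0 S) (hx : x ∈ A0 S) (h : S.ρ x = S.ρ a) : a⁻¹ * x ∈ U0 S := by
  obtain ⟨u, hu, rfl⟩ := rho_eq_coset S ha hx h.symm
  rwa [inv_mul_cancel_left]

/-- The effect of the core on the coordinates. -/
theorem shift {a x r : K} (ha : a ∈ A0 S) (hx : x ∈ A0 S) (h : S.ρ x = S.ρ a) (hr : r ∈ Q) :
    cj r x ∈ A0 S ∧ S.ρ (cj r x) = S.ρ a ∧
      S.π (a⁻¹ * cj r x) = S.π (a⁻¹ * x) + (S.π r + S.ρ a (S.π r)) := by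
  have hu := diff_mem S ha hx h
  have haz := A0_cz S ha
  refine ⟨cj_A0 S (S.cz_Q hr) (Q_pres S hr) hx, ?_, ?_⟩
  · rw [S.ρ_cj (S.cz_Q hr) (A0_cz S hx), S.ρ_of_Q hr, h]
    simp
  · have e : a⁻¹ * cj r x = cj a⁻¹ r * (a⁻¹ * x) * r⁻¹ := by simp only [cj]; group
    rw [e, S.π_mul _ (Q.mul_mem (S.cj_mem (S.cz_inv haz) hr) hu.1) _ (inv_mem hr),
      S.π_mul _ (S.cj_mem (S.cz_inv haz) hr) _ hu.1, S.π_inv hr, S.π_cj (S.cz_inv haz) hr,
      S.ρ_inv haz, inv_eq_of_mul_eq_one_right (sq_rho S ha)]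
    abel

theorem slice_le_two (a : K) (ha : a ∈ A0 S) (p : K4 × K4) : (slice S a p).ncard ≤ 2 := by
  classical
  rcases (slice S a p).eq_empty_or_nonempty with h | ⟨x, hx⟩
  · simp [h]
  · refine le_trans (Set.ncard_le_ncard (t := {x, z * x}) ?_ (Set.toFinite _))
      (le_trans (Set.ncard_insert_le _ _) (by rw [Set.ncard_singleton]))
    intro y hy
    have hux := diff_mem S ha hx.1.1.1 hx.1.2
    have huy := diff_mem S ha hy.1.1.1 hy.1.2
    rcases S.π_eq hux.1 huy.1 (hx.2.trans hy.2.symm) with e | e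
    · exact Or.inl (mul_left_cancel e)
    · refine Or.inr (mul_left_cancel (a := a⁻¹) ?_)
      rw [e, ← mul_assoc, ← mul_assoc, ← S.cz_inv (A0_cz S ha)]

theorem slice_shift {a r : K} (ha : a ∈ A0 S) (hr : r ∈ Q) {p q : K4 × K4}
    (h : p.1 • pv i₀ + p.2 • pv j₀ + (S.π r + S.ρ a (S.π r)) = q.1 • pv i₀ + q.2 • pv j₀) :
    (slice S a p).ncard ≤ (slice S a q).ncard := by
  refine Set.ncard_le_ncard_of_injOn (cj r) (fun x hx => ?_) (cj_injective r).injOn (Set.toFinite _)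
  obtain ⟨hA, hρ, hπ⟩ := shift S ha hx.1.1.1 hx.1.2 hr
  refine ⟨⟨Oset_move S (S.cz_Q hr) (Q_pres S hr) hx.1.1, hρ⟩, ?_⟩
  rw [hπ, hx.2, h]

theorem ofib_sum {a : K} (ha : a ∈ A0 S) :
    (ofib S (S.ρ a)).ncard = ∑ p : K4 × K4, (slice S a p).ncard := by
  classical
  have := Fintype.ofFinite K
  choose cf hcf using fun x : {x : K // x ∈ ofib S (S.ρ a)} => (show ∃ p : K4 × K4,
    S.π (a⁻¹ * x.1) = p.1 • pv i₀ + p.2 • pv j₀ by
      obtain ⟨s, t, e⟩ := inW_span ort_base (show i₀ ≠ j₀ by decide) (diff_mem S ha x.2.1.1 x.2.2).2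
      exact ⟨(s, t), e⟩)
  have hcard : ∀ p, (slice S a p).ncard =
      (Finset.univ.filter fun x : {x : K // x ∈ ofib S (S.ρ a)} => cf x = p).card := by
    intro p
    rw [← Nat.card_coe_set_eq, ← Nat.card_eq_finsetCard]
    refine Nat.card_congr
      { toFun := fun x => ⟨⟨x.1, x.2.1⟩, ?_⟩
        invFun := fun x => ⟨x.1.1, x.1.2, ?_⟩
        left_inv := fun x => rfl
        right_inv := fun x => rfl }
    · refine Finset.mem_filter.2 ⟨Finset.mem_univ _, ?_⟩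
      obtain ⟨e1, e2⟩ := span_indep (show i₀ ≠ j₀ by decide) ((hcf ⟨x.1, x.2.1⟩).symm.trans x.2.2)
      exact Prod.ext e1 e2
    · rw [hcf x.1, (Finset.mem_filter.1 x.2).2]
  rw [← Nat.card_coe_set_eq, Nat.card_eq_fintype_card, ← Finset.card_univ,
    Finset.card_eq_sum_card_fiberwise (f := cf) (t := Finset.univ) fun _ _ => Finset.mem_univ _]
  exact Finset.sum_congr rfl fun p _ => (hcard p).symm

variable {a₁ : K} (ha : a₁ ∈ A0 S) (hρ : S.ρ a₁ = tp i₀)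
  (hflat : ∀ r ∈ Q, hh (S.π r) (pv i₀) = 0 → a₁ * r = r * a₁)

section Base

include ha hρ

theorem base_shift (p : K4 × K4) (s : K4) :
    (slice S a₁ p).ncard = (slice S a₁ (s, p.2)).ncard := by
  have key : ∀ (p : K4 × K4) (s : K4), (slice S a₁ p).ncard ≤ (slice S a₁ (s, p.2)).ncard := by
    intro p s
    obtain ⟨w, hw⟩ := exists_value i₀ (p.1 + s)
    obtain ⟨r, hr, rfl⟩ := S.π_surj w
    refine slice_shift S ha hr ?_
    rw [hρ, tp_apply, hw, ← add_assoc (S.π r), vec_add_self, zero_add, add_smul]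
    show p.1 • pv i₀ + p.2 • pv j₀ + (p.1 • pv i₀ + s • pv i₀) = s • pv i₀ + p.2 • pv j₀
    calc _ = (p.1 • pv i₀ + p.1 • pv i₀) + (s • pv i₀ + p.2 • pv j₀) := by abel
      _ = _ := by rw [vec_add_self, zero_add]
  exact le_antisymm (key p s) (key (s, p.2) p.1)

include hflat

theorem flip {x : K} {p : K4 × K4} (hp : p.2 ≠ 0) (hx : x ∈ slice S a₁ p) :
    z * x ∈ slice S a₁ p := by
  have hu := diff_mem S ha hx.1.1.1 hx.1.2
  obtain ⟨w, hw1, hw2⟩ : ∃ w, hh w (pv i₀) = 0 ∧ pol4 w (S.π (a₁⁻¹ * x)) = 1 := by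
    by_contra hall
    push Not at hall
    obtain ⟨c, hc⟩ := mem_point_of_perp (u := S.π (a₁⁻¹ * x)) fun w hw => by
      rw [pol4_comm]
      exact (show ∀ t : ZMod 2, t ≠ 1 → t = 0 by decide) _ (hall w hw)
    rw [hx.2] at hc
    exact hp (span_indep (show i₀ ≠ j₀ by decide) (a' := c) (b' := 0) (hc.trans (by simp))).2
  obtain ⟨r, hr, rfl⟩ := S.π_surj w
  have hrx : cj r x = z * x := by
    have ea : cj r a₁ = a₁ := cj_fix_iff.2 (hflat r hr hw1).symm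
    have eu : cj r (a₁⁻¹ * x) = z * (a₁⁻¹ * x) := by
      have h := S.comm _ hu.1 r hr
      rw [pol4_comm, hw2, show zp z (1 : ZMod 2) = z by simp [zp]] at h
      rw [cj, h]
      calc a₁⁻¹ * x * r * z * r⁻¹ = a₁⁻¹ * x * (r * z) * r⁻¹ := by group
        _ = a₁⁻¹ * x * z := by rw [S.cz_Q hr]; group
        _ = z * (a₁⁻¹ * x) := S.cz_Q hu.1
    have e : cj r x = cj r a₁ * cj r (a₁⁻¹ * x) := by rw [← cj_mul', mul_inv_cancel_left]
    rw [e, ea, eu, ← mul_assoc, A0_cz S ha, mul_assoc, mul_inv_cancel_left]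
  rw [← hrx]
  obtain ⟨-, hρ', hπ⟩ := shift S ha hx.1.1.1 hx.1.2 hr
  refine ⟨⟨Oset_move S (S.cz_Q hr) (Q_pres S hr) hx.1.1, hρ'⟩, ?_⟩
  rw [hπ, hρ, tp_apply, hw1, zero_smul, add_zero, vec_add_self, add_zero, hx.2]

theorem flat_case (b : K4) (hb : b ≠ 0) :
    (slice S a₁ (0, b)).ncard = 0 ∨ (slice S a₁ (0, b)).ncard = 2 := by
  rcases (slice S a₁ (0, b)).eq_empty_or_nonempty with h | ⟨x, hx⟩
  · exact Or.inl (by simp [h])
  · refine Or.inr (le_antisymm (slice_le_two S a₁ ha _) ?_)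
    have hsub : ({x, z * x} : Set K) ⊆ slice S a₁ (0, b) := by
      rintro y (rfl | rfl)
      · exact hx
      · exact flip S ha hρ hflat hb hx
    have h := Set.ncard_le_ncard hsub (Set.toFinite _)
    rwa [Set.ncard_pair (fun e => S.z_ne (mul_eq_right.1 e.symm))] at h

theorem fuse (b : K4) :
    (slice S a₁ (0, b)).ncard ≤ (slice S a₁ (0, H41.SUSix.ω₄ * b)).ncard := by
  obtain ⟨s, e1, hs, e2⟩ := scalar_word
  obtain ⟨c, hc, hcρ⟩ := S.exists_of_closure (g := tp 25 * tp 7 * tp 6 * tp 0)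
    (mul_mem (mul_mem (mul_mem (Subgroup.subset_closure ⟨25, rfl⟩) (Subgroup.subset_closure ⟨7, rfl⟩))
      (Subgroup.subset_closure ⟨6, rfl⟩)) (Subgroup.subset_closure ⟨0, rfl⟩))
  rw [← hcρ] at e1 e2
  have hiso := S.ρ_iso c hc
  have hp : Pres S c := fun w hw => by
    obtain ⟨p, q, rfl⟩ := inW_span ort_base (by decide) hw
    rw [hiso.add, hiso.smul, hiso.smul, e1, e2, smul_smul, smul_smul]
    exact inW_comb ort_base _ _
  have hρc : S.ρ (cj c a₁) = tp i₀ := by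
    rw [S.ρ_cj_tp hc (A0_cz S ha) hρ, act_eq hiso (c := s) e1]
  have hA := cj_A0 S hc hp ha
  obtain ⟨s₀, hs₀⟩ : ∃ s₀ : K4, S.π (a₁⁻¹ * cj c a₁) = s₀ • pv i₀ := by
    have hu := diff_mem S ha hA (hρc.trans hρ.symm)
    refine mem_point_of_perp fun w hw => ?_
    obtain ⟨r, hr, rfl⟩ := S.π_surj w
    rw [← S.comm_iff hu.1 hr]
    have h1 : cj c a₁ * r = r * cj c a₁ := by
      have hr' : hh (S.π (cj c⁻¹ r)) (pv i₀) = 0 := by
        have e : hh (S.ρ c (S.π (cj c⁻¹ r))) (S.ρ c (pv i₀)) = 0 := by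
          rw [← S.π_cj hc (S.cj_mem (S.cz_inv hc) hr), cj_cj, mul_inv_cancel, cj_one', e1,
            hh_smul_right, hw, mul_zero]
        rwa [hiso.herm] at e
      have h := congrArg (cj c) (hflat _ (S.cj_mem (S.cz_inv hc) hr) hr')
      rwa [cj_mul' c a₁ (cj c⁻¹ r), cj_mul' c (cj c⁻¹ r) a₁, cj_cj, mul_inv_cancel, cj_one'] at h
    have h2 : a₁⁻¹ * r = r * a₁⁻¹ := (Commute.inv_left (show Commute a₁ r from hflat r hr hw)).eq
    rw [mul_assoc, h1, ← mul_assoc, h2, mul_assoc]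
  refine le_trans (Set.ncard_le_ncard_of_injOn (cj c) (t := slice S a₁ (s₀, H41.SUSix.ω₄ * b))
    (fun x hx => ?_) (cj_injective c).injOn (Set.toFinite _)) (le_of_eq (base_shift S ha hρ _ 0))
  have hu := diff_mem S ha hx.1.1.1 hx.1.2
  refine ⟨⟨Oset_move S hc hp hx.1.1, ?_⟩, ?_⟩
  · rw [S.ρ_cj hc (A0_cz S hx.1.1.1), hx.1.2, ← S.ρ_cj hc (A0_cz S ha), hρc, hρ]
  · have e : a₁⁻¹ * cj c x = a₁⁻¹ * cj c a₁ * cj c (a₁⁻¹ * x) := by
      rw [mul_assoc, ← cj_mul', mul_inv_cancel_left]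
    rw [e, S.π_mul _ (diff_mem S ha hA (hρc.trans hρ.symm)).1 _ (S.cj_mem hc hu.1), hs₀,
      S.π_cj hc hu.1, hx.2]
    show s₀ • pv i₀ + S.ρ c ((0 : K4) • pv i₀ + b • pv j₀) = _
    rw [zero_smul, zero_add, hiso.smul, e2, smul_smul, mul_comm b]

theorem flat_count : ∃ i j, i ≤ 2 ∧ j ≤ 1 ∧ (ofib S (tp i₀)).ncard = 4 * i + 24 * j ∧
    (∀ s, (slice S a₁ (s, 0)).ncard = i) ∧ ∀ p : K4 × K4, p.2 ≠ 0 → (slice S a₁ p).ncard = 2 * j := by
  set n : K4 → ℕ := fun b => (slice S a₁ (0, b)).ncard with hn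
  have hall : ∀ p, (slice S a₁ p).ncard = n p.2 := fun p => base_shift S ha hρ p 0
  have hcyc : ∀ b, n b ≤ n (H41.SUSix.ω₄ * b) := fuse S ha hρ hflat
  have hw3 : H41.SUSix.ω₄ * (H41.SUSix.ω₄ * H41.SUSix.ω₄) = 1 := by decide +kernel
  have hb : ∀ b : K4, b ≠ 0 → n b = n 1 := by
    have key : ∀ b : K4, b ≠ 0 → b = 1 ∨ b = H41.SUSix.ω₄ ∨ b = H41.SUSix.ω₄ * H41.SUSix.ω₄ := by
      decide +kernel
    have a1 := hcyc 1
    have a2 := hcyc H41.SUSix.ω₄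
    have a3 := hcyc (H41.SUSix.ω₄ * H41.SUSix.ω₄)
    rw [mul_one] at a1
    rw [hw3] at a3
    intro b hb0
    rcases key b hb0 with rfl | rfl | rfl <;> omega
  obtain ⟨j, hj, hj'⟩ : ∃ j, j ≤ 1 ∧ n 1 = 2 * j := by
    rcases flat_case S ha hρ hflat 1 one_ne_zero with e | e
    · exact ⟨0, by norm_num, e⟩
    · exact ⟨1, le_rfl, e⟩
  refine ⟨n 0, j, slice_le_two S a₁ ha _, hj, ?_, fun s => hall (s, 0),
    fun p hp => (hall p).trans ((hb _ hp).trans hj')⟩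
  rw [← hρ, ofib_sum S ha, Finset.sum_congr rfl fun p _ => hall p, Fintype.sum_prod_type]
  show ∑ _x : K4, ∑ y : K4, n y = _
  rw [Finset.sum_const, Finset.card_univ, H41.SUSix.hK, smul_eq_mul,
    ← Finset.add_sum_erase _ _ (Finset.mem_univ (0 : K4)),
    Finset.sum_congr rfl fun b hb' => (hb b (Finset.ne_of_mem_erase hb')).trans hj',
    Finset.sum_const, Finset.card_erase_of_mem (Finset.mem_univ _), Finset.card_univ, H41.SUSix.hK,
    smul_eq_mul]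
  omega

end Base

theorem pair_count {a : K} (ha₂ : a ∈ A0 S) (hρ₂ : S.ρ a = tp i₀ * tp j₀) :
    ∃ l, l ≤ 2 ∧ (ofib S (tp i₀ * tp j₀)).ncard = 16 * l ∧ ∀ p, (slice S a p).ncard = l := by
  have key : ∀ p q : K4 × K4, (slice S a p).ncard ≤ (slice S a q).ncard := by
    intro p q
    obtain ⟨w, hw1, hw2⟩ := exists_values (show i₀ ≠ j₀ by decide) (p.1 + q.1) (p.2 + q.2)
    obtain ⟨r, hr, rfl⟩ := S.π_surj w
    refine slice_shift S ha₂ hr ?_
    rw [hρ₂, Equiv.Perm.mul_apply, tp_apply, tp_apply, hh_add_left, hh_smul_left, hw1, hw2,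
      ort_iff.1 (ort_symm ort_base), mul_zero, add_zero]
    calc _ = (p.1 • pv i₀ + p.1 • pv i₀) + (p.2 • pv j₀ + p.2 • pv j₀) + (S.π r + S.π r) +
        (q.1 • pv i₀ + q.2 • pv j₀) := by rw [add_smul, add_smul]; abel
      _ = _ := by simp only [vec_add_self, zero_add]
  refine ⟨(slice S a (0, 0)).ncard, slice_le_two S a ha₂ _, ?_,
    fun p => le_antisymm (key _ _) (key _ _)⟩
  rw [← hρ₂, ofib_sum S ha₂, Finset.sum_congr rfl fun p _ => le_antisymm (key p (0, 0)) (key (0, 0) p),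
    Finset.sum_const, Finset.card_univ, Fintype.card_prod, H41.SUSix.hK, smul_eq_mul]
  norm_num

/-- Transport to the base point. -/
theorem to_point (m : Fin 5) : ∃ c : K, c * z = z * c ∧ Pres S c ∧ act (S.ρ c) (lp m) = i₀ := by
  obtain ⟨n, hn⟩ : ∃ n : Fin 5, m ≠ n := exists_ne m |>.imp fun _ h => h.symm
  obtain ⟨c, hc, hp, e, -⟩ := exists_pres S (lp_mem m) (lp_mem n) fun e => hn (lp_inj e)
  exact ⟨c, hc, hp, e⟩

theorem ofib_move {c : K} (hc : c * z = z * c) (hp : Pres S c) {x : K} {f : Equiv.Perm W4}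
    (hx : x ∈ ofib S f) : cj c x ∈ ofib S (S.ρ c * f * (S.ρ c)⁻¹) :=
  ⟨Oset_move S hc hp hx.1, by rw [S.ρ_cj hc (A0_cz S hx.1.1), hx.2]⟩

theorem ofib_card_move {c : K} (hc : c * z = z * c) (hp : Pres S c) (f : Equiv.Perm W4) :
    (ofib S f).ncard = (ofib S (S.ρ c * f * (S.ρ c)⁻¹)).ncard := by
  refine le_antisymm (Set.ncard_le_ncard_of_injOn (cj c) (fun x hx => ofib_move S hc hp hx)
    (cj_injective c).injOn (Set.toFinite _)) ?_
  refine Set.ncard_le_ncard_of_injOn (cj c⁻¹) (fun x hx => ?_) (cj_injective _).injOn (Set.toFinite _)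
  have h := ofib_move S (S.cz_inv hc) (pres_inv S hc hp) hx
  rwa [S.ρ_inv hc, show (S.ρ c)⁻¹ * (S.ρ c * f * (S.ρ c)⁻¹) * (S.ρ c)⁻¹⁻¹ = f by group] at h

theorem ofib_tp (m : Fin 5) : (ofib S (tp (lp m))).ncard = (ofib S (tp i₀)).ncard := by
  obtain ⟨c, hc, hp, e⟩ := to_point S m
  rw [ofib_card_move S hc hp, conj_tp (S.ρ_iso c hc), e]

theorem ofib_pair {m n : Fin 5} (h : m ≠ n) :
    (ofib S (tp (lp m) * tp (lp n))).ncard = (ofib S (tp i₀ * tp j₀)).ncard := by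
  obtain ⟨c, hc, hp, e1, e2⟩ := exists_pres S (lp_mem m) (lp_mem n) fun e => h (lp_inj e)
  rw [ofib_card_move S hc hp, ← e1, ← e2, ← conj_tp (S.ρ_iso c hc), ← conj_tp (S.ρ_iso c hc)]
  congr 2
  group

include hE in
theorem Oset_shape {x : K} (hx : x ∈ Oset S) (hne : x ≠ z) :
    ∃ p : Fin 5 × Fin 5, p.1 ≤ p.2 ∧ S.ρ x = code p := by
  obtain ⟨hA, g, e⟩ := hx
  refine (rho_cases S hA).resolve_left fun h => hne ?_
  rw [← e]
  exact no_conj_Q S hE (e ▸ (A0_mem_U0_of_rho S hA h).1)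

include hE in
theorem Oset_card : (Oset S).ncard =
    1 + 5 * (ofib S (tp i₀)).ncard + 10 * (ofib S (tp i₀ * tp j₀)).ncard := by
  classical
  have := Fintype.ofFinite K
  have hz : z ∈ Oset S := ⟨z_mem_A0 S, 1, cj_one' z⟩
  have hsum : (Oset S \ {z}).ncard =
      ∑ p ∈ Finset.univ.filter (fun p : Fin 5 × Fin 5 => p.1 ≤ p.2), (ofib S (code p)).ncard := by
    rw [Set.ncard_eq_toFinset_card']
    simp only [Set.ncard_eq_toFinset_card']
    rw [← Finset.card_biUnion fun p hp q hq hne => by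
      show Disjoint (ofib S (code p)).toFinset (ofib S (code q)).toFinset
      rw [Finset.disjoint_left]
      intro x h1 h2
      rw [Set.mem_toFinset] at h1 h2
      exact hne (code_inj (Finset.mem_filter.1 hp).2 (Finset.mem_filter.1 hq).2 (h1.2.symm.trans h2.2))]
    congr 1
    ext x
    simp only [Set.mem_toFinset, Set.mem_diff, Set.mem_singleton_iff, Finset.mem_biUnion,
      Finset.mem_filter, Finset.mem_univ, true_and]
    constructor
    · rintro ⟨hx, hne⟩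
      obtain ⟨p, hp, e⟩ := Oset_shape S hE hx hne
      exact ⟨p, hp, hx, e⟩
    · rintro ⟨p, -, hx, e⟩
      exact ⟨hx, fun h => code_ne_one p (by rw [← e, h, S.ρ_of_Q S.hzQ])⟩
  have hval : ∀ p : Fin 5 × Fin 5, (ofib S (code p)).ncard =
      if p.1 = p.2 then (ofib S (tp i₀)).ncard else (ofib S (tp i₀ * tp j₀)).ncard := by
    intro p
    unfold code invP
    split_ifs with h h' h'
    · exact ofib_tp S p.1
    · exact absurd (lp_inj h) h'
    · exact absurd (congrArg lp h') h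
    · exact ofib_pair S h'
  rw [← Set.ncard_diff_singleton_add_one hz (Set.toFinite _), hsum,
    Finset.sum_congr rfl fun p _ => hval p, Finset.sum_ite, Finset.sum_const, Finset.sum_const,
    show ((Finset.univ.filter fun p : Fin 5 × Fin 5 => p.1 ≤ p.2).filter fun p => p.1 = p.2).card = 5
      by decide,
    show ((Finset.univ.filter fun p : Fin 5 × Fin 5 => p.1 ≤ p.2).filter fun p => ¬ p.1 = p.2).card = 10
      by decide, smul_eq_mul, smul_eq_mul]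
  omega

include h1 hE in
theorem three_values {i j l : ℕ} (hi : i ≤ 2) (hj : j ≤ 1) (hl : l ≤ 2)
    (hN : (Oset S).ncard = 1 + 20 * i + 120 * j + 160 * l) :
    (i = 0 ∧ j = 0 ∧ l = 0) ∨ (i = 1 ∧ j = 0 ∧ l = 0) ∨ (i = 0 ∧ j = 1 ∧ l = 2) := by
  have bad : ∀ p : ℕ, p.Prime → p ≠ 2 → (∀ k ∈ Finset.Icc 1 9, ¬ p ∣ 2 ^ k - 1) →
      p ∣ (Oset S).ncard → False := fun p hp h2 hk hd => by
    obtain ⟨k, hk', hd'⟩ := prime_small S h1 hp h2 (hd.trans (Oset_dvd S h1))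
    exact hk k hk' hd'
  rw [hN] at bad
  have tbl : ∀ (i : Fin 3) (j : Fin 2) (l : Fin 3), (((i : ℕ) = 0 ∧ (j : ℕ) = 0 ∧ (l : ℕ) = 0) ∨
      ((i : ℕ) = 1 ∧ (j : ℕ) = 0 ∧ (l : ℕ) = 0) ∨ ((i : ℕ) = 0 ∧ (j : ℕ) = 1 ∧ (l : ℕ) = 2)) ∨ ([11, 13, 19, 23, 41, 43, 47, 67, 107, 181, 281, 461] : List ℕ).any
        (fun p => (1 + 20 * (i : ℕ) + 120 * (j : ℕ) + 160 * (l : ℕ)) % p == 0) = true := by decide
  have good : ∀ p ∈ ([11, 13, 19, 23, 41, 43, 47, 67, 107, 181, 281, 461] : List ℕ),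
      p.Prime ∧ p ≠ 2 ∧ ∀ k ∈ Finset.Icc 1 9, ¬ p ∣ 2 ^ k - 1 := by
    intro p hp
    simp only [List.mem_cons, List.not_mem_nil, or_false] at hp
    rcases hp with rfl | rfl | rfl | rfl | rfl | rfl | rfl | rfl | rfl | rfl | rfl | rfl <;>
      exact ⟨by norm_num, by norm_num, by decide⟩
  rcases tbl ⟨i, by omega⟩ ⟨j, by omega⟩ ⟨l, by omega⟩ with h | h
  · exact h
  · obtain ⟨p, hp, hd⟩ := List.any_eq_true.1 h
    replace hd := Nat.dvd_of_mod_eq_zero (beq_iff_eq.1 hd)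
    obtain ⟨hp1, hp2, hp3⟩ := good p hp
    exact (bad p hp1 hp2 hp3 hd).elim

theorem point_sub {m : Fin 5} {c u : K} (hc : c * z = z * c) (hact : act (S.ρ c) (lp m) = i₀)
    (hu : u ∈ Q) {d : K4} (h : S.π (cj c u) = d • pv i₀) : ∃ e : K4, S.π u = e • pv (lp m) := by
  have hiso := S.ρ_iso c hc
  obtain ⟨s, hs, es⟩ := act_spec hiso (lp m)
  rw [hact] at es
  refine ⟨d * s⁻¹, (S.ρ c).injective ?_⟩
  rw [← S.π_cj hc hu, h, hiso.smul, es, smul_smul, mul_assoc, inv_mul_cancel₀ hs, mul_one]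

theorem card_pointpart (k : Fin 45) : {u | u ∈ Q ∧ ∃ d : K4, S.π u = d • pv k}.ncard ≤ 8 := by
  classical
  choose lift hlQ hl using fun d : K4 => S.π_surj (d • pv k)
  have hsub : {u | u ∈ Q ∧ ∃ d : K4, S.π u = d • pv k} ⊆
      Set.range (fun p : K4 × Bool => cond p.2 (lift p.1) (z * lift p.1)) := by
    rintro u ⟨hu, d, hd⟩
    rcases S.π_eq (hlQ d) hu (by rw [hl, hd]) with e | e
    · exact ⟨(d, true), e.symm⟩
    · exact ⟨(d, false), e.symm⟩
  refine le_trans (Set.ncard_le_ncard hsub (Set.toFinite _)) ?_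
  rw [← Nat.card_coe_set_eq]
  refine le_trans (Finite.card_range_le _) (le_of_eq ?_)
  rw [Nat.card_prod, Nat.card_eq_fintype_card, H41.SUSix.hK, Nat.card_eq_fintype_card,
    Fintype.card_bool]
  norm_num

include hE h1 ha hρ hflat in
/-- The case of four hundred and forty-one is impossible. -/
theorem no_big {a₂ : K} (ha₂ : a₂ ∈ A0 S) (hρ₂ : S.ρ a₂ = tp i₀ * tp j₀)
    (hflatn : ∀ p : K4 × K4, p.2 ≠ 0 → (slice S a₁ p).ncard = 2)
    (hpair : ∀ p, (slice S a₂ p).ncard = 2) : False := by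
  classical
  -- membership forced by full slices
  have full : ∀ {a x : K} (_ : a ∈ A0 S) (_ : x ∈ A0 S) (_ : S.ρ x = S.ρ a) (p : K4 × K4),
      S.π (a⁻¹ * x) = p.1 • pv i₀ + p.2 • pv j₀ → (slice S a p).ncard = 2 → x ∈ Oset S := by
    intro a x ha' hx hxρ p hp h2
    obtain ⟨y, hy, y', hy', hne⟩ := (Set.one_lt_ncard (Set.toFinite _)).1 (by omega : 1 < (slice S a p).ncard)
    have hu := diff_mem S ha' hx hxρ
    have cases' : ∀ w, w ∈ slice S a p → w = x ∨ w = z * x := by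
      intro w hw
      rcases S.π_eq hu.1 (diff_mem S ha' hw.1.1.1 hw.1.2).1 (hp.trans hw.2.symm) with e | e
      · exact Or.inl (mul_left_cancel e)
      · exact Or.inr (mul_left_cancel (a := a⁻¹) (by
          rw [e, ← mul_assoc, ← mul_assoc, ← S.cz_inv (A0_cz S ha')]))
    rcases cases' y hy with e | e
    · exact e ▸ hy.1.1
    · rcases cases' y' hy' with e' | e'
      · exact e' ▸ hy'.1.1
      · exact absurd (e.trans e'.symm) hne
  have pairs : ∀ x ∈ A0 S, ∀ m n, m ≠ n → S.ρ x = tp (lp m) * tp (lp n) → x ∈ Oset S := by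
    intro x hx m n hmn e
    obtain ⟨c, hc, hp, e1, e2⟩ := exists_pres S (lp_mem m) (lp_mem n) fun e => hmn (lp_inj e)
    have hA := cj_A0 S hc hp hx
    have hρc : S.ρ (cj c x) = S.ρ a₂ := by
      rw [S.ρ_cj hc (A0_cz S hx), e, hρ₂, ← e1, ← e2, ← conj_tp (S.ρ_iso c hc),
        ← conj_tp (S.ρ_iso c hc)]
      group
    obtain ⟨s, t, est⟩ := inW_span ort_base (show i₀ ≠ j₀ by decide) (diff_mem S ha₂ hA hρc).2
    have h := Oset_move S (S.cz_inv hc) (pres_inv S hc hp) (full ha₂ hA hρc (s, t) est (hpair _))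
    rwa [cj_inv_cj'] at h
  have same : ∀ x y : K, x ∈ A0 S → y ∈ A0 S → x ∉ Oset S → y ∉ Oset S → ∀ m, S.ρ x = tp (lp m) →
      S.ρ y = tp (lp m) → ∃ d : K4, S.π (x⁻¹ * y) = d • pv (lp m) := by
    intro x y hx hy hxO hyO m ex ey
    obtain ⟨c, hc, hp, e⟩ := to_point S m
    have flat0 : ∀ w, w ∈ A0 S → w ∉ Oset S → S.ρ w = tp (lp m) →
        ∃ d : K4, S.π (a₁⁻¹ * cj c w) = d • pv i₀ := by
      intro w hw hwO ew
      have hA := cj_A0 S hc hp hw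
      have hρc : S.ρ (cj c w) = S.ρ a₁ := by rw [S.ρ_cj_tp hc (A0_cz S hw) ew, e, hρ]
      obtain ⟨s, t, est⟩ := inW_span ort_base (show i₀ ≠ j₀ by decide) (diff_mem S ha hA hρc).2
      refine ⟨s, ?_⟩
      by_cases ht : t = 0
      · rw [est, ht, zero_smul, add_zero]
      · exfalso
        have h := Oset_move S (S.cz_inv hc) (pres_inv S hc hp)
          (full ha hA hρc (s, t) est (hflatn (s, t) ht))
        rw [cj_inv_cj'] at h
        exact hwO h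
    obtain ⟨d, hd⟩ := flat0 x hx hxO ex
    obtain ⟨d', hd'⟩ := flat0 y hy hyO ey
    have hu := diff_mem S hx hy (ey.trans ex.symm)
    refine point_sub S hc e hu.1 (d := d + d') ?_
    have hA := cj_A0 S hc hp hx
    have hB := cj_A0 S hc hp hy
    have u1 := diff_mem S ha hA (by rw [S.ρ_cj_tp hc (A0_cz S hx) ex, e, hρ])
    have u2 := diff_mem S ha hB (by rw [S.ρ_cj_tp hc (A0_cz S hy) ey, e, hρ])
    have hkey : cj c (x⁻¹ * y) = (a₁⁻¹ * cj c x)⁻¹ * (a₁⁻¹ * cj c y) := by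
      simp only [cj]; group
    rw [hkey, S.π_mul _ (inv_mem u1.1) _ u2.1, S.π_inv u1.1, hd, hd', add_smul]
  -- the complement
  let Y : Set K := {y | y ∈ A0 S ∧ y ≠ 1 ∧ y ∉ Oset S}
  have hYn : ∀ n ∈ Nm S, ∀ y ∈ Y, cj n y ∈ Y := by
    rintro n hn y ⟨hy, hy1, hyO⟩
    refine ⟨hn y hy, fun e => hy1 (cj_injective n (e.trans (by simp [cj]))), fun h => hyO ?_⟩
    obtain ⟨-, g, eg⟩ := h
    exact ⟨hy, n⁻¹ * g, by rw [← cj_cj, eg, cj_inv_cj']⟩
  let Pa : K → Set K := fun y => {w | w ∈ Y ∧ y * w ∈ Y}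
  have hU' : ∀ u ∈ U0 S, u ≠ 1 → u ≠ z → u ∈ Y := fun u hu h0 hz =>
    ⟨U0_le S hu, h0, fun hO => by
      obtain ⟨p, -, e⟩ := Oset_shape S hE hO hz
      exact code_ne_one p (e.symm.trans (S.ρ_of_Q hu.1))⟩
  have hlow : ∀ u ∈ U0 S, u ≠ 1 → u ≠ z → 28 ≤ (Pa u).ncard := by
    intro u hu h0 hz
    have hsub : (U0 S : Set K) \ {1, z, u, z * u} ⊆ Pa u := by
      rintro w ⟨hw, hw'⟩
      simp only [Set.mem_insert_iff, Set.mem_singleton_iff, not_or] at hw'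
      refine ⟨hU' w hw hw'.1 hw'.2.1, hU' _ (mul_mem hu hw) (fun e => hw'.2.2.1 ?_) fun e => hw'.2.2.2 ?_⟩
      · rw [eq_inv_of_mul_eq_one_right e, inv_eq_of_mul_eq_one_right (U0_sq S hu)]
      · calc w = u * (u * w) := by rw [← mul_assoc, U0_sq S hu, one_mul]
          _ = z * u := by rw [e, S.cz_Q hu.1]
    refine le_trans ?_ (Set.ncard_le_ncard hsub (Set.toFinite _))
    refine le_trans ?_ (Set.le_ncard_diff _ _ (Set.toFinite _))
    rw [← Nat.card_coe_set_eq, SetLike.coe_sort_coe, card_U0]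
    have : ({1, z, u, z * u} : Set K).ncard ≤ 4 :=
      le_trans (Set.ncard_insert_le _ _) (Nat.succ_le_succ (le_trans (Set.ncard_insert_le _ _)
        (Nat.succ_le_succ (le_trans (Set.ncard_insert_le _ _) (by rw [Set.ncard_singleton])))))
    omega
  have shapeY : ∀ y ∈ Y, y ∉ U0 S → ∃ m, S.ρ y = tp (lp m) := by
    rintro y ⟨hy, -, hyO⟩ hyU
    obtain ⟨⟨m, n⟩, -, e⟩ := (rho_cases S hy).resolve_left fun h => hyU (A0_mem_U0_of_rho S hy h)
    unfold code invP at e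
    split_ifs at e with h
    · exact ⟨m, e⟩
    · exact absurd (pairs y hy m n (fun e' => h (congrArg lp e')) e) hyO
  have hhigh : ∀ y ∈ Y, y ∉ U0 S → (Pa y).ncard ≤ 16 := by
    intro y hy hyU
    obtain ⟨m, em⟩ := shapeY y hy hyU
    let Z8 := {u | u ∈ Q ∧ ∃ d : K4, S.π u = d • pv (lp m)}
    have hsub : Pa y ⊆ Z8 ∪ (fun u => y * u) '' Z8 := by
      rintro w ⟨hw, hyw⟩
      by_cases hwU : w ∈ U0 S
      · left
        obtain ⟨d, hd⟩ := same y (y * w) hy.1 hyw.1 hy.2.2 hyw.2.2 m em (by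
          rw [S.ρ_mul _ _ (A0_cz S hy.1) (A0_cz S hw.1), S.ρ_of_Q hwU.1, mul_one, em])
        rw [inv_mul_cancel_left] at hd
        exact ⟨hwU.1, d, hd⟩
      · right
        obtain ⟨n, en⟩ := shapeY w hw hwU
        by_cases hmn : m = n
        · subst hmn
          obtain ⟨d, hd⟩ := same y w hy.1 hw.1 hy.2.2 hw.2.2 m em en
          exact ⟨y⁻¹ * w, ⟨(diff_mem S hy.1 hw.1 (en.trans em.symm)).1, d, hd⟩,
            mul_inv_cancel_left _ _⟩
        · exact absurd (pairs _ (mul_mem hy.1 hw.1) m n hmn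
            (by rw [S.ρ_mul _ _ (A0_cz S hy.1) (A0_cz S hw.1), em, en])) hyw.2.2
    refine le_trans (Set.ncard_le_ncard hsub (Set.toFinite _)) (le_trans (Set.ncard_union_le _ _) ?_)
    have h8 := card_pointpart S (lp m)
    have := Set.ncard_image_le (f := fun u => y * u) (Set.toFinite Z8)
    show Z8.ncard + _ ≤ 16
    have h8' : Z8.ncard ≤ 8 := h8
    omega
  have hPa : ∀ n ∈ Nm S, ∀ y, (Pa y).ncard ≤ (Pa (cj n y)).ncard := fun n hn y =>
    Set.ncard_le_ncard_of_injOn (cj n) (fun w hw => ⟨hYn n hn w hw.1, by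
      rw [← cj_mul']; exact hYn n hn _ hw.2⟩) (cj_injective n).injOn (Set.toFinite _)
  have hkeep : ∀ n ∈ Nm S, ∀ u ∈ U0 S, u ≠ 1 → u ≠ z → cj n u ∈ U0 S := fun n hn u hu h0 hz => by
    by_contra hout
    have := hlow u hu h0 hz
    have := hhigh _ (hYn n hn u (hU' u hu h0 hz)) hout
    have := hPa n hn u
    omega
  -- some member lies outside
  have hxO : a₂ ∈ Oset S :=
    full ha₂ ha₂ rfl (0, 0) (by rw [inv_mul_cancel, S.π_one]; simp) (hpair _)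
  obtain ⟨-, g, eg⟩ := hxO
  obtain ⟨n, hn, en⟩ := fusion S h1 (z_mem_A0 S) ha₂ eg
  obtain ⟨u, hu, hu'⟩ : ∃ u ∈ (U0 S : Set K), u ∉ ({1, z} : Set K) := by
    refine Set.exists_mem_notMem_of_ncard_lt_ncard ?_ (Set.toFinite _)
    rw [← Nat.card_coe_set_eq (U0 S : Set K), SetLike.coe_sort_coe, card_U0]
    exact lt_of_le_of_lt (Set.ncard_insert_le _ _) (by rw [Set.ncard_singleton]; norm_num)
  simp only [Set.mem_insert_iff, Set.mem_singleton_iff, not_or] at hu'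
  have h3 := hkeep n hn u hu hu'.1 hu'.2
  have h4 := hkeep n hn (z * u) (mul_mem (z_mem_U0 S) hu)
    (fun e => hu'.2 (by rw [eq_inv_of_mul_eq_one_right e, S.z_inv]))
    (fun e => hu'.1 (mul_eq_left.1 e))
  rw [cj_mul', en] at h4
  have hx2 : a₂ ∈ U0 S := (Subgroup.mul_mem_cancel_right _ h3).1 h4
  have h5 : tp i₀ * tp j₀ = 1 := hρ₂.symm.trans (S.ρ_of_Q hx2.1)
  exact absurd (tp_injective ((eq_inv_of_mul_eq_one_left h5).trans (tp_inv _))) (by decide)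

include hE h1 in
/-- The isolated case or the plane data. -/
theorem untwisted : (∀ g : K, g * z * g⁻¹ * z = z * (g * z * g⁻¹) → g * z * g⁻¹ = z) ∨
    Nonempty (Frame S) := by
  classical
  obtain ⟨a₁, ha, hρ, hflat⟩ := exists_flat S
  obtain ⟨m₀, n₀, hm₀, hn₀, hmn₀⟩ := lp_base
  obtain ⟨a₂, ha₂, hρ₂⟩ := exists_lift S (m₀, n₀)
  rw [code, invP, if_neg (fun e => hmn₀ (lp_inj e)), hm₀, hn₀] at hρ₂
  obtain ⟨i, j, hi, hj, hF, hs0, hs1⟩ := flat_count S ha hρ hflat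
  obtain ⟨l, hl, hD, hs2⟩ := pair_count S ha₂ hρ₂
  have hcard := Oset_card S hE
  rw [hF, hD] at hcard
  rcases three_values S hE h1 hi hj hl (by omega) with ⟨rfl, rfl, rfl⟩ | ⟨rfl, rfl, rfl⟩ | ⟨rfl, rfl, rfl⟩
  · -- isolated
    refine Or.inl fun g hg => ?_
    obtain ⟨c, hc, hA⟩ := invol_to_A0 S (x := cj g z) hg (cj_self_sq S.z_sq)
    have hm : cj c (cj g z) ∈ Oset S := ⟨hA, c * g, (cj_cj _ _ _).symm⟩
    obtain ⟨x, hx⟩ := Set.ncard_eq_one.1 (show (Oset S).ncard = 1 by omega)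
    have hz : z ∈ Oset S := ⟨z_mem_A0 S, 1, cj_one' z⟩
    rw [hx, Set.mem_singleton_iff] at hm hz
    exact cj_injective c ((hm.trans hz.symm).trans (S.cj_z hc).symm)
  swap
  · exact (no_big S hE h1 ha hρ hflat ha₂ hρ₂ hs1 hs2).elim
  · -- twenty-one members
    refine Or.inr ?_
    have hz : z ∈ Oset S := ⟨z_mem_A0 S, 1, cj_one' z⟩
    have toBase : ∀ x ∈ Oset S, x ≠ z → ∃ c : K, c * z = z * c ∧ Pres S c ∧
        ∃ s : K4, cj c x ∈ slice S a₁ (s, 0) := by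
      intro x hx hxz
      obtain ⟨⟨m, n⟩, -, e⟩ := Oset_shape S hE hx hxz
      unfold code invP at e
      split_ifs at e with h
      · obtain ⟨c, hc, hp, ec⟩ := to_point S m
        have hρc : S.ρ (cj c x) = S.ρ a₁ := by rw [S.ρ_cj_tp hc (A0_cz S hx.1) e, ec, hρ]
        obtain ⟨s, t, est⟩ := inW_span ort_base (show i₀ ≠ j₀ by decide)
          (diff_mem S ha (cj_A0 S hc hp hx.1) hρc).2
        by_cases ht : t = 0
        · exact ⟨c, hc, hp, s, ⟨Oset_move S hc hp hx, hρc⟩, by rw [est, ht]⟩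
        · have h0 := hs1 (s, t) ht
          rw [mul_zero, Set.ncard_eq_zero (Set.toFinite _)] at h0
          exact absurd (show cj c x ∈ slice S a₁ (s, t) from ⟨⟨Oset_move S hc hp hx, hρc⟩, est⟩)
            (h0 ▸ Set.notMem_empty _)
      · exfalso
        have hmn : m ≠ n := fun e' => h (congrArg lp e')
        have h0 := ofib_pair S hmn
        rw [hD, mul_zero, Set.ncard_eq_zero (Set.toFinite _)] at h0
        exact (h0 ▸ Set.notMem_empty x) (show x ∈ ofib S _ from ⟨hx, e⟩)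
    have uniq : ∀ (s : K4) {x y : K}, x ∈ slice S a₁ (s, 0) → y ∈ slice S a₁ (s, 0) → x = y :=
      fun s x y hx hy => (Set.ncard_le_one (Set.toFinite _)).1 (le_of_eq (hs0 s)) x hx y hy
    have trans1 : ∀ x ∈ Oset S, x ≠ z → ∀ y ∈ Oset S, y ≠ z → ∃ c : K, c * z = z * c ∧ cj c x = y := by
      intro x hx hxz y hy hyz
      obtain ⟨c, hc, -, s, hs⟩ := toBase x hx hxz
      obtain ⟨d, hd, -, t, ht⟩ := toBase y hy hyz
      obtain ⟨w, hw⟩ := exists_value i₀ (s + t)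
      obtain ⟨r, hr, rfl⟩ := S.π_surj w
      obtain ⟨-, hρ', hπ⟩ := shift S ha hs.1.1.1 hs.1.2 hr
      have hmem : cj r (cj c x) ∈ slice S a₁ (t, 0) := by
        refine ⟨⟨Oset_move S (S.cz_Q hr) (Q_pres S hr) hs.1.1, hρ'⟩, ?_⟩
        rw [hπ, hs.2, hρ, tp_apply, hw, ← add_assoc (S.π r), vec_add_self, zero_add, add_smul]
        show s • pv i₀ + (0 : K4) • pv j₀ + (s • pv i₀ + t • pv i₀) = t • pv i₀ + (0 : K4) • pv j₀
        rw [zero_smul, add_zero, add_zero, ← add_assoc, vec_add_self, zero_add]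
      have e := uniq t hmem ht
      refine ⟨d⁻¹ * (r * c), S.cz_mul (S.cz_inv hd) (S.cz_mul (S.cz_Q hr) hc), ?_⟩
      rw [← cj_cj, ← cj_cj r c, e, cj_inv_cj']
    have toZ : ∀ a ∈ Oset S, ∃ n ∈ Nm S, cj n a = z := by
      rintro a ⟨ha', g, e⟩
      exact fusion S h1 ha' (z_mem_A0 S) (g := g⁻¹) (by rw [← e, cj_inv_cj'])
    have moveO : ∀ n ∈ Nm S, ∀ a ∈ Oset S, cj n a ∈ Oset S := fun n hn a ⟨ha', g, e⟩ =>
      ⟨hn a ha', n * g, by rw [← cj_cj, e]⟩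
    have pairz : ∀ x ∈ Oset S, x ≠ z → z * x ∉ Oset S := by
      intro x hx hxz h
      obtain ⟨c, hc, hp, s, hs⟩ := toBase x hx hxz
      have hzx : z * cj c x ∈ slice S a₁ (s, 0) := by
        have hu := diff_mem S ha hs.1.1.1 hs.1.2
        refine ⟨⟨?_, ?_⟩, ?_⟩
        · have h' := Oset_move S hc hp h
          rwa [cj_mul', S.cj_z hc] at h'
        · rw [S.ρ_mul _ _ rfl (A0_cz S hs.1.1.1), S.ρ_of_Q S.hzQ, one_mul, hs.1.2]
        · rw [← mul_assoc, S.cz_inv (A0_cz S ha), mul_assoc, S.π_zmul hu.1, hs.2]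
      exact S.z_ne (mul_eq_right.1 (uniq s hzx hs))
    refine ⟨{
      A := A0 S, hz := z_mem_A0 S, sq := h1, comm := fun a ha b hb => A0_abelian S h1 ha hb
      core := (card_U0 S).ge.trans (Subgroup.card_le_of_le (le_inf (U0_le S) fun u hu => hu.1))
      smul := ?_, card := (card_A0 S).ge, P := Oset S, P_z := hz, P_sub := fun a ha => ha.1
      P_conj := fun a ha => ha.2, P_card := by omega
      trans := ?_, char := fun g a ⟨_, g', e⟩ hA => ⟨hA, g * g', by rw [← cj_cj, e]⟩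
      pair_not := ?_, stab := ?_ }⟩
    · rintro _ ⟨q, hq, rfl⟩ c
      obtain ⟨r, hr, e⟩ := S.π_surj (c • S.π q)
      exact ⟨r, ⟨U0_le S ⟨hr, e ▸ inW0_smul c (A0_inf S hq.1 hq.2).2⟩, hr⟩, e⟩
    · intro a ha' b hb a' ha'' b' hb' hne hne'
      obtain ⟨n, hn, en⟩ := toZ a ha'
      obtain ⟨n', hn', en'⟩ := toZ a' ha''
      obtain ⟨c, hc, ec⟩ := trans1 _ (moveO n hn b hb) (fun e => hne (cj_injective n (en.trans e.symm)))
        _ (moveO n' hn' b' hb') (fun e => hne' (cj_injective n' (en'.trans e.symm)))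
      refine ⟨n'⁻¹ * (c * n), ?_, ?_⟩
      · rw [← cj_cj, ← cj_cj c n, en, S.cj_z hc, ← en', cj_inv_cj']
      · rw [← cj_cj, ← cj_cj c n, ec, cj_inv_cj']
    · rintro a ha' b hb hne ⟨g, e⟩
      obtain ⟨n, hn, en⟩ := toZ a ha'
      refine pairz _ (moveO n hn b hb) (fun e' => hne (cj_injective n (en.trans e'.symm)))
        ⟨mul_mem (z_mem_A0 S) (hn b hb.1), n * g, ?_⟩
      rw [← cj_cj, e, cj_mul', en]
    · intro c hc hpres a ha'
      refine cj_A0 S hc (fun w hw => ?_) ha'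
      obtain ⟨q, hq, rfl⟩ := S.π_surj w
      obtain ⟨r, hr, e⟩ := hpres _ ⟨q, ⟨U0_le S ⟨hq, hw⟩, hq⟩, rfl⟩
      rw [← e]
      exact (A0_inf S hr.1 hr.2).2

end Core

end Cfsg.Agent.H49.UChar
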