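import Cfsg.Agent.H49.UChar.Line
import Cfsg.Agent.H49.UChar.Conv
import Cfsg.Agent.H49.USix.Setup

/-!
Involutions and elements of order five in the unitary group of degree four over the field with four
elements.
-/

set_option autoImplicit false
set_option maxRecDepth 20000
set_option linter.unusedSectionVars false

namespace Cfsg.Agent.H49.UChar

open Cfsg Cfsg.Agent.Compute
open Cfsg.Agent.H41.SUSix (K4 ω₄)
open Cfsg.Agent.H49.USix
open Cfsg.Agent.Unitary (ap)

/-- The action on the space. -/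
noncomputable def Ahom : SU4 →* Equiv.Perm W4 :=
  MonoidHom.mk' (fun g => ⟨ap g, ap g⁻¹, Unitary.ap_inv_ap g, Unitary.ap_ap_inv g⟩)
    (fun g h => Equiv.ext fun u => Unitary.ap_mul g h u)

theorem Ahom_apply (g : SU4) (w : W4) : Ahom g w = ap g w := rfl

theorem Ahom_inj : Function.Injective Ahom := fun g h e => Unitary.ap_ext fun w => by
  rw [← Ahom_apply, e, Ahom_apply]

theorem Ahom_iso (g : SU4) : Iso (Ahom g) :=
  ⟨fun u v => Unitary.ap_add g u v, fun c u => Unitary.ap_smul g c u,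
    fun u v => Unitary.herm_ap g u v⟩

theorem closure_le_range : Subgroup.closure (Set.range tp) ≤ Ahom.range := by
  refine (Subgroup.closure_le _).2 ?_
  rintro _ ⟨i, rfl⟩
  refine ⟨Unitary.tv H41.SUSix.hK (v := pv i) (c := 1) (pv_iso i)
    (Unitary.one_skew_two H41.SUSix.hK), Equiv.ext fun w => ?_⟩
  rw [Ahom_apply]
  refine (Unitary.ap_tv _ _ _ _).trans ?_
  rw [one_mul, tp_apply]
  rfl

/-- Two coordinates exchanged. -/
def swA : Equiv.Perm (Fin 4) := Equiv.swap 0 1

/-- Two pairs of coordinates exchanged. -/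
def swB : Equiv.Perm (Fin 4) := Equiv.swap 0 1 * Equiv.swap 2 3

theorem swap_vec : ∀ v : Fin 256, (d4 v.1 ∘ swA = d4 v.1 + hh (d4 v.1) (pv 0) • pv 0) ∧
    d4 v.1 ∘ swB = d4 v.1 + hh (d4 v.1) (pv 15) • pv 15 +
      hh (d4 v.1 + hh (d4 v.1) (pv 15) • pv 15) (pv 0) • pv 0 := by
  decide +kernel

theorem Ahom_swA : Ahom (pm swA) = tp 0 := Equiv.ext fun w => by
  obtain ⟨v, rfl⟩ := d4_surj w
  rw [Ahom_apply, ap_pm, (swap_vec v).1, tp_apply]

theorem Ahom_swB : Ahom (pm swB) = tp 0 * tp 15 := Equiv.ext fun w => by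
  obtain ⟨v, rfl⟩ := d4_surj w
  rw [Ahom_apply, ap_pm, (swap_vec v).2, Equiv.Perm.mul_apply, tp_apply, tp_apply]

/-- Every involution is conjugate to one of the two permutation elements. -/
theorem invol_conj {a : SU4} (h2 : a * a = 1) (h1 : a ≠ 1) :
    ∃ g : SU4, g * a * g⁻¹ = pm swA ∨ g * a * g⁻¹ = pm swB := by
  have hA2 : Ahom a * Ahom a = 1 := by rw [← map_mul, h2, map_one]
  rcases invol_cases (Ahom_iso a) hA2 with e | ⟨i, e⟩ | ⟨i, j, hij, hne, e⟩
  · exact absurd (Ahom_inj (e.trans (map_one _).symm)) h1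
  · obtain ⟨g, hg, hgi, gi⟩ := point_trans i
    obtain ⟨k, hk, hki, ki⟩ := point_trans 0
    obtain ⟨g', rfl⟩ := closure_le_range hg
    obtain ⟨k', rfl⟩ := closure_le_range hk
    refine ⟨k'⁻¹ * g', Or.inl (Ahom_inj ?_)⟩
    rw [map_mul, map_mul, map_inv, map_mul, map_inv, e, Ahom_swA]
    calc (Ahom k')⁻¹ * Ahom g' * tp i * ((Ahom k')⁻¹ * Ahom g')⁻¹ =
        (Ahom k')⁻¹ * (Ahom g' * tp i * (Ahom g')⁻¹) * Ahom k' := by group
      _ = (Ahom k')⁻¹ * (Ahom k' * tp 0 * (Ahom k')⁻¹) * Ahom k' := by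
        rw [conj_tp hgi, gi, conj_tp hki, ki]
      _ = tp 0 := by group
  · have h015 : Ort 0 15 := by unfold Ort; decide +kernel
    obtain ⟨g, hg, hgi, gi, gj⟩ := pair_trans hij hne
    obtain ⟨k, hk, hki, ki, kj⟩ := pair_trans h015 (by decide)
    obtain ⟨g', rfl⟩ := closure_le_range hg
    obtain ⟨k', rfl⟩ := closure_le_range hk
    refine ⟨k'⁻¹ * g', Or.inr (Ahom_inj ?_)⟩
    rw [map_mul, map_mul, map_inv, map_mul, map_inv, e, Ahom_swB]
    calc (Ahom k')⁻¹ * Ahom g' * (tp i * tp j) * ((Ahom k')⁻¹ * Ahom g')⁻¹ =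
        (Ahom k')⁻¹ * ((Ahom g' * tp i * (Ahom g')⁻¹) * (Ahom g' * tp j * (Ahom g')⁻¹)) * Ahom k' := by
          group
      _ = (Ahom k')⁻¹ * ((Ahom k' * tp 0 * (Ahom k')⁻¹) * (Ahom k' * tp 15 * (Ahom k')⁻¹)) * Ahom k' := by
        rw [conj_tp hgi, conj_tp hgi, gi, gj, conj_tp hki, conj_tp hki, ki, kj]
      _ = tp 0 * tp 15 := by group

/-- An element of the torus commuting with both. -/
def t₀ : T3 := ![1, 1, 2]

theorem t₀_fix : psh swA t₀ = t₀ ∧ psh swB t₀ = t₀ := by decide +kernel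

theorem dg_t₀_ne : dg t₀ ≠ 1 := dg_ne_one (i := 0) (by decide +kernel)

theorem t₀_comm {σ : Equiv.Perm (Fin 4)} (h : σ = swA ∨ σ = swB) :
    pm σ * dg t₀ = dg t₀ * pm σ := by
  rw [pm_dg]
  rcases h with rfl | rfl
  · rw [t₀_fix.1]
  · rw [t₀_fix.2]

theorem t₀_block : ∀ i l : Fin 4, ∀ c : K4,
    wp (ext4 t₀ i) * c = wp (ext4 t₀ l) * c → c ≠ 0 → ((i : ℕ) < 2 ↔ (l : ℕ) < 2) := by
  decide +kernel

theorem block_funs : (Finset.univ.filter fun f : Fin 4 → Fin 4 =>
    Function.Injective f ∧ ∀ l : Fin 4, ((f l : ℕ) < 2 ↔ (l : ℕ) < 2)).card = 4 := by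
  decide +kernel

theorem one_supp : ∀ v : Fin 256, ∀ a : Fin 4, wt4 (d4 v.1) = 1 →
    (∀ i : Fin 4, d4 v.1 i ≠ 0 → ((i : ℕ) < 2 ↔ (a : ℕ) < 2)) →
    ∃ m : Fin 4, ∃ c : K4, c ≠ 0 ∧ ((m : ℕ) < 2 ↔ (a : ℕ) < 2) ∧ d4 v.1 = c • Pi.single m 1 := by
  decide +kernel

/-- A two-group centralising the torus element has order at most four. -/
theorem cent_t₀ {S : Subgroup SU4} (h2 : IsPGroup 2 ↥S) (hc : ∀ g ∈ S, g * dg t₀ = dg t₀ * g) :
    Nat.card ↥S ≤ 4 := by
  classical
  have key : ∀ (g : ↥S) (l : Fin 4), ∃ m : Fin 4, ∃ c : K4, c ≠ 0 ∧ ((m : ℕ) < 2 ↔ (l : ℕ) < 2) ∧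
      ap g.1 (Pi.single l 1) = c • Pi.single m 1 := by
    intro g l
    set u := ap g.1 (Pi.single l 1) with hu
    have hw : wt4 u = 1 := by
      have h : hh u u = 1 := by
        rw [hu, hh, Unitary.herm_ap, Unitary.herm_single_single hK4, if_pos rfl]
      rw [USix.hh_self] at h
      have key : ∀ a : ZMod 2, H41.LFi.iot a = 1 → a = 1 := by decide +kernel
      exact key _ h
    have hsupp : ∀ i : Fin 4, u i ≠ 0 → ((i : ℕ) < 2 ↔ (l : ℕ) < 2) := by
      intro i hi
      refine t₀_block i l (u i) ?_ hi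
      have h := congrArg (fun x : SU4 => ap x (Pi.single l 1) i) (hc g.1 g.2)
      simp only [Unitary.ap_mul, ap_dg] at h
      have e : ap (dg t₀) (Pi.single l 1) = wp (ext4 t₀ l) • Pi.single l 1 := by
        funext j
        rw [ap_dg, Pi.smul_apply, smul_eq_mul]
        by_cases hj : j = l
        · subst hj; rfl
        · rw [Pi.single_eq_of_ne hj, mul_zero, mul_zero]
      rw [e, Unitary.ap_smul] at h
      exact h.symm
    obtain ⟨v, hv⟩ := d4_surj u
    obtain ⟨m, c, hc0, hm, e⟩ := one_supp v l (by rw [hv]; exact hw)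
      (by rw [hv]; exact hsupp)
    exact ⟨m, c, hc0, hm, by rw [← e, hv]⟩
  choose F C hC hF hFe using key
  have hmem : ∀ g : ↥S, F g ∈ Finset.univ.filter fun f : Fin 4 → Fin 4 =>
      Function.Injective f ∧ ∀ l : Fin 4, ((f l : ℕ) < 2 ↔ (l : ℕ) < 2) := by
    intro g
    refine Finset.mem_filter.2 ⟨Finset.mem_univ _, fun l l' e => ?_, hF g⟩
    by_contra hne
    have h := Unitary.herm_ap g.1 (Pi.single l (1 : K4)) (Pi.single l' 1)
    rw [hFe, hFe, e, Unitary.herm_single_single hK4, if_neg hne] at h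
    have h' : hh (C g l • Pi.single (F g l') (1 : K4)) (C g l' • Pi.single (F g l') 1) = 0 := h
    rw [hh_smul_left, hh_smul_right, hh, Unitary.herm_single_single hK4, if_pos rfl, mul_one,
      mul_eq_zero, k4_sq_zero] at h'
    exact h'.elim (hC g l) (hC g l')
  refine le_trans (Nat.card_le_card_of_injective (fun g : ↥S =>
    (⟨F g, hmem g⟩ : {f // f ∈ Finset.univ.filter fun f : Fin 4 → Fin 4 =>
      Function.Injective f ∧ ∀ l : Fin 4, ((f l : ℕ) < 2 ↔ (l : ℕ) < 2)})) fun g h e => ?_)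
    (le_of_eq (by rw [Nat.card_eq_finsetCard, block_funs]))
  have e' : F g = F h := congrArg Subtype.val e
  set k : ↥S := h⁻¹ * g with hk
  have hkl : ∀ l, ap k.1 (Pi.single l 1) = (C g l * (C h l)⁻¹) • Pi.single l (1 : K4) := by
    intro l
    show ap (h.1⁻¹ * g.1) _ = _
    rw [Unitary.ap_mul, hFe g l, congrFun e' l,
      show C g l • Pi.single (F h l) (1 : K4) = (C g l * (C h l)⁻¹) • ap h.1 (Pi.single l 1) by
        rw [hFe h l, smul_smul, mul_assoc, inv_mul_cancel₀ (hC h l), mul_one],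
      Unitary.ap_smul, Unitary.ap_inv_ap]
  have k3 : k.1 ^ 3 = 1 := by
    refine Ahom_inj (Iso.ext_basis (Ahom_iso _) (Ahom_iso _) fun l => ?_)
    rw [map_one, Ahom_apply, pow_succ, pow_succ, pow_one, Unitary.ap_mul, Unitary.ap_mul, hkl,
      Unitary.ap_smul, hkl, Unitary.ap_smul, Unitary.ap_smul, hkl, smul_smul, smul_smul,
      Equiv.Perm.one_apply]
    have cube : ∀ a : K4, a ≠ 0 → a * a * a = 1 := by decide +kernel
    rw [cube _ (mul_ne_zero (hC g l) (inv_ne_zero (hC h l))), one_smul]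
  obtain ⟨n, hn⟩ := h2 k
  have h1 : k = 1 := by
    have := pow_gcd_eq_one.2 ⟨hn, (Subtype.ext (by simpa using k3) : k ^ 3 = 1)⟩
    rwa [show Nat.gcd (2 ^ n) 3 = 1 from Nat.Coprime.pow_left n (by norm_num), pow_one] at this
  exact (inv_mul_eq_one.1 h1).symm

/-! ### Elements of order five -/

/-- A map of order dividing five fixes every member of a small invariant set. -/
theorem fix_small {α : Type*} [DecidableEq α] {s : Finset α} (hs : s.card ≤ 4) {f : α → α}
    (hf : ∀ a ∈ s, f a ∈ s) (hinj : Function.Injective f) (h5 : ∀ a, f (f (f (f (f a)))) = a)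
    {a : α} (ha : a ∈ s) : f a = a := by
  classical
  let p : Equiv.Perm ↥s := Equiv.ofBijective (fun b => ⟨f b.1, hf b.1 b.2⟩)
    (Finite.injective_iff_bijective.1 fun b c e => Subtype.ext (hinj (congrArg Subtype.val e :)))
  have p5 : p ^ 5 = 1 := Equiv.ext fun b => Subtype.ext (h5 b.1)
  have hd : orderOf p ∣ Nat.gcd 5 s.card.factorial := by
    refine Nat.dvd_gcd (orderOf_dvd_of_pow_eq_one p5) ?_
    have h := orderOf_dvd_card (x := p)
    rwa [Fintype.card_perm, Fintype.card_coe] at h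
  have h1 : Nat.gcd 5 s.card.factorial = 1 := by
    interval_cases s.card <;> decide
  rw [h1, Nat.dvd_one, orderOf_eq_one_iff] at hd
  exact congrArg Subtype.val (Equiv.congr_fun hd ⟨a, ha⟩)

theorem three_lines : allN 45 (fun n => !adjC 1 n || (adjC 15 n || adjC 25 n || adjC 35 n)) = true := by
  decide +kernel

/-- An element of order five fixes no point. -/
theorem five_no_point {b : Equiv.Perm W4} (hb : Iso b) (h5 : b ^ 5 = 1)
    (hk : act b i₀ = i₀) : b = 1 := by
  classical
  have hinj := act_inj hb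
  have hiter : ∀ (r : Fin 45), act b (act b (act b (act b (act b r)))) = r := by
    intro r
    rw [← act_mul hb hb, ← act_mul (hb.mul hb) hb, ← act_mul ((hb.mul hb).mul hb) hb,
      ← act_mul (((hb.mul hb).mul hb).mul hb) hb,
      show b * b * b * b * b = b ^ 5 by simp [pow_succ], h5, act_one]
  -- the three lines through the point
  let Ls : Finset (Finset (Fin 45)) := {line i₀ j₀, line i₀ 25, line i₀ 35}
  have hthrough : ∀ n, Ort i₀ n → n ≠ i₀ → line i₀ n ∈ Ls := by
    intro n hn hne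
    have h := (allN_iff _ _).1 three_lines n n.2
    have hn' : adjC 1 n = true := hn
    rw [hn', Bool.not_true, Bool.false_or] at h
    simp only [Bool.or_eq_true] at h
    have sub : ∀ j : Fin 45, Ort i₀ j → j ≠ i₀ → Ort j n → line i₀ n = line i₀ j := by
      intro j hj hji hjn
      refine Finset.eq_of_subset_of_card_le (fun r hr => ?_)
        (by rw [card_line hj hji.symm, card_line hn hne.symm])
      exact mem_line.2 ⟨(mem_line.1 hr).1, line_clique hn hne.symm (mem_line.2 ⟨hj, ort_symm hjn⟩) hr⟩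
    simp only [Ls, Finset.mem_insert, Finset.mem_singleton]
    rcases h with (h | h) | h
    · exact Or.inl (sub j₀ ort_base (by decide) h)
    · exact Or.inr (Or.inl (sub 25 (by unfold Ort; decide +kernel) (by decide) h))
    · exact Or.inr (Or.inr (sub 35 (by unfold Ort; decide +kernel) (by decide) h))
  have hLs : ∀ L ∈ Ls, ∃ n, Ort i₀ n ∧ n ≠ i₀ ∧ L = line i₀ n := by
    intro L hL
    simp only [Ls, Finset.mem_insert, Finset.mem_singleton] at hL
    rcases hL with rfl | rfl | rfl
    exacts [⟨j₀, ort_base, by decide, rfl⟩, ⟨25, by unfold Ort; decide +kernel, by decide, rfl⟩,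
      ⟨35, by unfold Ort; decide +kernel, by decide, rfl⟩]
  have hline : (line i₀ j₀).image (act b) = line i₀ j₀ := by
    refine fix_small (s := Ls) (f := fun L => L.image (act b)) ?_ ?_ (Finset.image_injective hinj) ?_
      (by simp [Ls])
    · refine le_trans (Finset.card_insert_le _ _) (Nat.succ_le_succ ?_)
      exact le_trans (Finset.card_insert_le _ _) (by rw [Finset.card_singleton]; norm_num)
    · intro L hL
      obtain ⟨n, hn, hne, rfl⟩ := hLs L hL
      show (line i₀ n).image (act b) ∈ Ls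
      rw [map_line hb, hk]
      refine hthrough _ ?_ fun e => hne (hinj (e.trans hk.symm))
      have := (ort_act hb (i := i₀) (j := n)).2 hn
      rwa [hk] at this
    · intro L
      simp only [Finset.image_image]
      convert Finset.image_id (s := L) using 2
      funext r
      exact hiter r
  -- the points of that line
  have hpts : ∀ r ∈ line i₀ j₀, act b r = r := by
    intro r hr
    by_cases hr0 : r = i₀
    · rw [hr0, hk]
    · refine fix_small (s := (line i₀ j₀).erase i₀) ?_ ?_ hinj hiter (Finset.mem_erase.2 ⟨hr0, hr⟩)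
      · rw [Finset.card_erase_of_mem (left_mem_line ort_base), card_line ort_base (by decide)]
      · intro s hs
        obtain ⟨hs0, hs⟩ := Finset.mem_erase.1 hs
        exact Finset.mem_erase.2 ⟨fun e => hs0 (hinj (e.trans hk.symm)),
          hline ▸ Finset.mem_image_of_mem _ hs⟩
  obtain ⟨t, ht, hscal⟩ := scalar_of_three hb (a := 0) (b := 1) (c := 2) (by decide) (by decide)
    (by decide) (hpts _ (lp_mem 0)) (hpts _ (lp_mem 1)) (hpts _ (lp_mem 2))
  have hpow : ∀ m w, InW0 w → (b ^ m) w = t ^ m • w := by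
    intro m
    induction m with
    | zero => intro w _; simp
    | succ m ih =>
      intro w hw
      rw [pow_succ', Equiv.Perm.mul_apply, ih w hw, hb.smul, hscal w hw, smul_smul, pow_succ]
  have ht1 : t = 1 := by
    have hp := hpow 5 (pv i₀) ⟨pv_iso i₀, ort_iff.1 ort_base⟩
    rw [h5, Equiv.Perm.one_apply] at hp
    have key : ∀ a : K4, a ≠ 0 → a ^ 5 = 1 → a = 1 := by decide +kernel
    refine key t ht (smul_left_injective K4 (pv_ne i₀) ?_)
    show t ^ 5 • pv i₀ = (1 : K4) • pv i₀
    rw [one_smul]; exact hp.symm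
  have hsq := sq_one_of_fixW hb (fun w hw => by rw [hscal w hw, ht1, one_smul]) ort_base
  have h4 : b ^ 4 = 1 := by rw [show 4 = 2 * 2 from rfl, pow_mul, pow_two b, hsq, one_pow]
  rwa [pow_succ, h4, one_mul] at h5

/-- An involution and a nontrivial element of order five do not commute. -/
theorem five_two {b f : Equiv.Perm W4} (hb : Iso b) (h5 : b ^ 5 = 1) (hb1 : b ≠ 1) (hf : Iso f)
    (hf2 : f * f = 1) (hc : Commute b f) : f = 1 := by
  classical
  by_contra hne
  have hinj := act_inj hb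
  -- reduce to the base configuration
  have conjfix : ∀ {g : Equiv.Perm W4}, Iso g → ∀ k, act g k = i₀ → act b k = k → False := by
    intro g hg k gk bk
    have hb' := (hg.mul hb).mul hg.inv
    have h := five_no_point hb' (by rw [conj_pow, h5, mul_one, mul_inv_cancel]) (by
      conv_lhs => rw [← gk, ← act_mul hb' hg, inv_mul_cancel_right, act_mul hg hb, bk]
      exact gk)
    exact hb1 (by
      calc b = g⁻¹ * (g * b * g⁻¹) * g := by group
        _ = 1 := by rw [h, mul_one, inv_mul_cancel])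
  rcases invol_cases hf hf2 with e | ⟨k, e⟩ | ⟨i, j, hij, hne', e⟩
  · exact hne e
  · subst e
    obtain ⟨g, -, hgi, gk⟩ := point_trans k
    exact conjfix hgi k gk (tp_injective (by rw [← conj_tp hb, hc.eq, mul_inv_cancel_right]))
  · subst e
    obtain ⟨g, -, hgi, gk, gj⟩ := pair_trans hij hne'
    have e' : tp (act b i) * tp (act b j) = tp i * tp j := by
      rw [← conj_tp hb, ← conj_tp hb,
        show b * tp i * b⁻¹ * (b * tp j * b⁻¹) = b * (tp i * tp j) * b⁻¹ by group, hc.eq,
        mul_inv_cancel_right]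
    -- the fixed vectors
    have hfix : ∀ {p q : Fin 45}, Ort p q → p ≠ q → ∀ w,
        (tp p * tp q) w = w ↔ hh w (pv p) = 0 ∧ hh w (pv q) = 0 := by
      intro p q hpq hne w
      rw [Equiv.Perm.mul_apply, tp_apply, tp_apply, hh_add_left, hh_smul_left,
        ort_iff.1 (ort_symm hpq), mul_zero, add_zero, add_assoc, add_eq_left]
      refine ⟨fun e => ?_, fun h => by rw [h.1, h.2]; simp⟩
      obtain ⟨wa, a1, a2⟩ := exists_values hne 1 0
      obtain ⟨wb, b1, b2⟩ := exists_values hne 0 1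
      have h1 := congrArg (fun u => hh wa u) e
      have h2 := congrArg (fun u => hh wb u) e
      simp only [hh_add_right, hh_smul_right, a1, a2, b1, b2, mul_zero, mul_one, add_zero, zero_add] at h1 h2
      have z1 : hh wa 0 = 0 := hh_zero_symm.1 (hh_zero_left _)
      have z2 : hh wb 0 = 0 := hh_zero_symm.1 (hh_zero_left _)
      rw [z1, k4_sq_zero] at h1
      rw [z2, k4_sq_zero] at h2
      exact ⟨h1, h2⟩
    have hab : Ort (act b i) (act b j) := (ort_act hb).2 hij
    have habne : act b i ≠ act b j := fun e => hne' (hinj e)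
    have hmem : ∀ p ∈ ({act b i, act b j} : Finset (Fin 45)), p = i ∨ p = j := by
      -- transport to the base line
      have gi' : act g (act b i) ∈ line i₀ j₀ ∧ act g (act b j) ∈ line i₀ j₀ := by
        have hw : ∀ w, (hh w (pv i) = 0 ∧ hh w (pv j) = 0) →
            hh w (pv (act b i)) = 0 ∧ hh w (pv (act b j)) = 0 := fun w hw => by
          rw [← hfix hab habne, e', hfix hij hne']; exact hw
        have hi := hw (pv i) ⟨pv_iso i, ort_iff.1 hij⟩
        have hj := hw (pv j) ⟨ort_iff.1 (ort_symm hij), pv_iso j⟩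
        rw [← ort_iff, ← ort_iff] at hi hj
        refine ⟨mem_line.2 ⟨?_, ?_⟩, mem_line.2 ⟨?_, ?_⟩⟩
        · rw [← gk]; exact (ort_act hgi).2 hi.1
        · rw [← gj]; exact (ort_act hgi).2 hj.1
        · rw [← gk]; exact (ort_act hgi).2 hi.2
        · rw [← gj]; exact (ort_act hgi).2 hj.2
      obtain ⟨m, hm⟩ := lp_surj gi'.1
      obtain ⟨n, hn⟩ := lp_surj gi'.2
      obtain ⟨m₀, hm₀⟩ := lp_surj (left_mem_line ort_base)
      obtain ⟨n₀, hn₀⟩ := lp_surj (right_mem_line ort_base)
      have hmn : m ≠ n := fun e => habne (act_inj hgi (by rw [← hm, ← hn, e]))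
      have hmn0 : m₀ ≠ n₀ := fun e => (show i₀ ≠ j₀ by decide) (by rw [← hm₀, ← hn₀, e])
      have hcode : code (m, n) = code (m₀, n₀) := by
        rw [code, code, invP, invP, if_neg (fun e => hmn (lp_inj e)), if_neg (fun e => hmn0 (lp_inj e)),
          hm, hn, hm₀, hn₀, ← gk, ← gj, ← conj_tp hgi, ← conj_tp hgi, ← conj_tp hgi, ← conj_tp hgi]
        calc _ = g * (tp (act b i) * tp (act b j)) * g⁻¹ := by group
          _ = _ := by rw [e']; group
      have hset : (m = m₀ ∧ n = n₀) ∨ (m = n₀ ∧ n = m₀) := by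
        rcases le_total m n with h1 | h1 <;> rcases le_total m₀ n₀ with h2 | h2
        · exact Or.inl ⟨congrArg Prod.fst (code_inj (p := (m, n)) (r := (m₀, n₀)) h1 h2 hcode),
            congrArg Prod.snd (code_inj (p := (m, n)) (r := (m₀, n₀)) h1 h2 hcode)⟩
        · have := code_inj (p := (m, n)) (r := (n₀, m₀)) h1 h2 (hcode.trans (code_comm _ _))
          exact Or.inr ⟨congrArg Prod.fst this, congrArg Prod.snd this⟩
        · have := code_inj (p := (n, m)) (r := (m₀, n₀)) h1 h2 ((code_comm _ _).trans hcode)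
          exact Or.inr ⟨congrArg Prod.snd this, congrArg Prod.fst this⟩
        · have := code_inj (p := (n, m)) (r := (n₀, m₀)) h1 h2
            ((code_comm _ _).trans (hcode.trans (code_comm _ _)))
          exact Or.inl ⟨congrArg Prod.snd this, congrArg Prod.fst this⟩
      intro p hp
      simp only [Finset.mem_insert, Finset.mem_singleton] at hp
      rcases hp with rfl | rfl <;> rcases hset with ⟨h1, h2⟩ | ⟨h1, h2⟩
      · exact Or.inl (act_inj hgi (by rw [← hm, h1, hm₀, gk]))
      · exact Or.inr (act_inj hgi (by rw [← hm, h1, hn₀, gj]))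
      · exact Or.inr (act_inj hgi (by rw [← hn, h2, hn₀, gj]))
      · exact Or.inl (act_inj hgi (by rw [← hn, h2, hm₀, gk]))
    have hiter : ∀ (r : Fin 45), act b (act b (act b (act b (act b r)))) = r := by
      intro r
      rw [← act_mul hb hb, ← act_mul (hb.mul hb) hb, ← act_mul ((hb.mul hb).mul hb) hb,
        ← act_mul (((hb.mul hb).mul hb).mul hb) hb,
        show b * b * b * b * b = b ^ 5 by simp [pow_succ], h5, act_one]
    refine conjfix hgi i gk (fix_small (s := {i, j}) (le_trans Finset.card_le_two (by norm_num))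
      (fun p hp => ?_) hinj hiter (Finset.mem_insert_self _ _))
    simp only [Finset.mem_insert, Finset.mem_singleton] at hp ⊢
    rcases hp with rfl | rfl <;> exact hmem _ (by simp)

/-- An element of exponent four commuting with a nontrivial element of order five is trivial. -/
theorem five_four {a b : SU4} (ha : a ^ 4 = 1) (hb : b ^ 5 = 1) (hb1 : b ≠ 1) (hc : Commute a b) :
    a = 1 := by
  have hB : Ahom b ≠ 1 := fun e => hb1 (Ahom_inj (e.trans (map_one _).symm))
  have key : ∀ f : SU4, f * f = 1 → Commute f b → f = 1 := fun f hf hfb =>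
    Ahom_inj ((five_two (Ahom_iso b) (by rw [← map_pow, hb, map_one]) hB (Ahom_iso f)
      (by rw [← map_mul, hf, map_one]) (hfb.symm.map Ahom)).trans (map_one _).symm)
  have h2 : a * a = 1 := key (a * a) (by rw [← ha]; simp [pow_succ, mul_assoc]) (hc.mul_left hc)
  exact key a h2 hc

end Cfsg.Agent.H49.UChar
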