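import Cfsg.Agent.H49.UChar.AGroup

/-!
Every involution of the centraliser is conjugate into the plane group.
-/

set_option autoImplicit false
set_option maxRecDepth 20000
set_option linter.unusedSectionVars false

namespace Cfsg.Agent.H49.UChar

open Cfsg
open Cfsg.Agent.H41.SUSix (K4 ω₄)
open Cfsg.Agent.H92.ExtraForm (zp zp_inj zp_add)
open Cfsg.Agent.H41.LFi (trK iot)
open Cfsg.Agent.H49.USix
open H76.LocallyS3 (cj cj_cj cj_injective)

variable {K : Type*} [Group K] [Finite K] {z : K} {Q : Subgroup K} (S : Core z Q)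

/-- Conjugation by an element of the core over a transvection fixing it moves it by the centre. -/
theorem cj_perp {a r : K} (ha : a * z = z * a) {i : Fin 45} (hi : S.ρ a = tp i) (hr : r ∈ Q)
    (h : hh (S.π r) (pv i) = 0) : cj a r = r ∨ cj a r = z * r := by
  refine S.π_eq hr (S.cj_mem ha hr) ?_
  rw [S.π_cj ha hr, hi, tp_apply, h, zero_smul, add_zero]

/-- A lift over the base transvection commuting with the perp of its point. -/
theorem exists_flat : ∃ a ∈ A0 S, S.ρ a = tp i₀ ∧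
    ∀ r ∈ Q, hh (S.π r) (pv i₀) = 0 → a * r = r * a := by
  classical
  obtain ⟨m₀, -, hm₀, -, -⟩ := lp_base
  obtain ⟨a, ha, hρ⟩ := exists_lift S (m₀, m₀)
  rw [code, invP, if_pos rfl, hm₀] at hρ
  have hcz := A0_cz S ha
  obtain ⟨e, he1, he2⟩ := exists_values (show i₀ ≠ j₀ by decide) 0 1
  choose lift hlQ hl using S.π_surj
  have hper : ∀ c : K4, hh (S.π (lift (c • e))) (pv i₀) = 0 := fun c => by
    rw [hl, hh_smul_left, he1, mul_zero]
  have hg : ∀ c : K4, ∃ t : ZMod 2, cj a (lift (c • e)) = lift (c • e) * zp z t := fun c => by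
    rcases cj_perp S hcz hρ (hlQ _) (hper c) with h | h
    · exact ⟨0, by rw [h]; simp [zp]⟩
    · exact ⟨1, by rw [h]; simp [zp, S.cz_Q (hlQ _)]⟩
  choose g hgs using hg
  have hzc : ∀ (t : ZMod 2) (x : K), x * z = z * x → x * zp z t = zp z t * x := fun t x h => by
    unfold zp; split_ifs <;> simp [h]
  have hgadd : ∀ c c', g (c + c') = g c + g c' := by
    intro c c'
    have hπ : S.π (lift (c • e) * lift (c' • e)) = S.π (lift ((c + c') • e)) := by
      rw [S.π_mul _ (hlQ _) _ (hlQ _), hl, hl, hl, add_smul]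
    have hp : cj a (lift (c • e) * lift (c' • e)) =
        lift (c • e) * lift (c' • e) * zp z (g c + g c') := by
      rw [cj_mul', hgs, hgs, zp_add S.z_sq]
      calc lift (c • e) * zp z (g c) * (lift (c' • e) * zp z (g c'))
          = lift (c • e) * (zp z (g c) * lift (c' • e)) * zp z (g c') := by group
        _ = _ := by rw [← hzc _ _ (S.cz_Q (hlQ _))]; group
    refine zp_inj S.z_ne (mul_left_cancel (a := lift (c • e) * lift (c' • e)) ?_)
    rw [← hp]
    rcases S.π_eq (hlQ _) (mul_mem (hlQ _) (hlQ _)) hπ.symm with h | h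
    · rw [h, hgs]
    · rw [h, cj_mul', S.cj_z hcz, hgs, ← mul_assoc]
  obtain ⟨d, hd⟩ := add_trace g hgadd
  obtain ⟨e', he'⟩ := k4_root d
  obtain ⟨u, huQ, hu⟩ := S.π_surj (e' • pv j₀)
  have huU : u ∈ U0 S := ⟨huQ, hu ▸ inW0_smul e' (inW0_point (right_mem_line ort_base))⟩
  refine ⟨a * u, mul_mem ha (U0_le S huU), by rw [S.ρ_mul _ _ hcz (S.cz_Q huQ), S.ρ_of_Q huQ, mul_one, hρ],
    fun r hr hperp => ?_⟩
  set c := hh (S.π r) (pv j₀) with hc
  have hu' : (lift (c • e))⁻¹ * r ∈ U0 S := by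
    refine ⟨mul_mem (inv_mem (hlQ _)) hr, ?_⟩
    rw [S.π_mul _ (inv_mem (hlQ _)) _ hr, S.π_inv (hlQ _), hl]
    constructor <;> rw [hh_add_left, hh_smul_left]
    · rw [he1, mul_zero, hperp, add_zero]
    · rw [he2, mul_one, hc, k4_add_self]
  have hr0 : a * u * lift (c • e) = lift (c • e) * (a * u) := by
    have e1 : u * lift (c • e) = lift (c • e) * u * zp z (g c) := by
      rw [S.comm _ (hlQ _) u huQ, hl, hu, pol4_eq, hh_smul_right, hh_smul_left, he2, mul_one, he',
        mul_comm d c, ← hd]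
    have e2 : a * lift (c • e) = lift (c • e) * zp z (g c) * a := by
      rw [← hgs, cj, inv_mul_cancel_right]
    calc a * u * lift (c • e) = a * lift (c • e) * (u * zp z (g c)) := by rw [mul_assoc, e1]; group
      _ = lift (c • e) * (zp z (g c) * (a * u * zp z (g c))) := by rw [e2]; group
      _ = lift (c • e) * ((zp z (g c) * zp z (g c)) * (a * u)) := by
        rw [hzc _ (a * u) (S.cz_mul hcz (S.cz_Q huQ))]; group
      _ = _ := by rw [zp_sq S, one_mul]
  calc a * u * r = a * u * lift (c • e) * ((lift (c • e))⁻¹ * r) := by group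
    _ = lift (c • e) * (((lift (c • e))⁻¹ * r) * (a * u)) := by
      rw [hr0, mul_assoc, A0_comm_U0 S (mul_mem ha (U0_le S huU)) hu']
    _ = r * (a * u) := by group

/-- An element centralising the preimage of some line is conjugate into the plane group. -/
theorem to_A0_of_line {x : K} {i j : Fin 45} (hij : Ort i j) (hne : i ≠ j)
    (hcom : ∀ r ∈ Q, InW i j (S.π r) → x * r = r * x) :
    ∃ c : K, c * z = z * c ∧ cj c x ∈ A0 S := by
  obtain ⟨c, hc, e1, e2⟩ := S.exists_pair_map hij hne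
  refine ⟨c, hc, Subgroup.mem_centralizer_iff.2 fun u hu => ?_⟩
  have hc' := S.cz_inv hc
  have hiso := S.ρ_iso c hc
  have hin : InW i j (S.π (cj c⁻¹ u)) := by
    rw [S.π_cj hc' hu.1]
    have key : ∀ k l, act (S.ρ c) k = l → hh (S.π u) (pv l) = 0 → hh (S.ρ c⁻¹ (S.π u)) (pv k) = 0 := by
      intro k l hkl h0
      obtain ⟨s, -, es⟩ := act_spec hiso k
      rw [hkl] at es
      rw [← hiso.herm, es, hh_smul_right, ← Equiv.Perm.mul_apply, ← S.ρ_mul c c⁻¹ hc hc',
        mul_inv_cancel, S.ρ_one, Equiv.Perm.one_apply, h0, mul_zero]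
    exact ⟨key i i₀ e1 hu.2.1, key j j₀ e2 hu.2.2⟩
  have h := congrArg (cj c) (hcom _ (S.cj_mem hc' hu.1) hin)
  rw [cj_mul' c x, cj_mul' c (cj c⁻¹ u) x, cj_cj, mul_inv_cancel, cj_one'] at h
  exact h.symm

/-- Every involution commuting with `z` is conjugate into the plane group. -/
theorem invol_to_A0 {x : K} (hx : x * z = z * x) (h2 : x * x = 1) :
    ∃ c : K, c * z = z * c ∧ cj c x ∈ A0 S := by
  classical
  have step : ∀ d : K, d * z = z * d → (∃ c : K, c * z = z * c ∧ cj c (cj d x) ∈ A0 S) →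
      ∃ c : K, c * z = z * c ∧ cj c x ∈ A0 S := fun d hd ⟨c, hc, h⟩ =>
    ⟨c * d, S.cz_mul hc hd, by rwa [← cj_cj]⟩
  have hρ2 : S.ρ x * S.ρ x = 1 := by rw [← S.ρ_mul x x hx hx, h2, S.ρ_one]
  rcases invol_cases (S.ρ_iso x hx) hρ2 with e | ⟨i, e⟩ | ⟨i, j, hij, hne, e⟩
  · -- inside the core
    have hxQ := (S.ρ_ker x hx).1 e
    by_cases h0 : S.π x = 0
    · refine ⟨1, S.cz_one, ?_⟩
      rw [cj_one']
      rcases (S.π_zero x hxQ).1 h0 with e' | e' <;> rw [e']
      exacts [one_mem _, z_mem_A0 S]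
    · obtain ⟨i, c, hc, ei⟩ := exists_point h0 ((iso_iff _).2 ((S.sq_iff hxQ).1 h2))
      obtain ⟨d, hd, hdi⟩ := S.exists_point_map i
      refine ⟨d⁻¹, S.cz_inv hd, U0_le S ⟨S.cj_mem (S.cz_inv hd) hxQ, ?_⟩⟩
      have hd' : act (S.ρ d⁻¹) i = i₀ := by
        rw [← hdi, ← act_mul (S.ρ_iso _ (S.cz_inv hd)) (S.ρ_iso d hd), ← S.ρ_mul _ _ (S.cz_inv hd) hd,
          inv_mul_cancel, S.ρ_one, act_one]
      obtain ⟨s, -, es⟩ := act_spec (S.ρ_iso _ (S.cz_inv hd)) i
      rw [hd', ei, (S.ρ_iso _ (S.cz_inv hd)).smul] at es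
      rw [S.π_cj (S.cz_inv hd) hxQ]
      have hw : S.ρ d⁻¹ (S.π x) = (c⁻¹ * s) • pv i₀ := by
        rw [← smul_smul, ← es, smul_smul, inv_mul_cancel₀ hc, one_smul]
      rw [hw]
      exact inW0_smul _ (inW0_point (left_mem_line ort_base))
  · -- over a transvection
    obtain ⟨d, hd, hdi⟩ := S.exists_point_map i
    refine step d⁻¹ (S.cz_inv hd) ?_
    set y := cj d⁻¹ x with hy
    have hyz : y * z = z * y := S.cz_cj (S.cz_inv hd) hx
    have hy2 : y * y = 1 := cj_self_sq h2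
    have hρy : S.ρ y = tp i₀ := by
      rw [hy, S.ρ_cj_tp (S.cz_inv hd) hx e]
      congr 1
      rw [← hdi, ← act_mul (S.ρ_iso _ (S.cz_inv hd)) (S.ρ_iso d hd), ← S.ρ_mul _ _ (S.cz_inv hd) hd,
        inv_mul_cancel, S.ρ_one, act_one]
    obtain ⟨a, ha, haρ, hflat⟩ := exists_flat S
    obtain ⟨hs1, -⟩ := eps_shape S
    obtain ⟨m₀, -, hm₀, -, -⟩ := lp_base
    have ha2 : a * a = 1 := by
      rw [eps_spec S ha, hs1 a ha m₀ (by rw [hm₀]; exact haρ)]; simp [zp]
    set q := a⁻¹ * y with hq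
    have hqQ : q ∈ Q := S.mem_Q_of_ρ (A0_cz S ha) hyz (by rw [haρ, hρy])
    have hyq : y = a * q := (mul_inv_cancel_left a y).symm
    have haa : a⁻¹ = a := inv_eq_of_mul_eq_one_right ha2
    have hperp : hh (S.π q) (pv i₀) = 0 := by
      have e1 : a * q * a⁻¹ = q⁻¹ := by
        apply eq_inv_of_mul_eq_one_left
        rw [haa, show a * q * a * q = a * q * (a * q) by group, ← hyq, hy2]
      have e2 := congrArg S.π e1
      rw [S.ρ_π a (A0_cz S ha) q hqQ, haρ, tp_apply, S.π_inv hqQ, add_eq_left] at e2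
      exact (smul_eq_zero.1 e2).resolve_right (pv_ne _)
    have hwt : wt4 (S.π q) = 0 := by
      refine (S.sq_iff hqQ).1 ?_
      rw [hyq] at hy2
      calc q * q = a * a * (q * q) := by rw [ha2, one_mul]
        _ = a * (a * q) * q := by group
        _ = a * (q * a) * q := by rw [hflat q hqQ hperp]
        _ = a * q * (a * q) := by group
        _ = 1 := hy2
    by_cases hmult : ∃ c : K4, S.π q = c • pv i₀
    · obtain ⟨c, hc⟩ := hmult
      refine ⟨1, S.cz_one, ?_⟩
      rw [cj_one', hyq]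
      exact mul_mem ha (U0_le S ⟨hqQ, hc ▸ inW0_smul c (inW0_point (left_mem_line ort_base))⟩)
    · push Not at hmult
      have h0 : S.π q ≠ 0 := fun e => hmult 0 (by rw [e, zero_smul])
      obtain ⟨k, c, hc, ek⟩ := exists_point h0 ((iso_iff _).2 hwt)
      have hne : i₀ ≠ k := fun e => hmult c⁻¹ (by
        rw [e, ek, smul_smul, inv_mul_cancel₀ hc, one_smul])
      have hort : Ort i₀ k := ort_iff.2 (by
        rw [ek, hh_smul_right, hh_swap (S.π q) (pv i₀), hperp]; simp)
      refine to_A0_of_line S hort hne fun r hr hin => ?_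
      rw [hyq]
      have e1 : q * r = r * q := by
        refine (S.comm_iff hqQ hr).2 ?_
        rw [pol4_comm]
        refine pol_of_hh ?_
        have := hin.2
        rw [ek, hh_smul_right] at this
        exact (mul_eq_zero.1 this).resolve_left (by rw [k4_sq_zero]; exact hc)
      rw [mul_assoc, e1, ← mul_assoc, hflat r hr hin.1, mul_assoc]
  · -- over a pair
    obtain ⟨d, hd, hdi, hdj⟩ := S.exists_pair_map hij hne
    refine step d hd ?_
    set y := cj d x with hy
    have hyz : y * z = z * y := S.cz_cj hd hx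
    have hy2 : y * y = 1 := cj_self_sq h2
    have hρy : S.ρ y = tp i₀ * tp j₀ := by
      rw [hy, S.ρ_cj hd hx, e, ← hdi, ← hdj, ← conj_tp (S.ρ_iso d hd), ← conj_tp (S.ρ_iso d hd)]
      group
    obtain ⟨m₀, n₀, hm₀, hn₀, hmn⟩ := lp_base
    obtain ⟨a, ha, haρ⟩ := exists_lift S (m₀, n₀)
    rw [code, invP, if_neg (fun e => hmn (lp_inj e)), hm₀, hn₀] at haρ
    set q := a⁻¹ * y with hq
    have hqQ : q ∈ Q := S.mem_Q_of_ρ (A0_cz S ha) hyz (by rw [haρ, hρy])
    have hyq : y = a * q := (mul_inv_cancel_left a y).symm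
    refine ⟨1, S.cz_one, ?_⟩
    rw [cj_one', hyq]
    refine mul_mem ha (U0_le S ⟨hqQ, ?_⟩)
    have haaQ : a * a ∈ Q := by
      rcases sq_cases S ha with e | e <;> rw [e]
      exacts [Q.one_mem, S.hzQ]
    have e1 : a * q * a⁻¹ = q⁻¹ * (a * a)⁻¹ := by
      rw [hyq] at hy2
      have e2 : q⁻¹ = a * q * a := by
        symm
        apply eq_inv_of_mul_eq_one_left
        rw [show a * q * a * q = a * q * (a * q) by group, hy2]
      rw [e2]; group
    have e2 := congrArg S.π e1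
    have hz0 : S.π (a * a)⁻¹ = 0 := by
      rw [S.π_inv haaQ]
      rcases sq_cases S ha with e | e <;> rw [e]
      exacts [S.π_one, S.π_z]
    rw [S.ρ_π a (A0_cz S ha) q hqQ, S.π_mul _ (inv_mem hqQ) _ (inv_mem haaQ), S.π_inv hqQ, hz0,
      add_zero, haρ, Equiv.Perm.mul_apply, tp_apply, tp_apply, hh_add_left, hh_smul_left,
      ort_iff.1 (ort_symm ort_base), mul_zero, add_zero, add_assoc, add_eq_left] at e2
    obtain ⟨h1, h2'⟩ := span_indep (show i₀ ≠ j₀ by decide) (a' := 0) (b' := 0)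
      ((add_comm _ _).trans (e2.trans (by simp)))
    exact ⟨h1, h2'⟩

end Cfsg.Agent.H49.UChar
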