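import Cfsg.Agent.H49.USix.Elem

/-!
Two-groups of isometries and the lines of the generalized quadrangle.
-/

set_option autoImplicit false
set_option maxRecDepth 20000
set_option linter.unusedSectionVars false

namespace Cfsg.Agent.H49.UChar

open Cfsg.Agent.Compute
open Cfsg.Agent.H41.SUSix (K4 ω₄ anyN anyN_iff)
open Cfsg.Agent.H49.USix

/-- The span of the base line. -/
def InW0 (w : W4) : Prop := hh w (pv i₀) = 0 ∧ hh w (pv j₀) = 0

/-- The span of a line. -/
def InW (i j : Fin 45) (w : W4) : Prop := hh w (pv i) = 0 ∧ hh w (pv j) = 0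

theorem inW_comb {i j : Fin 45} (h : Ort i j) (a b : K4) :
    InW i j (a • pv i + b • pv j) := by
  constructor <;> rw [hh_add_left, hh_smul_left, hh_smul_left, pv_iso]
  · rw [ort_iff.1 (ort_symm h)]; simp
  · rw [ort_iff.1 h]; simp

theorem inW_span {i j : Fin 45} (h : Ort i j) (hne : i ≠ j) {w : W4} (hw : InW i j w) :
    ∃ a b : K4, w = a • pv i + b • pv j := by
  obtain ⟨g, -, hg, hi, hj⟩ := pair_trans h hne
  obtain ⟨c, hc, ei⟩ := act_spec hg i
  obtain ⟨d, hd, ej⟩ := act_spec hg j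
  rw [hi] at ei; rw [hj] at ej
  have h1 : hh (g w) (pv i₀) = 0 := by
    have h := hg.herm w (pv i)
    rw [hw.1, ei, hh_smul_right] at h
    exact (mul_eq_zero.1 h).resolve_left (by rw [k4_sq_zero]; exact hc)
  have h2 : hh (g w) (pv j₀) = 0 := by
    have h := hg.herm w (pv j)
    rw [hw.2, ej, hh_smul_right] at h
    exact (mul_eq_zero.1 h).resolve_left (by rw [k4_sq_zero]; exact hd)
  obtain ⟨a, b, e⟩ := perp_base' h1 h2
  refine ⟨a * c⁻¹, b * d⁻¹, g.injective ?_⟩
  rw [e, hg.add, hg.smul, hg.smul, ei, ej, smul_smul, smul_smul, mul_assoc, inv_mul_cancel₀ hc,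
    mul_one, mul_assoc, inv_mul_cancel₀ hd, mul_one]
where
  perp_base' {w : W4} (h1 : hh w (pv i₀) = 0) (h2 : hh w (pv j₀) = 0) :
      ∃ a b : K4, w = a • pv i₀ + b • pv j₀ := by
    have ok : ∀ v : Fin 256, hh (d4 v) (pv i₀) = 0 → hh (d4 v) (pv j₀) = 0 →
        ∃ a b : K4, d4 v = a • pv i₀ + b • pv j₀ := by decide +kernel
    obtain ⟨v, rfl⟩ := d4_surj w
    exact ok v h1 h2

/-- An isometry fixing the span of a line pointwise is an involution. -/
theorem sq_one_of_fixW {g : Equiv.Perm W4} (hg : Iso g) {i j : Fin 45}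
    (hfix : ∀ w, InW i j w → g w = w) (hij : Ort i j) : g * g = 1 := by
  refine Equiv.ext fun w => ?_
  have hi : g (pv i) = pv i := hfix _ ⟨pv_iso i, ort_iff.1 hij⟩
  have hj : g (pv j) = pv j := hfix _ ⟨ort_iff.1 (ort_symm hij), pv_iso j⟩
  have hd : InW i j (g w + w) := by
    constructor
    · rw [hh_add_left]
      conv_lhs => arg 1; rw [← hi, hg.herm]
      exact k4_add_self _
    · rw [hh_add_left]
      conv_lhs => arg 1; rw [← hj, hg.herm]
      exact k4_add_self _
  have e := hfix _ hd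
  rw [hg.add] at e
  exact add_right_cancel (e.trans (add_comm _ _))

/-- The points of the base line. -/
noncomputable def lp (m : Fin 5) : Fin 45 :=
  ⟨lptC m, by
    have h := (allN_iff _ _).1 lpt_lt m m.2
    simp only [Bool.and_eq_true, Nat.blt_eq] at h
    exact h.2⟩

theorem lp_mem (m : Fin 5) : lp m ∈ line i₀ j₀ := by
  have h := (allN_iff _ _).1 lpt_lt m m.2
  simp only [Bool.and_eq_true] at h
  exact inL_iff.1 h.1

theorem lp_surj {k : Fin 45} (hk : k ∈ line i₀ j₀) : ∃ m, lp m = k := by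
  have h := (allN_iff _ _).1 lpt_ok k k.2
  rw [inL_iff.2 hk] at h
  simp only [Bool.not_true, Bool.false_or, anyN_iff, Nat.beq_eq] at h
  obtain ⟨m, hm, e⟩ := h
  exact ⟨⟨m, hm⟩, Fin.ext e⟩

theorem lp_ok : allN 5 (fun m => allN 5 (fun n => Nat.beq m n || !Nat.beq (lptC m) (lptC n))) = true := by
  decide +kernel

theorem lp_inj {m n : Fin 5} (h : lp m = lp n) : m = n := by
  have h' := (allN_iff _ _).1 ((allN_iff _ _).1 lp_ok m m.2) n n.2
  simp only [Bool.or_eq_true, Nat.beq_eq, Bool.not_eq_true'] at h'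
  rcases h' with e | e
  · exact Fin.ext e
  · have e2 : lptC m = lptC n := congrArg Fin.val h
    rw [e2, Nat.beq_refl] at e
    exact absurd e (by simp)

/-- The sixteen elements: the involutions of pairs of points. -/
noncomputable def code (p : Fin 5 × Fin 5) : Equiv.Perm W4 := invP (lp p.1) (lp p.2)

theorem code_comm (m n : Fin 5) : code (m, n) = code (n, m) :=
  invP_comm (line_clique ort_base (by decide) (lp_mem m) (lp_mem n))

theorem code_ok : allN 25 (fun s => allN 25 (fun t =>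
    !(Nat.ble (Nat.div s 5) (Nat.mod s 5) && Nat.ble (Nat.div t 5) (Nat.mod t 5)) || Nat.beq s t ||
    anyN 45 (fun k => !Nat.beq (appC (lptC (Nat.div s 5)) (lptC (Nat.mod s 5)) k)
      (appC (lptC (Nat.div t 5)) (lptC (Nat.mod t 5)) k)))) = true := by
  decide +kernel

theorem code_inj {p r : Fin 5 × Fin 5} (hp : p.1 ≤ p.2) (hr : r.1 ≤ r.2) (h : code p = code r) :
    p = r := by
  have hd : ∀ m n : Fin 5, (5 * (m : ℕ) + n) / 5 = m ∧ (5 * (m : ℕ) + n) % 5 = n := fun m n => by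
    omega
  have h' := (allN_iff _ _).1 ((allN_iff _ _).1 code_ok (5 * p.1 + p.2) (by omega))
    (5 * r.1 + r.2) (by omega)
  simp only [Bool.or_eq_true, Bool.not_eq_true', Bool.and_eq_false_iff, Nat.beq_eq, anyN_iff,
    show ∀ a b, Nat.div a b = a / b from fun _ _ => rfl,
    show ∀ a b, Nat.mod a b = a % b from fun _ _ => rfl, (hd p.1 p.2).1, (hd p.1 p.2).2,
    (hd r.1 r.2).1, (hd r.1 r.2).2] at h'
  rcases h' with ((e | e) | e) | ⟨k, hk, e⟩
  · rw [Fin.le_def, ← Nat.ble_eq] at hp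
    exact absurd hp (by rw [e]; simp)
  · rw [Fin.le_def, ← Nat.ble_eq] at hr
    exact absurd hr (by rw [e]; simp)
  · refine Prod.ext (Fin.ext ?_) (Fin.ext ?_) <;> omega
  · exfalso
    have hk' : ∀ q : Fin 5 × Fin 5, appC (lptC q.1) (lptC q.2) k = ((act (code q) ⟨k, hk⟩ : Fin 45) : ℕ) :=
      fun q => (act_invP (lp q.1) (lp q.2) ⟨k, hk⟩).symm
    rw [hk', hk', h, Nat.beq_refl] at e
    exact absurd e (by simp)

/-- An isometry fixing the span of the base line pointwise is one of the sixteen. -/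
theorem fixW0_code {g : Equiv.Perm W4} (hg : Iso g) (hfix : ∀ w, InW0 w → g w = w) :
    g = 1 ∨ ∃ p : Fin 5 × Fin 5, p.1 ≤ p.2 ∧ g = code p := by
  by_cases h1 : g = 1
  · exact Or.inl h1
  refine Or.inr ?_
  obtain ⟨i, j, hij, rfl⟩ := exists_invP hg (sq_one_of_fixW hg hfix ort_base) h1
  have hk : ∀ k ∈ line i₀ j₀, act (invP i j) k = k := fun k hk => by
    obtain ⟨k1, k2⟩ := mem_line.1 hk
    refine act_eq hg (c := 1) ?_
    rw [one_smul]
    exact hfix _ ⟨ort_iff.1 (ort_symm k1), ort_iff.1 (ort_symm k2)⟩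
  have hfixC : fixC i j = true := by
    simp only [fixC, allN_iff, Bool.or_eq_true, Bool.not_eq_true', Nat.beq_eq]
    intro k hk'
    cases hkk : inL k
    · exact Or.inl rfl
    · refine Or.inr ?_
      have h := hk ⟨k, hk'⟩ ((inL_iff (k := ⟨k, hk'⟩)).1 hkk)
      have := act_invP i j ⟨k, hk'⟩
      rw [h] at this
      exact this.symm
  have hs : stabC i j = true := by
    simp only [stabC, Bool.and_eq_true, allN_iff, Bool.or_eq_true, Bool.not_eq_true']
    refine ⟨hij, fun k hk' => ?_⟩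
    cases hkk : inL k
    · exact Or.inl rfl
    · refine Or.inr ?_
      have h := hk ⟨k, hk'⟩ ((inL_iff (k := ⟨k, hk'⟩)).1 hkk)
      have := act_invP i j ⟨k, hk'⟩
      rw [h] at this
      rw [← this]
      exact hkk
  have h := (allN_iff _ _).1 ((allN_iff _ _).1 fix_ok i i.2) j j.2
  rw [hs, hfixC] at h
  simp only [Bool.not_true, Bool.false_or, cond_true, Bool.and_eq_true] at h
  obtain ⟨m, rfl⟩ := lp_surj (inL_iff.1 h.1)
  obtain ⟨n, rfl⟩ := lp_surj (inL_iff.1 h.2)
  rcases le_total m n with hle | hle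
  · exact ⟨(m, n), hle, rfl⟩
  · exact ⟨(n, m), hle, code_comm m n⟩

theorem card_pairs : (Finset.univ.filter fun p : Fin 5 × Fin 5 => p.1 ≤ p.2).card = 15 := by decide

/-- A set of isometries fixing the span of the base line pointwise has at most sixteen members. -/
theorem card_fixW0_le {E : Set (Equiv.Perm W4)} (hE : ∀ g ∈ E, Iso g ∧ ∀ w, InW0 w → g w = w) :
    E.ncard ≤ 16 := by
  classical
  have hsub : E ⊆ ↑(insert 1 ((Finset.univ.filter fun p : Fin 5 × Fin 5 => p.1 ≤ p.2).image code)) := by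
    intro g hg
    rw [Finset.mem_coe, Finset.mem_insert, Finset.mem_image]
    rcases fixW0_code (hE g hg).1 (hE g hg).2 with e | ⟨p, hp, e⟩
    · exact Or.inl e
    · exact Or.inr ⟨p, Finset.mem_filter.2 ⟨Finset.mem_univ _, hp⟩, e.symm⟩
  refine le_trans (Set.ncard_le_ncard hsub (Finset.finite_toSet _)) ?_
  rw [Set.ncard_coe_finset]
  refine le_trans (Finset.card_insert_le _ _) (Nat.succ_le_succ ?_)
  exact le_trans Finset.card_image_le (le_of_eq card_pairs)

theorem five_ok : ∀ v : Fin 256,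
    hh (d4 v) (d4 (pc 1)) • d4 (pc 1) + (hh (d4 v) (d4 (pc 15)) • d4 (pc 15) +
      (hh (d4 v) (d4 (pc 17)) • d4 (pc 17) + (hh (d4 v) (d4 (pc 21)) • d4 (pc 21) +
      hh (d4 v) (d4 (pc 22)) • d4 (pc 22)))) = 0 := by decide +kernel

/-- The product of the five transvections of the base line is trivial. -/
theorem five_mul : tp (lp 0) * tp (lp 1) * tp (lp 2) * tp (lp 3) * tp (lp 4) = 1 := by
  refine Equiv.ext fun w => ?_
  have hort : ∀ m n : Fin 5, hh (pv (lp m)) (pv (lp n)) = 0 := fun m n =>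
    ort_iff.1 (line_clique ort_base (by decide) (lp_mem m) (lp_mem n))
  simp only [Equiv.Perm.mul_apply, tp_apply, hh_add_left, hh_smul_left, hort, mul_zero, add_zero,
    Equiv.Perm.one_apply]
  obtain ⟨v, rfl⟩ := d4_surj w
  have e0 : lptC ((0 : Fin 5) : ℕ) = 1 := by decide +kernel
  have e1 : lptC ((1 : Fin 5) : ℕ) = 15 := by decide +kernel
  have e2 : lptC ((2 : Fin 5) : ℕ) = 17 := by decide +kernel
  have e3 : lptC ((3 : Fin 5) : ℕ) = 21 := by decide +kernel
  have e4 : lptC ((4 : Fin 5) : ℕ) = 22 := by decide +kernel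
  have h := five_ok v
  simp only [pv, lp, e0, e1, e2, e3, e4] at h ⊢
  generalize hh (d4 v) (d4 (pc 1)) • d4 (pc 1) = a at *
  generalize hh (d4 v) (d4 (pc 15)) • d4 (pc 15) = b at *
  generalize hh (d4 v) (d4 (pc 17)) • d4 (pc 17) = c at *
  generalize hh (d4 v) (d4 (pc 21)) • d4 (pc 21) = d at *
  generalize hh (d4 v) (d4 (pc 22)) • d4 (pc 22) = e at *
  calc _ = d4 v + (a + (b + (c + (d + e)))) := by abel
    _ = d4 v := by rw [h, add_zero]

theorem fix_five : ∀ π : Equiv.Perm (Fin 5),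
    (π = 1 ∨ ∀ a b c : Fin 5, π a = a → π b = b → π c = c → a = b ∨ a = c ∨ b = c) →
      π ≠ 1 → (Finset.univ.filter fun p : Fin 5 × Fin 5 => p.1 ≤ p.2 ∧
        ((π p.1 = p.1 ∧ π p.2 = p.2) ∨ (π p.1 = p.2 ∧ π p.2 = p.1))).card ≤ 3 := by
  decide +kernel

section Stab

/-- The action on the five points of the base line. -/
noncomputable def perm5 {g : Equiv.Perm W4} (hg : Iso g)
    (hst : ∀ k ∈ line i₀ j₀, act g k ∈ line i₀ j₀) : Equiv.Perm (Fin 5) :=
  Equiv.ofBijective (fun m => (lp_surj (hst _ (lp_mem m))).choose)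
    (Finite.injective_iff_bijective.1 fun m n e => lp_inj (act_inj hg (by
      rw [← (lp_surj (hst _ (lp_mem m))).choose_spec, ← (lp_surj (hst _ (lp_mem n))).choose_spec]
      exact congrArg lp e)))

theorem perm5_spec {g : Equiv.Perm W4} (hg : Iso g)
    (hst : ∀ k ∈ line i₀ j₀, act g k ∈ line i₀ j₀) (m : Fin 5) :
    lp (perm5 hg hst m) = act g (lp m) := (lp_surj (hst _ (lp_mem m))).choose_spec

theorem conj_code {g : Equiv.Perm W4} (hg : Iso g)
    (hst : ∀ k ∈ line i₀ j₀, act g k ∈ line i₀ j₀) (p : Fin 5 × Fin 5) :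
    g * code p * g⁻¹ = code (perm5 hg hst p.1, perm5 hg hst p.2) := by
  have inj : lp p.1 = lp p.2 ↔ lp (perm5 hg hst p.1) = lp (perm5 hg hst p.2) :=
    ⟨fun e => by rw [lp_inj e], fun e => by rw [(perm5 hg hst).injective (lp_inj e)]⟩
  unfold code invP
  simp only [perm5_spec] at inj ⊢
  split_ifs with h1 h2 h2
  · exact conj_tp hg _
  · exact absurd (inj.1 h1) h2
  · exact absurd (inj.2 h2) h1
  · rw [← conj_tp hg, ← conj_tp hg]; group

/-- Three fixed points give five, and then a scalar on the span. -/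
theorem scalar_of_three {g : Equiv.Perm W4} (hg : Iso g) {a b c : Fin 5} (hab : a ≠ b) (hac : a ≠ c)
    (hbc : b ≠ c) (ha : act g (lp a) = lp a) (hb : act g (lp b) = lp b) (hc : act g (lp c) = lp c) :
    ∃ t : K4, t ≠ 0 ∧ ∀ w, InW0 w → g w = t • w := by
  have hort := line_clique ort_base (by decide) (lp_mem a) (lp_mem b)
  have hne : lp a ≠ lp b := fun e => hab (lp_inj e)
  have hline : ∀ k, k ∈ line i₀ j₀ → InW (lp a) (lp b) (pv k) := fun k hk =>
    ⟨ort_iff.1 (line_clique ort_base (by decide) hk (lp_mem a)),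
      ort_iff.1 (line_clique ort_base (by decide) hk (lp_mem b))⟩
  obtain ⟨x, y, e⟩ := inW_span hort hne (hline _ (lp_mem c))
  obtain ⟨s, hs, ea⟩ := act_spec hg (lp a)
  obtain ⟨t, ht, eb⟩ := act_spec hg (lp b)
  obtain ⟨r, hr, ec⟩ := act_spec hg (lp c)
  rw [ha] at ea; rw [hb] at eb; rw [hc] at ec
  have h : (x * s) • pv (lp a) + (y * t) • pv (lp b) = (r * x) • pv (lp a) + (r * y) • pv (lp b) := by
    rw [← smul_smul, ← smul_smul, ← smul_smul r, ← smul_smul r, ← smul_add r, ← e, ← ec, e, hg.add,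
      hg.smul, hg.smul, ea, eb]
  obtain ⟨e1, e2⟩ := indep hort hne h
  have hx : x ≠ 0 := fun h0 => by
    rw [h0, zero_smul, zero_add] at e
    exact hbc (lp_inj (pv_point e).symm)
  have hy : y ≠ 0 := fun h0 => by
    rw [h0, zero_smul, add_zero] at e
    exact hac (lp_inj (pv_point e).symm)
  have es : s = r := mul_left_cancel₀ hx (e1.trans (mul_comm r x))
  have et : t = r := mul_left_cancel₀ hy (e2.trans (mul_comm r y))
  refine ⟨r, hr, fun w hw => ?_⟩
  have hw' : InW (lp a) (lp b) w := by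
    obtain ⟨u, v, rfl⟩ := inW_span ort_base (by decide) hw
    obtain ⟨k1, l1⟩ := hline i₀ (left_mem_line ort_base)
    obtain ⟨k2, l2⟩ := hline j₀ (right_mem_line ort_base)
    constructor <;> rw [hh_add_left, hh_smul_left, hh_smul_left]
    · rw [k1, k2]; simp
    · rw [l1, l2]; simp
  obtain ⟨u, v, rfl⟩ := inW_span hort hne hw'
  rw [hg.add, hg.smul, hg.smul, ea, eb, es, et, smul_add, smul_comm u r, smul_comm v r]
where
  indep {i j : Fin 45} (_ : Ort i j) (hne : i ≠ j) {a b a' b' : K4}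
      (e : a • pv i + b • pv j = a' • pv i + b' • pv j) : a = a' ∧ b = b' := by
    obtain ⟨w, w1, w2⟩ := exists_values hne 1 0
    obtain ⟨w', w1', w2'⟩ := exists_values hne 0 1
    have a1 := congrArg (fun u => hh u w) e
    have a2 := congrArg (fun u => hh u w') e
    simp only [hh_add_left, hh_smul_left] at a1 a2
    rw [hh_swap w (pv i), hh_swap w (pv j)] at a1
    rw [hh_swap w' (pv i), hh_swap w' (pv j)] at a2
    simp only [w1, w2, w1', w2', one_pow, zero_pow two_ne_zero, mul_one, mul_zero, add_zero,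
      zero_add] at a1 a2
    exact ⟨a1, a2⟩

/-- A two-element fixing three points of the base line fixes its span. -/
theorem fixW0_of_three {g : Equiv.Perm W4} (hg : Iso g) {n : ℕ} (hn : g ^ 2 ^ n = 1)
    {a b c : Fin 5} (hab : a ≠ b) (hac : a ≠ c) (hbc : b ≠ c) (ha : act g (lp a) = lp a)
    (hb : act g (lp b) = lp b) (hc : act g (lp c) = lp c) : ∀ w, InW0 w → g w = w := by
  obtain ⟨t, ht, h⟩ := scalar_of_three hg hab hac hbc ha hb hc
  have hpow : ∀ m w, InW0 w → (g ^ m) w = t ^ m • w := by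
    intro m
    induction m with
    | zero => intro w _; simp
    | succ m ih =>
      intro w hw
      rw [pow_succ', Equiv.Perm.mul_apply, ih w hw, hg.smul, h w hw, smul_smul, pow_succ]
  have h1 : t ^ 2 ^ n = 1 := by
    have hp := hpow (2 ^ n) (pv i₀) ⟨pv_iso i₀, ort_iff.1 ort_base⟩
    rw [hn, Equiv.Perm.one_apply] at hp
    by_contra hne
    have h0 : (1 + t ^ 2 ^ n) • pv i₀ = 0 := by rw [add_smul, one_smul, ← hp, vec_add_self]
    refine hne ?_
    have key : ∀ a : K4, 1 + a = 0 → a = 1 := by decide +kernel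
    exact key _ ((smul_eq_zero.1 h0).resolve_right (pv_ne _))
  have h3 : t ^ 3 = 1 := by rw [pow_succ]; exact k4_cube t ht
  have hg1 : t = 1 := by
    have := pow_gcd_eq_one.2 ⟨h1, h3⟩
    rwa [show Nat.gcd (2 ^ n) 3 = 1 from Nat.Coprime.pow_left n (by norm_num), pow_one] at this
  intro w hw
  rw [h w hw, hg1, one_smul]

end Stab

section TwoGroup

variable {M : Subgroup (Equiv.Perm W4)} (hiso : ∀ g ∈ M, Iso g) (h2 : IsPGroup 2 ↥M)
include hiso h2

/-- A two-group of isometries fixes a line. -/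
theorem exists_line : ∃ i j, Ort i j ∧ i ≠ j ∧ ∀ g ∈ M, ∀ k ∈ line i j, act g k ∈ line i j := by
  classical
  haveI : Fact (Nat.Prime 2) := ⟨Nat.prime_two⟩
  letI : MulAction ↥M ↥lineSet :=
    { smul := fun e L => ⟨L.1.image (act e.1), map_lineSet (hiso e e.2) L.2⟩
      one_smul := fun L => Subtype.ext (by
        show L.1.image (act ((1 : ↥M) : Equiv.Perm W4)) = L.1
        rw [OneMemClass.coe_one, show act (1 : Equiv.Perm W4) = id from funext act_one, Finset.image_id])
      mul_smul := fun e f L => Subtype.ext (by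
        show L.1.image (act ((e * f : ↥M) : Equiv.Perm W4)) = (L.1.image (act f.1)).image (act e.1)
        rw [Finset.image_image]
        exact Finset.image_congr fun k _ => act_mul (hiso e e.2) (hiso f f.2) k) }
  obtain ⟨⟨L, hL⟩, hfix⟩ := h2.nonempty_fixed_point_of_prime_not_dvd_card ↥lineSet (by
    rw [Nat.card_eq_fintype_card, Fintype.card_coe, card_lineSet]; norm_num)
  obtain ⟨i, j, hij, hne, rfl⟩ := mem_lineSet.1 hL
  refine ⟨i, j, hij, hne, fun e he k hk => ?_⟩
  have h := congrArg Subtype.val (hfix ⟨e, he⟩)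
  change (line i j).image (act e) = line i j at h
  rw [← h]
  exact Finset.mem_image_of_mem _ hk

/-- A conjugate stabilises the base line. -/
theorem exists_base : ∃ g, Iso g ∧
    ∀ m ∈ M, ∀ k ∈ line i₀ j₀, act (g * m * g⁻¹) k ∈ line i₀ j₀ := by
  classical
  obtain ⟨i, j, hij, hne, h⟩ := exists_line hiso h2
  obtain ⟨g, -, hg, hi, hj⟩ := pair_trans hij hne
  refine ⟨g, hg, fun m hm k hk => ?_⟩
  have hline : line i₀ j₀ = (line i j).image (act g) := by rw [map_line hg, hi, hj]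
  rw [hline, Finset.mem_image] at hk ⊢
  obtain ⟨l, hl, rfl⟩ := hk
  refine ⟨act m l, h m hm l hl, ?_⟩
  rw [← act_mul hg (hiso m hm), ← act_mul ((hg.mul (hiso m hm)).mul hg.inv) hg, inv_mul_cancel_right]

end TwoGroup

section Based

variable {M : Subgroup (Equiv.Perm W4)} (hiso : ∀ g ∈ M, Iso g) (h2 : IsPGroup 2 ↥M)
  (hst : ∀ m ∈ M, ∀ k ∈ line i₀ j₀, act m k ∈ line i₀ j₀)

/-- The members fixing the span of the base line. -/
def fixPart (M : Subgroup (Equiv.Perm W4)) : Subgroup (Equiv.Perm W4) where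
  carrier := {g | g ∈ M ∧ ∀ w, InW0 w → g w = w}
  one_mem' := ⟨one_mem _, fun _ _ => rfl⟩
  mul_mem' {a b} ha hb := ⟨mul_mem ha.1 hb.1, fun w hw => by
    rw [Equiv.Perm.mul_apply, hb.2 w hw, ha.2 w hw]⟩
  inv_mem' {a} ha := ⟨inv_mem ha.1, fun w hw => by
    conv_lhs => rw [← ha.2 w hw]
    exact a.symm_apply_apply w⟩

include hiso h2 hst

theorem card_fixPart : Nat.card ↥(fixPart M) ≤ 16 := by
  rw [← SetLike.coe_sort_coe, Nat.card_coe_set_eq]
  exact card_fixW0_le fun g hg => ⟨hiso g hg.1, hg.2⟩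

/-- The image on the five points has order at most four. -/
theorem card_le : Nat.card ↥M ≤ 4 * Nat.card ↥(fixPart M) := by
  classical
  haveI : Fact (Nat.Prime 2) := ⟨Nat.prime_two⟩
  let Φ : ↥M →* Equiv.Perm (Fin 5) :=
    { toFun := fun m => perm5 (hiso m.1 m.2) (hst m.1 m.2)
      map_one' := Equiv.ext fun a => lp_inj (by rw [perm5_spec]; exact act_one _)
      map_mul' := fun m n => Equiv.ext fun a => lp_inj (by
        rw [perm5_spec, Equiv.Perm.mul_apply, perm5_spec, perm5_spec]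
        exact act_mul (hiso _ m.2) (hiso _ n.2) _) }
  have hkey : ∀ m : ↥M, ∀ a b c : Fin 5, a ≠ b → a ≠ c → b ≠ c → Φ m a = a → Φ m b = b → Φ m c = c →
      (m : Equiv.Perm W4) ∈ fixPart M := by
    intro m a b c hab hac hbc ha hb hc
    obtain ⟨n, hn⟩ := h2 m
    refine ⟨m.2, fixW0_of_three (hiso m.1 m.2) (congrArg Subtype.val hn) hab hac hbc ?_ ?_ ?_⟩ <;>
      rw [← perm5_spec (hiso m.1 m.2) (hst m.1 m.2)]
    exacts [congrArg lp ha, congrArg lp hb, congrArg lp hc]
  have hone : ∀ m : ↥M, (m : Equiv.Perm W4) ∈ fixPart M → Φ m = 1 := fun m hm =>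
    Equiv.ext fun a => lp_inj (by
      show lp (perm5 (hiso m.1 m.2) (hst m.1 m.2) a) = lp a
      rw [perm5_spec]
      refine act_eq (hiso m.1 m.2) (c := 1) ?_
      rw [one_smul]
      obtain ⟨k1, k2⟩ := mem_line.1 (lp_mem a)
      exact hm.2 _ ⟨ort_iff.1 (ort_symm k1), ort_iff.1 (ort_symm k2)⟩)
  have hker : Nat.card ↥Φ.ker ≤ Nat.card ↥(fixPart M) :=
    Nat.card_le_card_of_injective (fun m : ↥Φ.ker => (⟨((m : ↥M) : Equiv.Perm W4),
      hkey m 0 1 2 (by decide) (by decide) (by decide) (by rw [MonoidHom.mem_ker.1 m.2]; rfl)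
        (by rw [MonoidHom.mem_ker.1 m.2]; rfl) (by rw [MonoidHom.mem_ker.1 m.2]; rfl)⟩ : ↥(fixPart M)))
      fun x y e => Subtype.ext (Subtype.ext (congrArg Subtype.val e :))
  have hrange : Nat.card ↥Φ.range ≤ 4 := by
    have hp : IsPGroup 2 ↥Φ.range := h2.of_surjective Φ.rangeRestrict Φ.rangeRestrict_surjective
    obtain ⟨k, hk⟩ := IsPGroup.iff_card.1 hp
    have hd := Subgroup.card_subgroup_dvd_card Φ.range
    rw [hk, Nat.card_eq_fintype_card, Fintype.card_perm, Fintype.card_fin,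
      show Nat.factorial 5 = 2 ^ 3 * 15 by rfl] at hd
    have hk3 : 2 ^ k ∣ 2 ^ 3 := (Nat.Coprime.dvd_of_dvd_mul_right (Nat.Coprime.pow_left k (by norm_num)) hd)
    rw [Nat.pow_dvd_pow_iff_le_right (by norm_num)] at hk3
    rw [hk]
    by_contra hgt
    have hk' : k = 3 := by
      interval_cases k <;> simp at hgt ⊢
    -- a subgroup of order eight contains a transposition
    let P : Sylow 2 (Equiv.Perm (Fin 5)) := Sylow.ofCard Φ.range (by
      rw [hk, hk', Nat.card_eq_fintype_card, Fintype.card_perm, Fintype.card_fin,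
        show Nat.factorial 5 = 2 ^ 3 * 15 by rfl,
        Nat.factorization_mul (by norm_num) (by norm_num), Finsupp.add_apply,
        Nat.Prime.factorization_pow Nat.prime_two, Finsupp.single_eq_same,
        Nat.factorization_eq_zero_of_not_dvd (by norm_num), add_zero])
    have hs : IsPGroup 2 ↥(Subgroup.zpowers (Equiv.swap (0 : Fin 5) 1)) :=
      IsPGroup.of_card (n := 1) (by
        rw [Nat.card_zpowers, pow_one]
        exact Equiv.Perm.IsSwap.orderOf ⟨0, 1, by decide, rfl⟩)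
    obtain ⟨P₀, hP₀⟩ := hs.exists_le_sylow
    obtain ⟨k', hk''⟩ := MulAction.exists_smul_eq (Equiv.Perm (Fin 5)) P₀ P
    have hmem : k' * Equiv.swap (0 : Fin 5) 1 * k'⁻¹ ∈ Φ.range := by
      have : k' * Equiv.swap (0 : Fin 5) 1 * k'⁻¹ ∈ (P : Subgroup (Equiv.Perm (Fin 5))) := by
        rw [← hk'']
        exact ⟨_, hP₀ (Subgroup.mem_zpowers _), rfl⟩
      exact this
    obtain ⟨m, hm⟩ := hmem
    have hfix : ∀ d : Fin 5, d ≠ 0 → d ≠ 1 → Φ m (k' d) = k' d := fun d h0 h1 => by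
      rw [hm, Equiv.Perm.mul_apply, Equiv.Perm.mul_apply]
      simp [Equiv.swap_apply_of_ne_of_ne h0 h1]
    have h1 := hone m (hkey m (k' 2) (k' 3) (k' 4)
      (k'.injective.ne (by decide)) (k'.injective.ne (by decide)) (k'.injective.ne (by decide))
      (hfix 2 (by decide) (by decide)) (hfix 3 (by decide) (by decide)) (hfix 4 (by decide) (by decide)))
    rw [h1] at hm
    have h01 := congrArg (fun σ : Equiv.Perm (Fin 5) => σ (k' 0)) hm
    simp at h01
  calc Nat.card ↥M = Nat.card ↥Φ.ker * Φ.ker.index := (Subgroup.card_mul_index _).symm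
    _ = Nat.card ↥Φ.ker * Nat.card ↥Φ.range := by rw [Subgroup.index_ker]
    _ ≤ Nat.card ↥(fixPart M) * 4 := Nat.mul_le_mul hker hrange
    _ = _ := mul_comm _ _

/-- A member outside centralises at most four of the members fixing the span. -/
theorem card_comm {m : Equiv.Perm W4} (hm : m ∈ M) (hout : m ∉ fixPart M) (N : Set (Equiv.Perm W4))
    (hN : ∀ b ∈ N, b ∈ fixPart M ∧ m * b = b * m) : N.ncard ≤ 4 := by
  classical
  set π := perm5 (hiso m hm) (hst m hm) with hπ
  let S := Finset.univ.filter fun p : Fin 5 × Fin 5 => p.1 ≤ p.2 ∧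
    ((π p.1 = p.1 ∧ π p.2 = p.2) ∨ (π p.1 = p.2 ∧ π p.2 = p.1))
  have hsub : N ⊆ ↑(insert 1 (S.image code)) := by
    intro b hb
    obtain ⟨hbF, hc⟩ := hN b hb
    rw [Finset.mem_coe, Finset.mem_insert, Finset.mem_image]
    rcases fixW0_code (hiso b hbF.1) hbF.2 with e | ⟨p, hp, e⟩
    · exact Or.inl e
    · refine Or.inr ⟨p, Finset.mem_filter.2 ⟨Finset.mem_univ _, hp, ?_⟩, e.symm⟩
      have hcj : code (π p.1, π p.2) = code p := by
        rw [hπ, ← conj_code (hiso m hm) (hst m hm), ← e, hc, mul_inv_cancel_right]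
      rcases le_total (π p.1) (π p.2) with hle | hle
      · have := code_inj (p := (π p.1, π p.2)) hle hp hcj
        exact Or.inl ⟨congrArg Prod.fst this, congrArg Prod.snd this⟩
      · rw [code_comm] at hcj
        have := code_inj (p := (π p.2, π p.1)) hle hp hcj
        exact Or.inr ⟨congrArg Prod.snd this, congrArg Prod.fst this⟩
  have hS : S.card ≤ 3 := by
    obtain ⟨n, hn⟩ := h2 ⟨m, hm⟩
    have key : ∀ a b c : Fin 5, π a = a → π b = b → π c = c → a = b ∨ a = c ∨ b = c := by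
      intro a b c ha hb hc
      by_contra hcon
      push Not at hcon
      obtain ⟨h1, h2', h3⟩ := hcon
      refine hout ⟨hm, fixW0_of_three (hiso m hm) (congrArg Subtype.val hn) h1 h2' h3 ?_ ?_ ?_⟩ <;>
        rw [← perm5_spec (hiso m hm) (hst m hm)]
      exacts [congrArg lp ha, congrArg lp hb, congrArg lp hc]
    refine fix_five π (Or.inr key) fun h1 => ?_
    rcases key 0 1 2 (by rw [h1]; rfl) (by rw [h1]; rfl) (by rw [h1]; rfl) with e | e | e <;>
      exact absurd e (by decide)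
  refine le_trans (Set.ncard_le_ncard hsub (Finset.finite_toSet _)) ?_
  rw [Set.ncard_coe_finset]
  exact le_trans (Finset.card_insert_le _ _) (Nat.succ_le_succ (le_trans Finset.card_image_le hS))

end Based

/-- Conjugation of a subgroup of isometries. -/
theorem conj_props {M : Subgroup (Equiv.Perm W4)} (hiso : ∀ g ∈ M, Iso g) (h2 : IsPGroup 2 ↥M) :
    ∃ g : Equiv.Perm W4, Iso g ∧
      (∀ x ∈ M.map (MulAut.conj g).toMonoidHom, Iso x) ∧
      IsPGroup 2 ↥(M.map (MulAut.conj g).toMonoidHom) ∧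
      (∀ x ∈ M.map (MulAut.conj g).toMonoidHom, ∀ k ∈ line i₀ j₀, act x k ∈ line i₀ j₀) ∧
      Nat.card ↥(M.map (MulAut.conj g).toMonoidHom) = Nat.card ↥M := by
  obtain ⟨g, hg, h⟩ := exists_base hiso h2
  refine ⟨g, hg, ?_, h2.map _, ?_, ?_⟩
  · rintro _ ⟨m, hm, rfl⟩; exact (hg.mul (hiso m hm)).mul hg.inv
  · rintro _ ⟨m, hm, rfl⟩; exact h m hm
  · exact Nat.card_congr (M.equivMapOfInjective _ (MulAut.conj g).injective).toEquiv.symm

/-- An elementary abelian group of isometries has order at most sixteen. -/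
theorem elem_le {E : Subgroup (Equiv.Perm W4)} (hiso : ∀ g ∈ E, Iso g) (h2 : ∀ e ∈ E, e * e = 1)
    (hc : ∀ a ∈ E, ∀ b ∈ E, a * b = b * a) : Nat.card ↥E ≤ 16 := by
  classical
  obtain ⟨g, -, hiso', hp', hst', hcard⟩ := conj_props hiso fun e => ⟨1, Subtype.ext (by
    show (e : Equiv.Perm W4) ^ 2 ^ 1 = 1
    rw [pow_one, pow_two, h2 e e.2])⟩
  set E' := E.map (MulAut.conj g).toMonoidHom
  have hc' : ∀ a ∈ E', ∀ b ∈ E', a * b = b * a := by
    rintro _ ⟨a, ha, rfl⟩ _ ⟨b, hb, rfl⟩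
    rw [← map_mul, ← map_mul, hc a ha b hb]
  rw [← hcard]
  by_cases hall : ∀ x ∈ E', x ∈ fixPart E'
  · exact le_trans (Nat.card_le_card_of_injective (fun x : ↥E' => (⟨x.1, hall x.1 x.2⟩ : ↥(fixPart E')))
      fun a b e => Subtype.ext (congrArg Subtype.val e :)) (card_fixPart hiso' hp' hst')
  · push Not at hall
    obtain ⟨m, hm, hout⟩ := hall
    have h4 := card_comm hiso' hp' hst' hm hout (fixPart E' : Set _)
      fun b hb => ⟨hb, hc' m hm b hb.1⟩
    rw [← Nat.card_coe_set_eq, SetLike.coe_sort_coe] at h4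
    have := card_le hiso' hp' hst'
    omega

/-- No two-group of order at least thirty-two has an elementary abelian central subgroup of order
eight. -/
theorem no_central_eight {M E : Subgroup (Equiv.Perm W4)} (hiso : ∀ g ∈ M, Iso g)
    (h2 : IsPGroup 2 ↥M) (hEM : E ≤ M) (hc : ∀ e ∈ E, ∀ m ∈ M, m * e = e * m)
    (hE : 8 ≤ Nat.card ↥E) (hM : 32 ≤ Nat.card ↥M) : False := by
  classical
  obtain ⟨g, -, hiso', hp', hst', hcard⟩ := conj_props hiso h2
  set M' := M.map (MulAut.conj g).toMonoidHom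
  set E' := E.map (MulAut.conj g).toMonoidHom
  have hEM' : E' ≤ M' := Subgroup.map_mono hEM
  have hc' : ∀ e ∈ E', ∀ m ∈ M', m * e = e * m := by
    rintro _ ⟨e, he, rfl⟩ _ ⟨m, hm, rfl⟩
    rw [← map_mul, ← map_mul, hc e he m hm]
  have hE' : 8 ≤ Nat.card ↥E' := by
    rwa [← Nat.card_congr (E.equivMapOfInjective _ (MulAut.conj g).injective).toEquiv]
  have h1 := card_fixPart hiso' hp' hst'
  have h4 := card_le hiso' hp' hst'
  rw [← hcard] at hM
  by_cases hall : ∀ e ∈ E', e ∈ fixPart M'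
  · obtain ⟨m, hm, hout⟩ : ∃ m ∈ M', m ∉ fixPart M' := by
      by_contra hcon
      push Not at hcon
      have := Nat.card_le_card_of_injective (fun x : ↥M' => (⟨x.1, hcon x.1 x.2⟩ : ↥(fixPart M')))
        fun a b e => Subtype.ext (congrArg Subtype.val e :)
      omega
    have h := card_comm hiso' hp' hst' hm hout (E' : Set _) fun b hb => ⟨hall b hb, hc' b hb m hm⟩
    rw [← Nat.card_coe_set_eq, SetLike.coe_sort_coe] at h
    omega
  · push Not at hall
    obtain ⟨e, he, hout⟩ := hall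
    have h := card_comm hiso' hp' hst' (hEM' he) hout (fixPart M' : Set _)
      fun b hb => ⟨hb, (hc' e he b hb.1).symm⟩
    rw [← Nat.card_coe_set_eq, SetLike.coe_sort_coe] at h
    omega

/-- A two-group of order sixty-four has more than one nontrivial commutator. -/
theorem no_small_derived {M : Subgroup (Equiv.Perm W4)} (hiso : ∀ g ∈ M, Iso g) (h2 : IsPGroup 2 ↥M)
    {c : Equiv.Perm W4} (hc : ∀ a ∈ M, ∀ b ∈ M, a * b * a⁻¹ * b⁻¹ = 1 ∨ a * b * a⁻¹ * b⁻¹ = c) :
    Nat.card ↥M ≤ 32 := by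
  classical
  obtain ⟨g, -, hiso', hp', hst', hcard⟩ := conj_props hiso h2
  set M' := M.map (MulAut.conj g).toMonoidHom
  have hc' : ∀ a ∈ M', ∀ b ∈ M', a * b * a⁻¹ * b⁻¹ = 1 ∨
      a * b * a⁻¹ * b⁻¹ = (MulAut.conj g).toMonoidHom c := by
    rintro _ ⟨a, ha, rfl⟩ _ ⟨b, hb, rfl⟩
    rcases hc a ha b hb with e | e <;>
      [left; right] <;> rw [← map_inv, ← map_inv, ← map_mul, ← map_mul, ← map_mul, e]
    exact map_one _
  rw [← hcard]
  have h1 := card_fixPart hiso' hp' hst'
  have h4 := card_le hiso' hp' hst'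
  by_contra hgt
  obtain ⟨m, hm, hout⟩ : ∃ m ∈ M', m ∉ fixPart M' := by
    by_contra hcon
    push Not at hcon
    have := Nat.card_le_card_of_injective (fun x : ↥M' => (⟨x.1, hcon x.1 x.2⟩ : ↥(fixPart M')))
      fun a b e => Subtype.ext (congrArg Subtype.val e :)
    omega
  let C : Set (Equiv.Perm W4) := {b | b ∈ fixPart M' ∧ m * b = b * m}
  have hC : C.ncard ≤ 4 := card_comm hiso' hp' hst' hm hout C fun b hb => hb
  have hcov : (fixPart M' : Set (Equiv.Perm W4)).ncard ≤ 2 * C.ncard := by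
    by_cases hall : ∀ b ∈ fixPart M', b ∈ C
    · exact le_trans (Set.ncard_le_ncard hall (Set.toFinite _)) (by omega)
    · push Not at hall
      obtain ⟨b₀, hb₀, hb₀'⟩ := hall
      have key : ∀ b ∈ fixPart M', b ∉ C → m * b * m⁻¹ * b⁻¹ = (MulAut.conj g).toMonoidHom c := by
        intro b hb hb'
        refine (hc' m hm b hb.1).resolve_left fun e => hb' ⟨hb, ?_⟩
        rwa [mul_inv_eq_one, mul_inv_eq_iff_eq_mul] at e
      have hsub : (fixPart M' : Set (Equiv.Perm W4)) ⊆ C ∪ (fun b => b₀ * b) '' C := by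
        intro b hb
        by_cases hb' : b ∈ C
        · exact Or.inl hb'
        · refine Or.inr ⟨b₀⁻¹ * b, ⟨mul_mem (inv_mem hb₀) hb, ?_⟩, mul_inv_cancel_left _ _⟩
          have e0 := key b₀ hb₀ hb₀'
          have e1 := key b hb hb'
          rw [mul_inv_eq_iff_eq_mul] at e0 e1
          calc m * (b₀⁻¹ * b) = (m * b₀ * m⁻¹)⁻¹ * (m * b * m⁻¹) * m := by group
            _ = b₀⁻¹ * b * m := by rw [e0, e1]; group
      refine le_trans (Set.ncard_le_ncard hsub (Set.toFinite _)) ?_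
      refine le_trans (Set.ncard_union_le _ _) ?_
      have := Set.ncard_image_le (f := fun b => b₀ * b) (Set.toFinite C)
      omega
  rw [← Nat.card_coe_set_eq, SetLike.coe_sort_coe] at hcov
  omega

/-- A transvection preserving a line is centred on it. -/
theorem tp_stab {i j k : Fin 45} (hij : Ort i j) (hne : i ≠ j)
    (h : ∀ l ∈ line i j, act (tp k) l ∈ line i j) : k ∈ line i j := by
  have key : ∀ l, l ∈ line i j → Ort l k := by
    intro l hl
    by_contra hn
    obtain ⟨c, -, e⟩ := act_spec (tp_iso k) l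
    have ho : hh (pv (act (tp k) l)) (pv l) = 0 := ort_iff.1 (line_clique hij hne (h l hl) hl)
    have h1 := congrArg (fun u => hh u (pv l)) e
    simp only [tp_apply, hh_add_left, hh_smul_left, pv_iso, ho, zero_add, mul_zero] at h1
    have hlk : hh (pv l) (pv k) ≠ 0 := fun e => hn (ort_iff.2 e)
    rcases mul_eq_zero.1 h1 with e' | e'
    · exact hlk e'
    · exact hlk (hh_zero_symm.1 e')
  exact mem_line.2 ⟨key i (left_mem_line hij), key j (right_mem_line hij)⟩

/-- A two-group holds the transvections of one line only. -/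
theorem line_unique {M : Subgroup (Equiv.Perm W4)} (hiso : ∀ g ∈ M, Iso g) (h2 : IsPGroup 2 ↥M)
    {i j i' j' : Fin 45} (hij : Ort i j) (hne : i ≠ j) (hij' : Ort i' j') (hne' : i' ≠ j')
    (h : ∀ k ∈ line i j, tp k ∈ M) (h' : ∀ k ∈ line i' j', tp k ∈ M) : line i j = line i' j' := by
  classical
  obtain ⟨a, b, hab, hneab, hfix⟩ := exists_line hiso h2
  have sub : ∀ {p q : Fin 45}, Ort p q → p ≠ q → (∀ k ∈ line p q, tp k ∈ M) → line p q = line a b :=
    fun {p q} hpq hpne hh' => Finset.eq_of_subset_of_card_le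
      (fun k hk => tp_stab hab hneab (hfix _ (hh' k hk)))
      (le_of_eq (by rw [card_line hpq hpne, card_line hab hneab]))
  rw [sub hij hne h, sub hij' hne' h']

/-- Eight singular vectors closed under sums and pairwise orthogonal for the polar form contain two
orthogonal points. -/
theorem exists_line_in {S : AddSubgroup W4} (h8 : 8 ≤ Nat.card ↥S) (hp : ∀ u ∈ S, ∀ v ∈ S, pol4 u v = 0)
    (hw : ∀ u ∈ S, wt4 u = 0) :
    ∃ i j : Fin 45, Ort i j ∧ i ≠ j ∧ ∃ a b : K4, a ≠ 0 ∧ b ≠ 0 ∧ a • pv i ∈ S ∧ b • pv j ∈ S := by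
  classical
  have h01 : ∀ u ∈ S, ∀ v ∈ S, hh u v = 0 ∨ hh u v = 1 := fun u hu v hv => by
    have key : ∀ a : K4, H41.LFi.trK a = 0 → a = 0 ∨ a = 1 := by decide +kernel
    exact key _ (by rw [← pol4_eq]; exact hp u hu v hv)
  have pt : ∀ u ∈ S, u ≠ 0 → ∃ (i : Fin 45) (c : K4), c ≠ 0 ∧ u = c • pv i := fun u hu h0 => by
    obtain ⟨i, c, hc, e⟩ := exists_point h0 ((iso_iff u).2 (hw u hu))
    refine ⟨i, c⁻¹, inv_ne_zero hc, ?_⟩
    rw [e, smul_smul, inv_mul_cancel₀ hc, one_smul]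
  -- orthogonal independent pairs give the result
  have good : ∀ u ∈ S, ∀ v ∈ S, u ≠ 0 → v ≠ 0 → hh u v = 0 → (∀ c : K4, v ≠ c • u) →
      ∃ i j : Fin 45, Ort i j ∧ i ≠ j ∧ ∃ a b : K4, a ≠ 0 ∧ b ≠ 0 ∧ a • pv i ∈ S ∧ b • pv j ∈ S := by
    intro u hu v hv u0 v0 h0 hind
    obtain ⟨i, a, ha, rfl⟩ := pt u hu u0
    obtain ⟨j, b, hb, rfl⟩ := pt v hv v0
    refine ⟨i, j, ort_iff.2 ?_, fun e => hind (b * a⁻¹) ?_, a, b, ha, hb, hu, hv⟩
    · rw [hh_smul_left, hh_smul_right, ← mul_assoc] at h0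
      exact (mul_eq_zero.1 h0).resolve_left (mul_ne_zero ha (by rw [Ne, k4_sq_zero]; exact hb))
    · rw [e, smul_smul, mul_assoc, inv_mul_cancel₀ ha, mul_one]
  by_contra hcon
  have hone : ∀ u ∈ S, ∀ v ∈ S, u ≠ 0 → v ≠ 0 → (∀ c : K4, v ≠ c • u) → hh u v = 1 :=
    fun u hu v hv u0 v0 hind => (h01 u hu v hv).resolve_left fun e => hcon (good u hu v hv u0 v0 e hind)
  -- each point holds at most one vector
  have single : ∀ u ∈ S, u ≠ 0 → ∀ c : K4, c • u ∈ S → c = 0 ∨ c = 1 := by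
    intro u hu u0 c hc
    by_contra hcc
    push Not at hcc
    obtain ⟨v, hv, hind⟩ : ∃ v ∈ S, ∀ d : K4, v ≠ d • u := by
      by_contra hall
      push Not at hall
      have : Nat.card ↥S ≤ Nat.card K4 := Nat.card_le_card_of_injective
        (fun v : ↥S => (hall v.1 v.2).choose) fun v w e => Subtype.ext (by
          rw [(hall v.1 v.2).choose_spec, (hall w.1 w.2).choose_spec]
          exact congrArg (· • u) e)
      rw [Nat.card_eq_fintype_card (α := K4), H41.SUSix.hK] at this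
      omega
    have v0 : v ≠ 0 := fun e => hind 0 (by rw [e, zero_smul])
    have e1 := hone u hu v hv u0 v0 hind
    have e2 := hone (c • u) hc v hv (smul_ne_zero hcc.1 u0) v0 fun d e => hind (d * c) (by rw [e, smul_smul])
    rw [hh_smul_left, e1, mul_one] at e2
    exact hcc.2 e2
  -- three independent vectors
  obtain ⟨u, hu, u0⟩ : ∃ u ∈ S, u ≠ 0 := by
    by_contra hall
    push Not at hall
    have : Nat.card ↥S ≤ 1 := Finite.card_le_one_iff_subsingleton.2
      ⟨fun a b => Subtype.ext ((hall a.1 a.2).trans (hall b.1 b.2).symm)⟩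
    omega
  have pick : ∀ T : Finset W4, T.card < 8 → ∃ w ∈ S, w ∉ T := fun T hT => by
    by_contra hall
    push Not at hall
    have : Nat.card ↥S ≤ Nat.card (T : Set W4) :=
      Nat.card_le_card_of_injective (fun w : ↥S => (⟨w.1, hall w.1 w.2⟩ : (T : Set W4)))
        fun a b e => Subtype.ext (congrArg Subtype.val e :)
    rw [Nat.card_coe_set_eq, Set.ncard_coe_finset] at this
    omega
  obtain ⟨v, hv, hv'⟩ := pick {0, u} (lt_of_le_of_lt Finset.card_le_two (by norm_num))
  simp only [Finset.mem_insert, Finset.mem_singleton, not_or] at hv'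
  obtain ⟨w, hwS, hw'⟩ := pick {0, u, v, u + v} (lt_of_le_of_lt Finset.card_le_four (by norm_num))
  simp only [Finset.mem_insert, Finset.mem_singleton, not_or] at hw'
  have ind : ∀ x ∈ S, ∀ y ∈ S, x ≠ 0 → y ≠ 0 → y ≠ x → hh x y = 1 := fun x hx y hy x0 y0 hne =>
    hone x hx y hy x0 y0 fun c e => by
      rcases single x hx x0 c (e ▸ hy) with rfl | rfl
      · exact y0 (by rw [e, zero_smul])
      · exact hne (by rw [e, one_smul])
  have huv0 : u + v ≠ 0 := fun e => hv'.2 (add_left_cancel (e.trans (vec_add_self u).symm))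
  have a1 := ind u hu w hwS u0 hw'.1 hw'.2.1
  have a2 := ind v hv w hwS hv'.1 hw'.1 hw'.2.2.1
  have a3 := ind (u + v) (S.add_mem hu hv) w hwS huv0 hw'.1 hw'.2.2.2
  rw [hh_add_left, a1, a2, k4_add_self] at a3
  exact zero_ne_one a3

end Cfsg.Agent.H49.UChar
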