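import Cfsg.Agent.H49.USix.Model
import Cfsg.Agent.Unitary.Center
import Cfsg.Agent.Unitary.Simple

/-!
Monomial elements of the special unitary group of degree four over the field with four elements.
-/

set_option autoImplicit false
set_option maxRecDepth 20000

namespace Cfsg.Agent.H49.UChar

open Cfsg Cfsg.Agent.Unitary Matrix
open Cfsg.Agent.H41.SUSix (K4 ω₄)
open Cfsg.Agent.H49.USix (W4 hh wt4)

/-- The unitary group. -/
abbrev SU4 : Type := ↥(Cfsg.SU 4 K4 2)

theorem hK4 : Fintype.card K4 = 2 ^ 2 := rfl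

/-- The exponents of the diagonal torus. -/
abbrev T3 : Type := Fin 3 → ZMod 3

/-- The four exponents, with sum zero. -/
def ext4 (s : T3) : Fin 4 → ZMod 3 := ![s 0, s 1, s 2, -(s 0 + s 1 + s 2)]

/-- Powers of the generator. -/
def wp (a : ZMod 3) : K4 := if a = 0 then 1 else if a = 1 then ω₄ else ω₄ * ω₄

theorem wp_add : ∀ a b, wp (a + b) = wp a * wp b := by decide +kernel

theorem wp_norm : ∀ a, wp a * wp a ^ 2 = 1 := by decide +kernel

theorem dmat_det : ∀ s : T3, ∏ i, wp (ext4 s i) = 1 := by decide +kernel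

theorem dmat_pres (s : T3) :
    Preserves 2 (Matrix.diagonal fun i => wp (ext4 s i) : Matrix (Fin 4) (Fin 4) K4) := by
  intro x y
  simp only [mulVec_diagonal, hermForm, mul_pow]
  refine Finset.sum_congr rfl fun i _ => ?_
  calc wp (ext4 s i) * x i * (wp (ext4 s i) ^ 2 * y i ^ 2)
      = wp (ext4 s i) * wp (ext4 s i) ^ 2 * (x i * y i ^ 2) := by ring
    _ = _ := by rw [wp_norm, one_mul]

/-- The torus. -/
def dg (s : T3) : SU4 :=
  toSU (dmat_pres s) (by rw [det_diagonal]; exact dmat_det s)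

theorem ap_dg (s : T3) (w : W4) (i : Fin 4) : ap (dg s) w i = wp (ext4 s i) * w i := by
  show ((Matrix.diagonal fun i => wp (ext4 s i) : Matrix (Fin 4) (Fin 4) K4) *ᵥ w) i = _
  rw [mulVec_diagonal]

theorem ext4_add : ∀ s t : T3, ext4 (s + t) = ext4 s + ext4 t := by decide +kernel

theorem dg_add (s t : T3) : dg (s + t) = dg s * dg t := ap_ext fun w => funext fun i => by
  rw [ap_mul, ap_dg, ap_dg, ap_dg, ext4_add, Pi.add_apply, wp_add, mul_assoc]

theorem dg_zero : dg 0 = 1 := by
  have h := dg_add 0 0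
  rw [add_zero] at h
  exact (mul_eq_left.1 h.symm)

theorem dg_ne_one {s : T3} {i : Fin 4} (h : ext4 s i ≠ 0) : dg s ≠ 1 := fun e => by
  have h' := ap_dg s (fun _ => 1) i
  rw [e, ap_one, mul_one] at h'
  have key : ∀ a : ZMod 3, a ≠ 0 → (1 : K4) ≠ wp a := by decide +kernel
  exact key _ h h'

theorem perm_det (σ : Equiv.Perm (Fin 4)) : ((1 : Matrix (Fin 4) (Fin 4) K4).submatrix σ id).det = 1 := by
  rw [Matrix.det_permute, Matrix.det_one, mul_one]
  rcases Int.units_eq_one_or (Equiv.Perm.sign σ) with e | e <;> rw [e]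
  · simp
  · have key : ((-1 : ℤ) : K4) = 1 := by rw [Int.cast_neg, Int.cast_one]; decide +kernel
    simpa using key

theorem perm_mulVec (σ : Equiv.Perm (Fin 4)) (x : W4) :
    (1 : Matrix (Fin 4) (Fin 4) K4).submatrix σ id *ᵥ x = x ∘ σ := by
  funext i
  simp [Matrix.mulVec, dotProduct, Matrix.one_apply]

theorem perm_pres (σ : Equiv.Perm (Fin 4)) :
    Preserves 2 ((1 : Matrix (Fin 4) (Fin 4) K4).submatrix σ id) := by
  intro x y
  simp only [perm_mulVec, hermForm, Function.comp_apply]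
  exact Equiv.sum_comp σ fun i => x i * y i ^ 2

/-- The permutation elements. -/
def pm (σ : Equiv.Perm (Fin 4)) : SU4 := toSU (perm_pres σ) (perm_det σ)

theorem ap_pm (σ : Equiv.Perm (Fin 4)) (w : W4) : ap (pm σ) w = w ∘ σ := perm_mulVec σ w

/-- The exponent of a conjugated torus element. -/
def psh (σ : Equiv.Perm (Fin 4)) (s : T3) : T3 := fun i => ext4 s (σ i.castSucc)

theorem ext4_psh : ∀ (σ : Equiv.Perm (Fin 4)) (s : T3) (i : Fin 4), ext4 (psh σ s) i = ext4 s (σ i) := by
  decide +kernel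

theorem pm_dg (σ : Equiv.Perm (Fin 4)) (s : T3) : pm σ * dg s = dg (psh σ s) * pm σ := by
  refine ap_ext fun w => funext fun i => ?_
  rw [ap_mul, ap_mul, ap_pm, ap_dg, ap_pm, Function.comp_apply, ap_dg, ext4_psh]
  rfl

/-- The element fixing one coordinate and rotating the others. -/
def tl (l : Fin 4) : T3 := fun i => if i.castSucc = l then 0 else 1

theorem ext4_tl : ∀ l i : Fin 4, ext4 (tl l) i = if i = l then 0 else 1 := by decide +kernel

theorem ap_tl (l : Fin 4) (w : W4) :
    ap (dg (tl l)) w = ω₄ • w + ((1 + ω₄) * w l) • Pi.single l 1 := by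
  funext i
  rw [ap_dg, ext4_tl]
  have key : ∀ a : K4, 1 * a = ω₄ * a + (1 + ω₄) * a * 1 ∧ ω₄ * a = ω₄ * a + (1 + ω₄) * 0 * 1 := by
    decide +kernel
  by_cases h : i = l
  · subst h
    simp only [if_pos rfl, Pi.add_apply, Pi.smul_apply, smul_eq_mul, Pi.single_eq_same]
    exact (key (w i)).1
  · simp only [if_neg h, Pi.add_apply, Pi.smul_apply, smul_eq_mul, Pi.single_eq_of_ne h, mul_zero,
      add_zero]
    rfl

theorem hh_single (w : W4) (l : Fin 4) : hh w (Pi.single l 1) = w l := by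
  rw [hh, herm_single_right hK4, one_pow, mul_one]

/-- A conjugate of a torus generator is a pseudo-reflection scaled by the generator. -/
theorem ap_conj_tl (g : SU4) (w : W4) :
    ap (g * dg (tl 3) * g⁻¹) w =
      ω₄ • w + ((1 + ω₄) * hh w (ap g (Pi.single 3 1))) • ap g (Pi.single 3 1) := by
  rw [ap_mul, ap_mul, ap_tl, ap_add, ap_smul, ap_smul, ap_ap_inv]
  congr 3
  rw [← hh_single (ap g⁻¹ w) 3, hh, hh, herm_ap_right g]

theorem weight_cases : ∀ v : W4, wt4 v = 1 →
    (∃ j : Fin 4, ∃ c : K4, c ≠ 0 ∧ v = c • Pi.single j 1) ∨ ∃ l : Fin 4, v l = 0 := by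
  intro v hv
  by_cases h : ∃ l, v l = 0
  · exact Or.inr h
  · push Not at h
    exfalso
    rw [wt4, Fin.sum_univ_four, if_neg (h 0), if_neg (h 1), if_neg (h 2), if_neg (h 3)] at hv
    exact absurd hv (by decide)

/-- Each conjugate of a torus generator commutes with a torus generator. -/
theorem conj_tl_cases (g : SU4) :
    (∃ j, g * dg (tl 3) * g⁻¹ = dg (tl j)) ∨
      ∃ l, Commute (g * dg (tl 3) * g⁻¹) (dg (tl l)) := by
  set v := ap g (Pi.single 3 1) with hv
  have hw : wt4 v = 1 := by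
    have h : hh v v = 1 := by
      rw [hv, hh, herm_ap, herm_single_single hK4, if_pos rfl]
    rw [USix.hh_self] at h
    have key : ∀ a : ZMod 2, H41.LFi.iot a = 1 → a = 1 := by decide +kernel
    exact key _ h
  rcases weight_cases v hw with ⟨j, c, hc, e⟩ | ⟨l, hl⟩
  · refine Or.inl ⟨j, ap_ext fun w => ?_⟩
    rw [ap_conj_tl, ap_tl, ← hv, e, USix.hh_smul_right, hh_single, smul_smul]
    congr 2
    calc (1 + ω₄) * (c ^ 2 * w j) * c = (1 + ω₄) * w j * (c ^ 2 * c) := by ring
      _ = _ := by rw [USix.k4_cube c hc, mul_one]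
  · refine Or.inr ⟨l, ap_ext fun w => ?_⟩
    have hdv : ap (dg (tl l)) v = ω₄ • v := by rw [ap_tl, hl, mul_zero, zero_smul, add_zero]
    have hdh : hh (ap (dg (tl l)) w) v = ω₄ * hh w v := by
      have h := herm_ap (dg (tl l)) w v
      rw [hdv, herm_smul_right] at h
      have key : ∀ a b : K4, ω₄ ^ 2 * a = b → a = ω₄ * b := by decide +kernel
      exact key _ _ h
    rw [ap_mul (g * dg (tl 3) * g⁻¹), ap_conj_tl, ← hv, hdh, ap_mul (dg (tl l)), ap_conj_tl, ← hv,
      ap_add, ap_smul, ap_smul, hdv, smul_smul _ ω₄ v]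
    congr 2
    ring

theorem center_bot : Subgroup.center SU4 = ⊥ := by
  rw [← Subgroup.card_eq_one, card_center_SU hK4 (by norm_num)]
  rfl

/-- A property of the generators closed under products holds everywhere. -/
theorem closure_conj_tl (M : Subgroup SU4) (h : ∀ g : SU4, g * dg (tl 3) * g⁻¹ ∈ M) : M = ⊤ := by
  have hle : Subgroup.normalClosure ({dg (tl 3)} : Set SU4) ≤ M := by
    refine (Subgroup.closure_le _).2 fun x hx => ?_
    obtain ⟨_, rfl, hc⟩ := Group.mem_conjugatesOfSet_iff.1 hx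
    obtain ⟨g, rfl⟩ := isConj_iff.1 hc
    exact h g
  refine eq_top_iff.2 (le_trans ?_ hle)
  rcases normal_le_center_or_eq_top hK4 (Or.inl (le_refl 4))
      (Subgroup.normalClosure ({dg (tl 3)} : Set SU4)) with e | e
  · rw [center_bot, le_bot_iff] at e
    have := Subgroup.subset_normalClosure (Set.mem_singleton (dg (tl 3)))
    rw [e] at this
    exact absurd (Subgroup.mem_bot.1 this) (dg_ne_one (i := 0) (by decide +kernel))
  · rw [e]

theorem normal_top {N : Subgroup SU4} [N.Normal] {x : SU4} (hx : x ∈ N) (h1 : x ≠ 1) : N = ⊤ := by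
  rcases normal_le_center_or_eq_top hK4 (Or.inl (le_refl 4)) N with e | e
  · rw [center_bot, le_bot_iff] at e
    rw [e, Subgroup.mem_bot] at hx
    exact absurd hx h1
  · exact e

theorem hom_comm {M : Type*} [CommGroup M] (f : SU4 →* M) (x : SU4) : f x = 1 := by
  have h := Abelianization.commutator_subset_ker f
  rw [commutator_eq_top hK4 (Or.inl (le_refl 4))] at h
  exact h (Subgroup.mem_top x)

end Cfsg.Agent.H49.UChar
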