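import Cfsg.Agent.H49.UChar.Rep
import Cfsg.Agent.H49.USix.Incidence

/-!
The two shapes of the representation: four planes give the natural module, three planes give a
plane fixed by the whole group.
-/

set_option autoImplicit false
set_option maxRecDepth 20000
set_option linter.unusedSectionVars false

namespace Cfsg.Agent.H49.UChar

open Cfsg Cfsg.Agent.Unitary Matrix
open Cfsg.Agent.H41.SUSix (K4 ω₄)
open Cfsg.Agent.H49.USix (W4 hh wt4 pol4)

/-- The index of a coordinate functional. -/
def kf (i : Fin 4) : Fin 13 := Fin.castLE (by norm_num) i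

theorem kf_lt (i : Fin 4) : (kf i : ℕ) < 4 := i.2

theorem kf_inj {i j : Fin 4} (h : kf i = kf j) : i = j := Fin.ext (Fin.mk.inj_iff.1 h)

theorem kf_of_lt {k : Fin 13} (h : (k : ℕ) < 4) : k = kf ⟨k, h⟩ := Fin.ext rfl

theorem add_comm_omega : ∀ f : K4 → K4, (∀ a b, f (a + b) = f a + f b) →
    (∀ a, f (f (f a)) = a) → ∀ a, f (ω₄ * a) = ω₄ * f a := by
  decide +kernel

theorem omega_span : ∀ c : K4, ∃ a b : ZMod 2,
    c = H41.LFi.iot a + H41.LFi.iot b * ω₄ := by decide +kernel

namespace Rep

variable {V : Type*} [AddCommGroup V] [Module (ZMod 2) V] [Finite V] (R : Rep V)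
include R

theorem mem_one {k : Fin 13} (h : Nat.card ↥(R.P k) = 1) {v : V} (hv : v ∈ R.P k) : v = 0 := by
  haveI := (Nat.card_eq_one_iff_unique.1 h).1
  exact congrArg Subtype.val (Subsingleton.elim (α := ↥(R.P k)) ⟨v, hv⟩ ⟨0, zero_mem _⟩)

theorem mem0_one (h : Nat.card ↥R.P0 = 1) {v : V} (hv : v ∈ R.P0) : v = 0 := by
  haveI := (Nat.card_eq_one_iff_unique.1 h).1
  exact congrArg Subtype.val (Subsingleton.elim (α := ↥R.P0) ⟨v, hv⟩ ⟨0, zero_mem _⟩)

theorem B_zero_right (u : V) : R.B u 0 = 0 := by
  have h := R.B_add_right u 0 0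
  rw [add_zero] at h
  exact left_eq_add.1 h

/-- A nonzero element of a plane: its orbit, and the form on the plane. -/
theorem plane {k : Fin 13} (hk : Nat.card ↥(R.P k) = 4) {t : T3} (ht : chi k t ≠ 0) {v : V}
    (hv : v ∈ R.P k) (hv0 : v ≠ 0) :
    (∀ x ∈ R.P k, x = 0 ∨ x = v ∨ x = R.tt t v ∨ x = R.tt (t + t) v) ∧ R.q v = 1 ∧
      R.B v (R.tt t v) = 1 ∧ R.tt t v ≠ 0 ∧ R.tt t v ≠ v := by
  classical
  have ne : R.tt t v ≠ v := fun e => hv0 (R.free_mem ht hv e)
  have n0 : ∀ s, R.tt s v ≠ 0 := fun s e => hv0 ((R.φ (dg s)).injective (e.trans (R.phi_zero _).symm))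
  have ne2 : R.tt (t + t) v ≠ R.tt t v := fun e =>
    ne ((R.φ (dg t)).injective ((R.tt_add t t v).symm.trans e))
  have ne3 : R.tt (t + t) v ≠ v := fun e => by
    have h3 := R.triple_mem ht hv
    rw [e, add_assoc, add_comm (R.tt t v) v, ← add_assoc, R.vv, zero_add] at h3
    exact n0 t h3
  have all : ∀ x ∈ R.P k, x = 0 ∨ x = v ∨ x = R.tt t v ∨ x = R.tt (t + t) v := by
    intro x hx
    by_contra hcon
    push Not at hcon
    obtain ⟨h1, h2, h3, h4⟩ := hcon
    have hsub : ({x, 0, v, R.tt t v, R.tt (t + t) v} : Finset V) ⊆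
        (Set.toFinite (R.P k : Set V)).toFinset := by
      intro y hy
      simp only [Finset.mem_insert, Finset.mem_singleton] at hy
      rw [Set.Finite.mem_toFinset]
      rcases hy with rfl | rfl | rfl | rfl | rfl
      exacts [hx, zero_mem _, hv, R.tt_mem _ hv, R.tt_mem _ hv]
    have h := Finset.card_le_card hsub
    rw [← Set.ncard_eq_toFinset_card, ← Nat.card_coe_set_eq, SetLike.coe_sort_coe, hk] at h
    rw [Finset.card_insert_of_notMem (by simp [h1, h2, h3, h4]),
      Finset.card_insert_of_notMem (by simp [Ne.symm hv0, Ne.symm (n0 t), Ne.symm (n0 (t + t))]),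
      Finset.card_insert_of_notMem (by simp [Ne.symm ne, Ne.symm ne3]),
      Finset.card_insert_of_notMem (by simp [Ne.symm ne2]), Finset.card_singleton] at h
    omega
  have hB : R.B v (R.tt t v) = 1 := by
    rcases (show ∀ a : ZMod 2, a = 0 ∨ a = 1 by decide) (R.B v (R.tt t v)) with e | e
    · exfalso
      refine hv0 (R.nondeg v fun w => ?_)
      show R.B v w = 0
      have hvv : R.B v v = 0 := by
        rw [B, R.vv, R.q_zero, zero_add]; exact ZModModule.add_self _
      have hin : ∀ x ∈ R.P k, R.B v x = 0 := by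
        intro x hx
        rcases all x hx with rfl | rfl | rfl | rfl
        · exact R.B_zero_right v
        · exact hvv
        · exact e
        · have h3 := R.triple_mem ht hv
          have : R.tt (t + t) v = v + R.tt t v := by
            rw [add_eq_zero_iff_eq_neg, ZModModule.neg_eq_self] at h3
            exact h3.symm
          rw [this, R.B_add_right, hvv, e, add_zero]
      rw [R.split w, R.B_add_right, R.B_comm v (R.pr0 w), R.B_part0 (R.pr0_mem w) hv, zero_add]
      have : ∀ S : Finset (Fin 13), R.B v (∑ l ∈ S, R.pr l w) = 0 := by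
        intro S
        induction S using Finset.induction_on with
        | empty => exact R.B_zero_right v
        | insert l S hl ih =>
          rw [Finset.sum_insert hl, R.B_add_right, ih, add_zero]
          by_cases hlk : l = k
          · subst hlk; exact hin _ (R.pr_mem _ w)
          · exact R.B_parts (Ne.symm hlk) hv (R.pr_mem l w)
      exact this _
    · exact e
  refine ⟨all, ?_, hB, n0 t, ne⟩
  have h3 := R.triple_mem ht hv
  have h2 : R.tt (t + t) v = v + R.tt t v := by
    rw [add_eq_zero_iff_eq_neg, ZModModule.neg_eq_self] at h3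
    exact h3.symm
  have e := R.q_add v (R.tt t v)
  rw [← h2, hB] at e
  simp only [tt, R.q_inv] at e
  have key : ∀ a : ZMod 2, a = a + a + 1 → a = 1 := by decide
  exact key _ e

/-- A subgroup fixing everything stable under the torus generators is everything. -/
theorem P0_fixed (h3 : ∀ k : Fin 13, 4 ≤ (k : ℕ) → (k : ℕ) < 7 → Nat.card ↥(R.P k) = 4)
    (h1 : ∀ k : Fin 13, (k : ℕ) < 4 ∨ 7 ≤ (k : ℕ) → Nat.card ↥(R.P k) = 1)
    (g : SU4) {u : V} (hu : u ∈ R.P0) : R.φ g u = u := by
  classical
  have hfix : ∀ l : Fin 4, ∀ v, R.tt (tl l) v = v → v ∈ R.P0 := by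
    intro l v hv
    have hz : ∀ k, R.pr k v = 0 := by
      intro k
      by_cases hk : (k : ℕ) < 4 ∨ 7 ≤ (k : ℕ)
      · exact R.mem_one (h1 k hk) (R.pr_mem k v)
      · have hchi : chi k (tl l) ≠ 0 := by
          obtain ⟨c4, c5, c6⟩ := chi_tl l
          obtain ⟨k, hk'⟩ := k
          push Not at hk
          obtain ⟨hk1, hk2⟩ := hk
          simp only at hk1 hk2
          interval_cases k
          exacts [c4, c5, c6]
        refine R.free_mem hchi (R.pr_mem k v) ?_
        have e : ∀ w, R.op (ff k) (R.tt (tl l) w) = R.tt (tl l) (R.op (ff k) w) := fun w => by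
          rw [op, op, R.tt_sum]
          refine Finset.sum_congr rfl fun s _ => ?_
          rw [R.tt_smul, ← R.tt_add, ← R.tt_add, add_comm]
        exact (e v).symm.trans (congrArg (R.op (ff k)) hv)
    have := R.split v
    rw [Finset.sum_eq_zero fun k _ => hz k, add_zero] at this
    rw [this]
    exact R.pr0_mem v
  let M : Subgroup SU4 :=
    { carrier := {g | ∀ u, u ∈ R.P0 ↔ R.φ g u ∈ R.P0}
      one_mem' := fun u => by rw [map_one]; exact Iff.rfl
      mul_mem' := fun {a b} ha hb u => by
        rw [map_mul, Equiv.Perm.mul_apply]; exact (hb u).trans (ha _)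
      inv_mem' := fun {a} ha u => by
        conv_lhs => rw [show u = R.φ a (R.φ a⁻¹ u) by
          rw [← Equiv.Perm.mul_apply, ← map_mul, mul_inv_cancel, map_one]; rfl]
        exact (ha _).symm }
  have hM : M = ⊤ := by
    refine closure_conj_tl M fun g => ?_
    rcases conj_tl_cases g with ⟨j, e⟩ | ⟨l, hl⟩
    · rw [e]
      intro u
      refine ⟨fun h => ?_, fun h => ?_⟩
      · show R.tt (tl j) u ∈ R.P0; rwa [R.fix0_mem _ h]
      · have e' : R.tt (tl j) u = u := (R.φ (dg (tl j))).injective (R.fix0_mem (tl j) h)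
        rw [← e']; exact h
    · intro u
      have e' : ∀ w, R.φ (g * dg (tl 3) * g⁻¹) (R.tt (tl l) w) =
          R.tt (tl l) (R.φ (g * dg (tl 3) * g⁻¹) w) := fun w => by
        rw [tt, tt, ← Equiv.Perm.mul_apply, ← map_mul, hl.eq, map_mul]
        rfl
      refine ⟨fun h => hfix l _ (by rw [← e', R.fix0_mem _ h]), fun h => hfix l _ ?_⟩
      exact (R.φ (g * dg (tl 3) * g⁻¹)).injective ((e' u).trans (R.fix0_mem _ h))
  let res : SU4 →* Equiv.Perm ↥R.P0 :=
    { toFun := fun g => (R.φ g).subtypeEquiv fun u => (show g ∈ M from hM ▸ Subgroup.mem_top g) u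
      map_one' := Equiv.ext fun u => Subtype.ext (show R.φ 1 u.1 = u.1 by rw [map_one]; rfl)
      map_mul' := fun a b => Equiv.ext fun u => Subtype.ext (show R.φ (a * b) u.1 = R.φ a (R.φ b u.1) by
        rw [map_mul]; rfl) }
  have htop : res.ker = ⊤ := normal_top (x := dg (tl 3))
    (Equiv.ext fun w => Subtype.ext (R.fix0_mem (tl 3) w.2)) (dg_ne_one (i := 0) (by decide +kernel))
  have h : res g = 1 := MonoidHom.mem_ker.1 (htop ▸ Subgroup.mem_top g)
  exact congrArg Subtype.val (Equiv.congr_fun h ⟨u, hu⟩)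

/-- Four planes: the natural module. -/
theorem natural (_h0 : Nat.card ↥R.P0 = 1)
    (h4 : ∀ k : Fin 13, (k : ℕ) < 4 → Nat.card ↥(R.P k) = 4)
    (_h1 : ∀ k : Fin 13, 4 ≤ (k : ℕ) → Nat.card ↥(R.P k) = 1) :
    ∃ ψ : W4 ≃+ V, (∀ w, R.q (ψ w) = wt4 w) ∧
      (∀ g : SU4, ∃ g' : SU4, ∀ w, R.φ g (ψ w) = ψ (ap g' w)) ∧
      ∀ g' : SU4, ∃ g : SU4, ∀ w, R.φ g (ψ w) = ψ (ap g' w) := by
  classical
  choose t ht using fun i : Fin 4 => chi_ne (kf i)
  have htn : ∀ i, chi (kf i) (t i) ≠ 0 := fun i => by rw [ht]; decide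
  have hex : ∀ i : Fin 4, ∃ v ∈ R.P (kf i), v ≠ 0 := by
    intro i
    by_contra hcon
    push Not at hcon
    have : Nat.card ↥(R.P (kf i)) = 1 := Nat.card_eq_one_iff_unique.2
      ⟨⟨fun a b => Subtype.ext ((hcon a.1 a.2).trans (hcon b.1 b.2).symm)⟩, ⟨0, zero_mem _⟩⟩
    rw [h4 _ (kf_lt i)] at this
    omega
  choose v hv hv0 using hex
  let sm : Fin 4 → K4 → V := fun i c => match c with
    | .o => 0
    | .e => v i
    | .w => R.tt (t i) (v i)
    | .v => R.tt (t i + t i) (v i)
  have sm_mem : ∀ i c, sm i c ∈ R.P (kf i) := by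
    intro i c
    cases c
    exacts [zero_mem _, hv i, R.tt_mem _ (hv i), R.tt_mem _ (hv i)]
  have tri : ∀ i, R.tt (t i + t i) (v i) = v i + R.tt (t i) (v i) := by
    intro i
    have h3 := R.triple_mem (htn i) (hv i)
    rw [add_eq_zero_iff_eq_neg, ZModModule.neg_eq_self] at h3
    exact h3.symm
  have sm_add : ∀ i a b, sm i (a + b) = sm i a + sm i b := by
    intro i a b
    have hvv := R.vv (v i)
    have htt := R.vv (R.tt (t i) (v i))
    cases a <;> cases b <;>
      first
      | exact (zero_add _).symm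
      | exact (add_zero _).symm
      | exact (R.vv _).symm
      | (show R.tt (t i + t i) (v i) = _; exact tri i)
      | (show R.tt (t i + t i) (v i) = _; exact (tri i).trans (add_comm _ _))
      | (show R.tt (t i + t i) (v i) = _ + _; rw [tri i, add_comm]; rfl)
      | (show R.tt (t i) (v i) = _ + R.tt (t i + t i) (v i); rw [tri i, ← add_assoc, hvv, zero_add])
      | (show R.tt (t i) (v i) = R.tt (t i + t i) (v i) + _; rw [tri i, add_comm, ← add_assoc, hvv, zero_add])
      | (show v i = R.tt (t i + t i) (v i) + _; rw [tri i, add_assoc, htt, add_zero])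
      | (show v i = _ + R.tt (t i + t i) (v i); rw [tri i, add_comm (v i), ← add_assoc, htt, zero_add])
  have sm_ne : ∀ i c, c ≠ 0 → sm i c ≠ 0 ∧ R.q (sm i c) = 1 := by
    intro i c hc
    obtain ⟨-, hq, -, -, -⟩ := R.plane (h4 _ (kf_lt i)) (htn i) (hv i) (hv0 i)
    have n : ∀ s, R.tt s (v i) ≠ 0 := fun s e =>
      hv0 i ((R.φ (dg s)).injective (e.trans (R.phi_zero _).symm))
    have hqs : ∀ s, R.q (R.tt s (v i)) = 1 := fun s => (R.q_inv _ _).trans hq
    cases c
    exacts [absurd rfl hc, ⟨hv0 i, hq⟩, ⟨n _, hqs _⟩, ⟨n _, hqs _⟩]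
  -- torus elements act by scalars on the planes
  have sm_t : ∀ i s c, R.tt s (sm i c) = sm i (wp (ext4 s i) * c) := by
    intro i s c
    have hpow : ∀ m : ZMod 3, ∀ c, sm i (wp m * c) =
        if m = 0 then sm i c else if m = 1 then R.tt (t i) (sm i c) else R.tt (t i + t i) (sm i c) := by
      intro m c
      have hzero : ∀ u, R.tt u (0 : V) = 0 := fun u => R.phi_zero _
      have h3 : R.tt (t i + (t i + t i)) (v i) = v i := by
        rw [show t i + (t i + t i) = 0 by rw [← add_assoc, three_t], R.tt_zero]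
      have h4' : R.tt (t i + t i + (t i + t i)) (v i) = R.tt (t i) (v i) := by
        rw [show t i + t i + (t i + t i) = t i + (t i + t i + t i) by abel, three_t, add_zero]
      fin_cases m <;> cases c <;>
        first
        | rfl
        | exact (hzero _).symm
        | exact R.tt_add (t i) (t i) (v i)
        | exact (h3.symm.trans (R.tt_add (t i) (t i + t i) (v i)))
        | (show R.tt (t i) (v i) = _; exact h4'.symm.trans (R.tt_add (t i + t i) (t i + t i) (v i)))
        | (show v i = R.tt (t i + t i) (R.tt (t i) (v i)); rw [← R.tt_add, three_t, R.tt_zero])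
    rw [hpow]
    have hx : sm i c ∈ R.P (kf i) := sm_mem i c
    have hs : chi (kf i) s = ext4 s i := chi_single i s
    have step : ∀ u : T3, chi (kf i) u = chi (kf i) s → R.tt s (sm i c) = R.tt u (sm i c) := by
      intro u hu
      conv_lhs => rw [show s = u + (s - u) by abel, R.tt_add]
      rw [R.fix_mem (t := s - u) ?_ hx]
      have := chi_add (kf i) (s - u) u
      rw [sub_add_cancel, hu] at this
      exact right_eq_add.1 this
    rcases (show ∀ a : ZMod 3, a = 0 ∨ a = 1 ∨ a = 2 by decide) (ext4 s i) with e | e | e <;> rw [e]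
    · rw [if_pos rfl]; exact R.fix_mem (hs.trans e) hx
    · rw [if_neg (by decide), if_pos rfl]; exact step _ (by rw [ht, hs, e])
    · rw [if_neg (by decide), if_neg (by decide)]
      exact step _ (by rw [chi_add, ht, hs, e]; rfl)
  let f : W4 →+ V := AddMonoidHom.mk' (fun c => ∑ i, sm i (c i)) fun a b => by
    simp only [Pi.add_apply, sm_add, Finset.sum_add_distrib]
  have f_apply : ∀ c, f c = sm 0 (c 0) + sm 1 (c 1) + sm 2 (c 2) + sm 3 (c 3) := fun c =>
    Fin.sum_univ_four fun i => sm i (c i)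
  have hpr : ∀ c i, R.pr (kf i) (f c) = sm i (c i) := by
    intro c i
    show R.op _ (∑ j, sm j (c j)) = _
    rw [show R.op (ff (kf i)) (∑ j, sm j (c j)) = ∑ j, R.pr (kf i) (sm j (c j)) from
      map_sum (AddMonoidHom.mk' (R.op (ff (kf i))) (R.op_add _)) _ _]
    rw [Finset.sum_eq_single i]
    · exact sm_mem i (c i)
    · intro j _ hj
      rw [← (show R.pr (kf j) (sm j (c j)) = sm j (c j) from sm_mem j (c j)), R.pr_pr,
        if_neg fun e => hj (kf_inj e).symm]
    · exact fun h => absurd (Finset.mem_univ i) h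
  have hinj : Function.Injective f := by
    rw [injective_iff_map_eq_zero]
    intro c hc
    funext i
    by_contra hne
    refine (sm_ne i (c i) hne).1 ?_
    rw [← hpr, hc]
    exact R.op_zero' _
  have hcard : Nat.card W4 = Nat.card V := by
    rw [R.card, Nat.card_eq_fintype_card, Fintype.card_fun]; rfl
  let ψ : W4 ≃+ V := AddEquiv.ofBijective f ((Nat.bijective_iff_injective_and_card f).2 ⟨hinj, hcard⟩)
  have ψ_apply : ∀ c, ψ c = f c := fun c => rfl
  have hq : ∀ w, R.q (ψ w) = wt4 w := by
    intro w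
    have b : ∀ i j : Fin 4, i ≠ j → R.B (sm i (w i)) (sm j (w j)) = 0 := fun i j h =>
      R.B_parts (fun e => h (kf_inj e)) (sm_mem _ _) (sm_mem _ _)
    have qs : ∀ i, R.q (sm i (w i)) = if w i = 0 then 0 else 1 := fun i => by
      split_ifs with h
      · rw [h]; exact R.q_zero
      · exact (sm_ne i (w i) h).2
    rw [ψ_apply, f_apply, R.q_add, R.q_add, R.q_add, R.B_add_left, R.B_add_left, R.B_add_left,
      b 0 1 (by decide), b 0 2 (by decide), b 1 2 (by decide), b 0 3 (by decide), b 1 3 (by decide),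
      b 2 3 (by decide), qs, qs, qs, qs, wt4, Fin.sum_univ_four]
    simp only [add_zero]
  -- the transported representation
  let Φ : SU4 →* Equiv.Perm W4 :=
    { toFun := fun g => (ψ.toEquiv.trans (R.φ g)).trans ψ.symm.toEquiv
      map_one' := Equiv.ext fun w => by simp [map_one]
      map_mul' := fun a b => Equiv.ext fun w => by simp [map_mul, Equiv.Perm.mul_apply] }
  have hΦ : ∀ g w, ψ (Φ g w) = R.φ g (ψ w) := fun g w => ψ.apply_symm_apply _
  have Φadd : ∀ g a b, Φ g (a + b) = Φ g a + Φ g b := fun g a b => ψ.injective (by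
    rw [hΦ, map_add ψ a b, R.add, map_add ψ (Φ g a), hΦ, hΦ])
  have Φt : ∀ s w, Φ (dg s) w = ap (dg s) w := fun s w => ψ.injective (by
    rw [hΦ]
    show R.tt s (f w) = f _
    rw [f_apply, f_apply, R.tt_map_add, R.tt_map_add, R.tt_map_add, sm_t, sm_t, sm_t, sm_t,
      ap_dg, ap_dg, ap_dg, ap_dg])
  let M : Subgroup SU4 :=
    { carrier := {g | ∀ w, Φ g (ω₄ • w) = ω₄ • Φ g w}
      one_mem' := fun w => by simp
      mul_mem' := fun {a b} ha hb w => by
        rw [map_mul, Equiv.Perm.mul_apply, Equiv.Perm.mul_apply, hb, ha]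
      inv_mem' := fun {a} ha w => by
        rw [map_inv]
        apply (Φ a).injective
        rw [ha, Equiv.Perm.inv_def, Equiv.apply_symm_apply, Equiv.apply_symm_apply] }
  have hM : M = ⊤ := by
    refine closure_conj_tl M fun g => ?_
    rcases conj_tl_cases g with ⟨j, e⟩ | ⟨l, hl⟩
    · rw [e]; intro w; rw [Φt, Φt, ap_smul]
    · set h := g * dg (tl 3) * g⁻¹ with hh'
      have hh3 : h * h * h = 1 := by
        rw [hh', show g * dg (tl 3) * g⁻¹ * (g * dg (tl 3) * g⁻¹) * (g * dg (tl 3) * g⁻¹) =
          g * (dg (tl 3) * dg (tl 3) * dg (tl 3)) * g⁻¹ by group, ← dg_add, ← dg_add, three_t,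
          dg_zero]
        group
      have hc : ∀ w, Φ h (ap (dg (tl l)) w) = ap (dg (tl l)) (Φ h w) := fun w => by
        rw [← Φt, ← Φt, ← Equiv.Perm.mul_apply, ← map_mul, hl.eq, map_mul, Equiv.Perm.mul_apply]
      have e1 : ∀ w, w l = 0 → ap (dg (tl l)) w = ω₄ • w := fun w hw => by
        rw [ap_tl, hw, mul_zero, zero_smul, add_zero]
      have e2 : ∀ a : K4, ap (dg (tl l)) (Pi.single l a) = Pi.single l a := fun a => by
        funext i
        rw [ap_dg, ext4_tl]
        by_cases h : i = l
        · subst h; rw [if_pos rfl, Pi.single_eq_same]; exact one_mul a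
        · rw [if_neg h, Pi.single_eq_of_ne h, mul_zero]
      have fixl : ∀ u : W4, ap (dg (tl l)) u = u → u = Pi.single l (u l) := fun u hu => by
        funext i
        by_cases h : i = l
        · subst h; rw [Pi.single_eq_same]
        · rw [Pi.single_eq_of_ne h]
          have := congrFun hu i
          rw [ap_dg, ext4_tl, if_neg h] at this
          have key : ∀ a : K4, wp 1 * a = a → a = 0 := by decide +kernel
          exact key _ this
      intro w
      have hsplit : w = (w + Pi.single l (w l)) + Pi.single l (w l) := by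
        rw [add_assoc, USix.vec_add_self, add_zero]
      set w' := w + Pi.single l (w l) with hw'
      have hw0 : w' l = 0 := by rw [hw', Pi.add_apply, Pi.single_eq_same, USix.k4_add_self]
      have p1 : Φ h (ω₄ • w') = ω₄ • Φ h w' := by
        have hlc : (Φ h w') l = 0 := by
          -- every vector with zero coordinate is a commutator
          have hall : ∀ u : W4, u l = 0 → (Φ h (ap (dg (tl l)) u + u)) l = 0 := fun u _ => by
            rw [Φadd, hc, Pi.add_apply, ap_dg, ext4_tl, if_pos rfl]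
            have key : ∀ a : K4, wp 0 * a + a = 0 := by decide +kernel
            exact key _
          have := hall (ω₄ • w') (by rw [Pi.smul_apply, hw0, smul_zero])
          rwa [e1 _ (by rw [Pi.smul_apply, hw0, smul_zero]), smul_smul, ← add_smul,
            show ω₄ * ω₄ + ω₄ = (1 : K4) by decide +kernel, one_smul] at this
        rw [← e1 w' hw0, hc, e1 _ hlc]
      have p2 : Φ h (ω₄ • Pi.single l (w l)) = ω₄ • Φ h (Pi.single l (w l)) := by
        have himg : ∀ a : K4, Φ h (Pi.single l a) = Pi.single l ((Φ h (Pi.single l a)) l) :=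
          fun a => fixl _ (by rw [← hc, e2])
        let F : K4 → K4 := fun a => (Φ h (Pi.single l a)) l
        have hF : ∀ a, Φ h (Pi.single l a) = Pi.single l (F a) := himg
        have hk := add_comm_omega F (fun a b => by
            show (Φ h (Pi.single l (a + b))) l = _
            rw [Pi.single_add, Φadd]; rfl)
          (fun a => by
            apply Pi.single_injective (M := fun _ : Fin 4 => K4) l
            rw [← hF, ← hF, ← hF, ← Equiv.Perm.mul_apply, ← map_mul, ← Equiv.Perm.mul_apply,
              ← map_mul, hh3, map_one]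
            rfl) (w l)
        rw [← Pi.single_smul, smul_eq_mul, hF, hF, hk, ← Pi.single_smul, smul_eq_mul]
      rw [hsplit, smul_add, Φadd, p1, p2, ← smul_add, ← Φadd]
  have Φw : ∀ g w, Φ g (ω₄ • w) = ω₄ • Φ g w := fun g => show g ∈ M from hM ▸ Subgroup.mem_top g
  have Φsm : ∀ g (c : K4) w, Φ g (c • w) = c • Φ g w := by
    intro g c w
    have hiot : ∀ a : ZMod 2, ∀ u, Φ g (H41.LFi.iot a • u) = H41.LFi.iot a • Φ g u := by
      intro a u
      rcases (show ∀ a : ZMod 2, a = 0 ∨ a = 1 by decide) a with rfl | rfl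
      · have h0 := Φadd g 0 0
        rw [add_zero] at h0
        rw [show H41.LFi.iot (0 : ZMod 2) = (0 : K4) by decide, zero_smul, zero_smul,
          left_eq_add.1 h0]
      · rw [show H41.LFi.iot (1 : ZMod 2) = (1 : K4) by decide, one_smul, one_smul]
    obtain ⟨a, b, rfl⟩ := omega_span c
    rw [add_smul, Φadd, hiot, mul_smul, hiot, Φw, add_smul, mul_smul]
  have Φwt : ∀ g w, wt4 (Φ g w) = wt4 w := fun g w => by rw [← hq, hΦ, R.q_inv, hq]
  have Φhh : ∀ g a b, hh (Φ g a) (Φ g b) = hh a b := by
    intro g a b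
    have hp : ∀ u w, pol4 (Φ g u) (Φ g w) = pol4 u w := fun u w => by
      simp only [pol4, ← Φadd, Φwt]
    have key : ∀ x y : K4, (∀ c : K4, H41.LFi.trK (c * x) = H41.LFi.trK (c * y)) → x = y := by
      decide +kernel
    refine key _ _ fun c => ?_
    rw [← USix.hh_smul_left, ← USix.hh_smul_left, ← USix.pol4_eq, ← USix.pol4_eq, ← Φsm, hp]
  let L : SU4 → W4 →ₗ[K4] W4 := fun g => { toFun := Φ g, map_add' := Φadd g, map_smul' := Φsm g }
  have hLv : ∀ g w, LinearMap.toMatrix' (L g) *ᵥ w = Φ g w := fun g w =>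
    LinearMap.toMatrix'_mulVec (L g) w
  let D : SU4 →* K4 :=
    { toFun := fun g => (LinearMap.toMatrix' (L g)).det
      map_one' := by
        show (LinearMap.toMatrix' (L 1)).det = 1
        rw [show L 1 = LinearMap.id from LinearMap.ext fun w => by
          show Φ 1 w = w; rw [map_one]; rfl, LinearMap.toMatrix'_id, det_one]
      map_mul' := fun a b => by
        show (LinearMap.toMatrix' (L (a * b))).det = _
        rw [show L (a * b) = (L a).comp (L b) from LinearMap.ext fun w => by
          show Φ (a * b) w = Φ a (Φ b w); rw [map_mul]; rfl, LinearMap.toMatrix'_comp, det_mul] }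
  have hdet : ∀ g, D g = 1 := fun g => congrArg Units.val (hom_comm D.toHomUnits g)
  have hpres : ∀ g, Preserves 2 (LinearMap.toMatrix' (L g)) := fun g x y => by
    rw [hLv, hLv]; exact Φhh g x y
  let T : SU4 → SU4 := fun g => toSU (hpres g) (hdet g)
  have hT : ∀ g w, ap (T g) w = Φ g w := hLv
  have hTinj : Function.Injective T := by
    intro a b e
    apply R.inj
    ext x
    obtain ⟨w, rfl⟩ := ψ.surjective x
    rw [← hΦ, ← hΦ, ← hT, ← hT, e]
  have hTs : Function.Surjective T := Finite.injective_iff_surjective.1 hTinj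
  refine ⟨ψ, hq, fun g => ⟨T g, fun w => by rw [hT, hΦ]⟩, fun g' => ?_⟩
  obtain ⟨g, rfl⟩ := hTs g'
  exact ⟨g, fun w => by rw [hT, hΦ]⟩

end Rep

end Cfsg.Agent.H49.UChar
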