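import Cfsg.Agent.H49.UChar.Stab
import Cfsg.Agent.H49.UChar.Invol
import Cfsg.Agent.H92.Pair

/-!
No conjugate of `z` other than `z` lies in the core: otherwise the two cores would give dual
modules for the centraliser of the pair, and these differ.
-/

set_option autoImplicit false
set_option maxRecDepth 20000
set_option linter.unusedSectionVars false

namespace Cfsg.Agent.H49.UChar

open Cfsg
open Cfsg.Agent.H41.SUSix (K4)
open Cfsg.Agent.H92.ExtraForm (zp)
open Cfsg.Agent.H49.USix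
open H76.LocallyS3 (cj cj_cj cj_injective)

/-- Two transvections on opposite sides do not commute. -/
theorem move_not_ort {k l : Fin 45} (h : ¬ Ort l k) : ¬ Ort l (act (tp k) l) := by
  intro ho
  obtain ⟨c, -, e⟩ := act_spec (tp_iso k) l
  have h1 := congrArg (fun u => hh (pv l) u) e
  simp only [tp_apply, hh_add_right, hh_smul_right, pv_iso, ort_iff.1 ho, mul_zero, zero_add,
    k4_cube _ (fun e => h (ort_iff.2 e))] at h1
  exact one_ne_zero h1

theorem dif_smul_base {k : Fin 45} (h : Ort i₀ k) (d : K4) : tp k (d • pv i₀) = d • pv i₀ := by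
  rw [tp_apply, hh_smul_left, ort_iff.1 h, mul_zero, zero_smul, add_zero]

section Core

variable {K : Type*} [Group K] [Finite K] {z : K} {Q : Subgroup K} (S : Core z Q)

include S in
theorem card_core : Nat.card ↥Q = 512 := by
  classical
  let f : ↥Q → W4 := fun q => S.π q
  have hf : ∀ v : W4, Nat.card {q : ↥Q // f q = v} = 2 := by
    intro v
    obtain ⟨q, hq, rfl⟩ := S.π_surj v
    rw [Nat.card_eq_two_iff' (⟨⟨q, hq⟩, rfl⟩ : {r : ↥Q // f r = S.π q})]
    refine ⟨⟨⟨z * q, mul_mem S.hzQ hq⟩, S.π_zmul hq⟩, fun e => S.z_ne ?_, ?_⟩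
    · exact mul_eq_right.1 (congrArg (fun r : {r : ↥Q // f r = S.π q} => ((r.1 : ↥Q) : K)) e)
    · rintro ⟨⟨r, hr⟩, hrq⟩ hne
      rcases S.π_eq hq hr hrq.symm with e | e
      · exact absurd (Subtype.ext (Subtype.ext e)) hne
      · exact Subtype.ext (Subtype.ext e)
  rw [← Nat.card_congr (Equiv.sigmaFiberEquiv f), Nat.card_sigma,
    Finset.sum_congr rfl fun v _ => hf v, Finset.sum_const, Finset.card_univ, Fintype.card_fun,
    Fintype.card_fin, H41.SUSix.hK]
  norm_num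

include S in
theorem core_sq {q : K} (hq : q ∈ Q) : q * q = 1 ∨ q * q = z := by
  rw [S.sq q hq]
  unfold zp
  split_ifs <;> simp

variable (hE : Cfsg.IsExtraspecial 2 ↥Q)
include hE

include S in
/-- The setting of a pair. -/
theorem pair_setting {g : K} (hy : cj g z ∈ Q) (hne : cj g z ≠ z) : H92.PairSetting Q z g := by
  have hzZ : z ∈ (Subgroup.center ↥Q).map Q.subtype := by
    rw [H92.center_map_eq_inf]
    exact ⟨S.hzQ, Subgroup.mem_centralizer_iff.2 fun q hq => S.le q hq⟩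
  refine ⟨hE, le_antisymm (fun c hc => ?_) H92.center_map_le_centralizer, fun c hc => ?_, hzZ, S.z_ne,
    hy, hne, ?_⟩
  · rw [H92.center_map_eq_inf]
    refine ⟨?_, hc⟩
    have hcz : c * z = z * c := (Subgroup.mem_centralizer_iff.1 hc z S.hzQ).symm
    refine (S.ρ_ker c hcz).1 (Equiv.ext fun w => ?_)
    obtain ⟨q, hq, rfl⟩ := S.π_surj w
    rw [← S.π_cj hcz hq, cj_fix_iff.2 (Subgroup.mem_centralizer_iff.1 hc q hq).symm]
    rfl
  · have hcz : c * z = z * c := (Subgroup.mem_centralizer_iff.1 hc z hzZ).symm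
    refine Subgroup.mem_normalizer_iff.2 fun q => ⟨fun hq => S.norm c hcz q hq, fun hq => ?_⟩
    have h := S.norm _ (S.cz_inv hcz) _ hq
    rwa [show c⁻¹ * (c * q * c⁻¹) * c⁻¹⁻¹ = q by group] at h
  · rw [card_core S]; norm_num

include S in
theorem no_conj_base {g : K} (hy : cj g z ∈ Q) (hne : cj g z ≠ z) {d : K4} (hd : d ≠ 0)
    (hπ : S.π (cj g z) = d • pv i₀) : False := by
  classical
  have hp := pair_setting S hE hy hne
  set y := cj g z with hydef
  have hyg : g * z * g⁻¹ = y := rfl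
  set R := Q.map (MulAut.conj g).toMonoidHom with hR
  have hzR : z ∈ R := hp.z_mem_R
  have hy2 : y * y = 1 := cj_self_sq S.z_sq
  have hyR : y ∈ R := ⟨z, S.hzQ, rfl⟩
  have hRy : ∀ {r : K}, r ∈ R → r * y = y * r := fun hr => hp.R_comm hr
  have normR : ∀ {c : K}, c * y = y * c → ∀ {r : K}, r ∈ R → cj c r ∈ R := fun hc _ hr => hp.R_norm hc hr
  have sqR : ∀ {r : K}, r ∈ R → r * r = 1 ∨ r * r = y := by
    rintro r ⟨q, hq, rfl⟩
    rw [← map_mul]
    rcases core_sq S hq with e | e <;> rw [e]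
    · exact Or.inl (map_one _)
    · exact Or.inr rfl
  -- the centraliser of the pair induces the transvections beside the point
  have hN : ∀ k, Ort i₀ k → ∃ c, c * z = z * c ∧ c * y = y * c ∧ S.ρ c = tp k := by
    intro k hk
    obtain ⟨c, hc, hρ⟩ := S.exists_tp k
    have e : S.π (cj c y) = S.π y := by rw [S.π_cj hc hy, hρ, hπ, dif_smul_base hk]
    rcases S.π_eq hy (S.cj_mem hc hy) e.symm with e | e
    · exact ⟨c, hc, cj_fix_iff.1 e, hρ⟩
    · obtain ⟨x, hx, hxy⟩ := hp.exists_x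
      rw [hyg] at hxy
      refine ⟨x * c, S.cz_mul (S.cz_Q hx) hc, cj_fix_iff.1 ?_,
        by rw [S.ρ_mul _ _ (S.cz_Q hx) hc, S.ρ_of_Q hx, one_mul, hρ]⟩
      rw [← cj_cj, e, cj_mul', S.cj_z (S.cz_Q hx), show cj x y = z * y from hxy, ← mul_assoc, S.z_sq,
        one_mul]
  -- the intersection of the cores
  set L := Q ⊓ R with hL
  have sqL : ∀ {q : K}, q ∈ L → q * q = 1 := by
    intro q hq
    rcases core_sq S hq.1 with e | e
    · exact e
    · rcases sqR hq.2 with e' | e'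
      · exact e'
      · exact absurd (e'.symm.trans e) hne
  have commL : ∀ {a b : K}, a ∈ L → b ∈ L → a * b = b * a := by
    intro a b ha hb
    calc a * b = (a * b)⁻¹ := (inv_eq_of_mul_eq_one_right (sqL (mul_mem ha hb))).symm
      _ = b * a := by
        rw [_root_.mul_inv_rev, inv_eq_of_mul_eq_one_right (sqL ha),
          inv_eq_of_mul_eq_one_right (sqL hb)]
  let W : AddSubgroup W4 :=
    { carrier := {w | ∃ q ∈ L, S.π q = w}
      zero_mem' := ⟨1, one_mem _, S.π_one⟩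
      add_mem' := by
        rintro _ _ ⟨a, ha, rfl⟩ ⟨b, hb, rfl⟩
        exact ⟨a * b, mul_mem ha hb, S.π_mul a ha.1 b hb.1⟩
      neg_mem' := by
        rintro _ ⟨a, ha, rfl⟩
        exact ⟨a, ha, (neg_eq_of_add_eq_zero_left (vec_add_self _)).symm⟩ }
  have polW : ∀ u ∈ W, ∀ v ∈ W, pol4 u v = 0 := by
    rintro _ ⟨a, ha, rfl⟩ _ ⟨b, hb, rfl⟩
    exact (S.comm_iff ha.1 hb.1).1 (commL ha hb)
  have wtW : ∀ u ∈ W, wt4 u = 0 := by
    rintro _ ⟨a, ha, rfl⟩
    exact (S.sq_iff ha.1).1 (sqL ha)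
  have difW : ∀ {k}, Ort i₀ k → ∀ {s}, s ∈ W → dif k s ∈ W := by
    rintro k hk _ ⟨q, hq, rfl⟩
    obtain ⟨c, hcz, hcy, hρ⟩ := hN k hk
    rw [dif_eq]
    refine W.add_mem ⟨q, hq, rfl⟩ ⟨cj c q, ⟨S.cj_mem hcz hq.1, normR hcy hq.2⟩, ?_⟩
    rw [S.π_cj hcz hq.1, hρ]
  have perpW : ∀ s ∈ W, hh s (pv i₀) = 0 := by
    intro s hs
    by_contra hh0
    obtain ⟨k, l, hk, hl, e⟩ := stab_nonperp hh0
    rw [polW _ (difW hk hs) _ (difW hl hs)] at e
    exact zero_ne_one e
  have hW16 : Nat.card ↥W ≤ 16 := iso_bound perpW polW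
  have hLW : Nat.card ↥L ≤ 2 * Nat.card ↥W := by
    choose lift hlQ hl using S.π_surj
    refine le_trans (Nat.card_le_card_of_injective
      (fun q : ↥L => ((⟨S.π q, q, q.2, rfl⟩ : ↥W), decide ((q : K) = lift (S.π q)))) fun a b e => ?_) ?_
    · simp only [Prod.mk.injEq, Subtype.mk.injEq, decide_eq_decide] at e
      obtain ⟨e1, e2⟩ := e
      rw [← e1] at e2
      have ha := S.π_eq (hlQ (S.π a)) a.2.1 (hl _)
      have hb := S.π_eq (hlQ (S.π a)) b.2.1 ((hl _).trans e1)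
      refine Subtype.ext ?_
      rcases ha with ha | ha
      · exact ha.trans (e2.1 ha).symm
      · rcases hb with hb | hb
        · exact (e2.2 hb).trans hb.symm
        · exact ha.trans hb.symm
    · rw [Nat.card_prod, Nat.card_eq_fintype_card (α := Bool), Fintype.card_bool, mul_comm]
  -- the image of the other core
  set M := R ⊓ Subgroup.centralizer ({z} : Set K) with hM
  have hMz : ∀ {r : K}, r ∈ M → r * z = z * r := fun hr => Subgroup.mem_centralizer_singleton_iff.1 hr.2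
  have hM256 : 256 ≤ Nat.card ↥M := by
    have h512 : Nat.card ↥R = 512 := by
      rw [hR, ← Nat.card_congr (Q.equivMapOfInjective _ (MulAut.conj g).injective).toEquiv, card_core S]
    have out : ∀ {r : K}, r ∈ R → r ∉ M → cj r z = y * z := by
      intro r hr hn
      rcases hp.R_commutator hr hzR with e | e
      · exfalso
        rw [mul_inv_eq_one, mul_inv_eq_iff_eq_mul] at e
        exact hn ⟨hr, Subgroup.mem_centralizer_singleton_iff.2 e⟩
      · rw [mul_inv_eq_iff_eq_mul] at e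
        exact e
    suffices h : Nat.card ↥R ≤ Nat.card ↥M * 2 by omega
    by_cases hall : ∀ r ∈ R, r ∈ M
    · refine le_trans (Nat.card_le_card_of_injective (fun r : ↥R => (⟨r.1, hall r.1 r.2⟩ : ↥M))
        fun a b e => Subtype.ext (congrArg Subtype.val e :)) (Nat.le_mul_of_pos_right _ (by norm_num))
    · push Not at hall
      obtain ⟨r₁, hr₁, hn₁⟩ := hall
      have hmem : ∀ r : ↥R, r.1 ∉ M → r₁⁻¹ * r.1 ∈ M := fun r hn => by
        refine Subgroup.mem_inf.2 ⟨R.mul_mem (R.inv_mem hr₁) r.2,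
          Subgroup.mem_centralizer_singleton_iff.2 (cj_fix_iff.1 ?_)⟩
        rw [← cj_cj, out r.2 hn, ← out hr₁ hn₁, cj_inv_cj']
      rw [mul_comm]
      refine le_trans (Nat.card_le_card_of_injective (fun r : ↥R =>
        if h : r.1 ∈ M then (true, (⟨r.1, h⟩ : ↥M)) else (false, ⟨r₁⁻¹ * r.1, hmem r h⟩)) fun a b e => ?_) ?_
      · dsimp only at e
        split_ifs at e <;> simp at e
        · exact e
        · exact e
      · rw [Nat.card_prod, Nat.card_eq_fintype_card (α := Bool), Fintype.card_bool]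
  let ψ : ↥M →* Equiv.Perm W4 :=
    MonoidHom.mk' (fun r => S.ρ r) fun a b => S.ρ_mul _ _ (hMz a.2) (hMz b.2)
  set E := ψ.range with hEdef
  have hEiso : ∀ f ∈ E, Iso f := by rintro _ ⟨r, rfl⟩; exact S.ρ_iso _ (hMz r.2)
  have hE2 : ∀ f ∈ E, f * f = 1 := by
    rintro _ ⟨r, rfl⟩
    rw [← map_mul]
    show S.ρ (r.1 * r.1) = 1
    rcases sqR r.2.1 with e | e <;> rw [e]
    exacts [S.ρ_one, S.ρ_of_Q hy]
  have hEc : ∀ a ∈ E, ∀ b ∈ E, a * b = b * a := by
    intro a ha b hb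
    calc a * b = (a * b)⁻¹ := (inv_eq_of_mul_eq_one_right (hE2 _ (mul_mem ha hb))).symm
      _ = b * a := by
        rw [_root_.mul_inv_rev, inv_eq_of_mul_eq_one_right (hE2 a ha),
          inv_eq_of_mul_eq_one_right (hE2 b hb)]
  have hker : Nat.card ↥ψ.ker ≤ Nat.card ↥L := Nat.card_le_card_of_injective
    (fun r : ↥ψ.ker => (⟨r.1.1, (S.ρ_ker _ (hMz r.1.2)).1 r.2, r.1.2.1⟩ : ↥L))
    fun a b e => Subtype.ext (Subtype.ext (congrArg Subtype.val e :))
  have hprod : Nat.card ↥ψ.ker * Nat.card ↥E = Nat.card ↥M := by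
    rw [← Subgroup.card_mul_index ψ.ker, Subgroup.index_ker]
  have hE16 : Nat.card ↥E ≤ 16 := elem_le hEiso hE2 hEc
  have hE8 : 8 ≤ Nat.card ↥E := by
    have := Nat.mul_le_mul (le_trans hker (le_trans hLW (Nat.mul_le_mul le_rfl hW16))) (le_refl (Nat.card ↥E))
    omega
  have hW8 : 8 ≤ Nat.card ↥W := by
    have := Nat.mul_le_mul hker hE16
    omega
  have hEfix : ∀ f ∈ E, f (pv i₀) = pv i₀ := by
    rintro _ ⟨r, rfl⟩
    show S.ρ r.1 (pv i₀) = pv i₀
    have e := S.π_cj (hMz r.2) hy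
    rw [cj_fix_iff.2 (hRy r.2.1), hπ, (S.ρ_iso _ (hMz r.2)).smul] at e
    exact (smul_right_injective W4 hd e).symm
  have hEn : ∀ k, Ort i₀ k → ∀ f ∈ E, tp k * f * (tp k)⁻¹ ∈ E := by
    rintro k hk _ ⟨r, rfl⟩
    obtain ⟨c, hcz, hcy, hρ⟩ := hN k hk
    exact ⟨⟨cj c r.1, normR hcy r.2.1, Subgroup.mem_centralizer_singleton_iff.2 (S.cz_cj hcz (hMz r.2))⟩,
      by show S.ρ (cj c r.1) = _; rw [S.ρ_cj hcz (hMz r.2), hρ]; rfl⟩
  -- it contains the transvection of the point
  have htp : tp i₀ ∈ E := by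
    obtain ⟨f, hf, hf1⟩ : ∃ f ∈ E, f ≠ 1 := by
      by_contra hall
      push Not at hall
      have : Nat.card ↥E ≤ 1 := Finite.card_le_one_iff_subsingleton.2
        ⟨fun a b => Subtype.ext ((hall a.1 a.2).trans (hall b.1 b.2).symm)⟩
      omega
    have hfix := hEfix f hf
    rcases invol_cases (hEiso f hf) (hE2 f hf) with e | ⟨l, e⟩ | ⟨a, b, hab, hneab, e⟩
    · exact absurd e hf1
    · subst e
      rw [tp_apply, add_eq_left] at hfix
      have hl : Ort i₀ l := ort_iff.2 ((smul_eq_zero.1 hfix).resolve_right (pv_ne _))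
      by_cases hli : l = i₀
      · rwa [← hli]
      · obtain ⟨k, hk, hkl⟩ := exists_sep (Ne.symm hli)
        have h := hEc _ hf _ (hEn k hk _ hf)
        rw [conj_tp (tp_iso k)] at h
        exact absurd (tp_commute_iff.1 h) (move_not_ort hkl)
    · subst e
      have hcab : Commute (tp a) (tp b) := tp_commute_iff.2 hab
      rw [Equiv.Perm.mul_apply, tp_apply, tp_apply, hh_add_left, hh_smul_left,
        ort_iff.1 (ort_symm hab), mul_zero, add_zero, add_assoc, add_eq_left] at hfix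
      obtain ⟨hb', ha'⟩ := span_indep hneab.symm (a' := 0) (b' := 0) (hfix.trans (by simp))
      have ha : Ort i₀ a := ort_iff.2 ha'
      have hb : Ort i₀ b := ort_iff.2 hb'
      have side : ∀ b, Ort i₀ b → b ≠ i₀ → tp i₀ * tp b ∈ E → False := by
        intro b hb hbi hmem
        obtain ⟨k, hk, hkb⟩ := exists_sep (Ne.symm hbi)
        have h := hEc _ hmem _ (hEn k hk _ hmem)
        have hk0 : act (tp k) i₀ = i₀ := act_eq (tp_iso k) (c := 1)
          (by rw [one_smul, tp_apply, ort_iff.1 hk, zero_smul, add_zero])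
        have ec : tp k * (tp i₀ * tp b) * (tp k)⁻¹ = tp i₀ * tp (act (tp k) b) := by
          conv_rhs => rw [← conj_tp (tp_iso k), ← hk0, ← conj_tp (tp_iso k)]
          group
        rw [ec] at h
        have hb2 : Ort i₀ (act (tp k) b) := by
          have := (ort_act (tp_iso k) (i := i₀) (j := b)).2 hb
          rwa [hk0] at this
        refine move_not_ort hkb (tp_commute_iff.1 ?_)
        have c1 : tp b * tp i₀ = tp i₀ * tp b := (tp_commute_iff.2 hb).eq.symm
        have c2 : tp (act (tp k) b) * tp i₀ = tp i₀ * tp (act (tp k) b) := (tp_commute_iff.2 hb2).eq.symm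
        have l1 : tp i₀ * tp b * (tp i₀ * tp (act (tp k) b)) = tp b * tp (act (tp k) b) := by
          rw [← mul_assoc, mul_assoc (tp i₀), c1, ← mul_assoc, tp_sq, one_mul]
        have l2 : tp i₀ * tp (act (tp k) b) * (tp i₀ * tp b) = tp (act (tp k) b) * tp b := by
          rw [← mul_assoc, mul_assoc (tp i₀), c2, ← mul_assoc, tp_sq, one_mul]
        exact l1.symm.trans (h.trans l2)
      by_cases hai : a = i₀
      · subst hai; exact (side b hb hneab.symm hf).elim
      by_cases hbi : b = i₀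
      · subst hbi; exact (side a ha hneab (hcab.eq ▸ hf)).elim
      obtain ⟨k, l, hk, hl, h⟩ := pair_central ha hb hab hneab hai hbi
      have hconj : (tp k * tp l) * (tp a * tp b) * (tp k * tp l)⁻¹ ∈ E := by
        have h1 := hEn k hk _ (hEn l hl _ hf)
        convert h1 using 1
        group
      rcases h with h | h
      · exact absurd (hEc _ hf _ hconj) h
      · exact h ▸ mul_mem hf hconj
  obtain ⟨t, ht⟩ := htp
  have htρ : S.ρ t.1 = tp i₀ := ht
  -- every multiple of the point lies in the image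
  have hpt : ∀ c : K4, c • pv i₀ ∈ W := by
    obtain ⟨s, hs, hsne⟩ : ∃ s ∈ W, ∀ c : K4, s ≠ c • pv i₀ := by
      by_contra hall
      push Not at hall
      have : Nat.card ↥W ≤ Nat.card K4 := Nat.card_le_card_of_injective
        (fun v : ↥W => (hall v.1 v.2).choose) fun v w e => Subtype.ext (by
          rw [(hall v.1 v.2).choose_spec, (hall w.1 w.2).choose_spec]
          exact congrArg (· • pv i₀) e)
      rw [Nat.card_eq_fintype_card (α := K4), H41.SUSix.hK] at this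
      omega
    intro c
    obtain ⟨k, l, hk, hl, e⟩ := stab_span (perpW s hs) (wtW s hs) hsne c
    exact e ▸ W.add_mem (difW hk hs) (difW hl hs)
  -- the swap
  have toQ : ∀ {κ : K}, cj κ y = z → ∀ {r : K}, r ∈ R → cj κ r ∈ Q := by
    rintro κ hκ _ ⟨q, hq, rfl⟩
    show cj κ (cj g q) ∈ Q
    rw [cj_cj]
    refine S.cj_mem (cj_fix_iff.1 ?_) hq
    rw [← cj_cj, ← hydef, hκ]
  have toR : ∀ {κ : K}, cj κ z = y → ∀ {q : K}, q ∈ Q → cj κ q ∈ R := by
    intro κ hκ q hq
    refine H92.PairSetting.mem_R.2 ?_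
    have h := S.cj_mem (c := g⁻¹ * κ) (cj_fix_iff.1 (by
      rw [← cj_cj, hκ, hydef, cj_inv_cj'])) hq
    rw [← cj_cj] at h
    rwa [cj, inv_inv] at h
  obtain ⟨κ, hκz, hκy⟩ := hp.exists_swap
  replace hκz : cj κ z = y := hκz
  replace hκy : cj κ y = z := hκy
  set q := cj κ t.1 with hqdef
  have hqQ : q ∈ Q := toQ hκy t.2.1
  have hκy' : cj κ⁻¹ y = z := by rw [← hκz, cj_inv_cj']
  have hκz' : cj κ⁻¹ z = y := by rw [← hκy, cj_inv_cj']
  have hqR : q ∉ R := by
    intro hqR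
    have h := toQ hκy' hqR
    rw [hqdef, cj_inv_cj'] at h
    exact tp_ne_one i₀ (htρ.symm.trans (S.ρ_of_Q h))
  have hdifq : ∀ {k}, Ort i₀ k → dif k (S.π q) ∈ W := by
    intro k hk
    obtain ⟨c, hcz, hcy, hρ⟩ := hN k hk
    set c' := cj κ⁻¹ c with hc'
    have c'z : c' * z = z * c' := by
      have h := congrArg (cj κ⁻¹) hcy
      rwa [cj_mul' κ⁻¹ c y, cj_mul' κ⁻¹ y c, hκy'] at h
    have c'y : c' * y = y * c' := by
      have h := congrArg (cj κ⁻¹) hcz
      rwa [cj_mul' κ⁻¹ c z, cj_mul' κ⁻¹ z c, hκz'] at h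
    have hfix : S.ρ c' (pv i₀) = pv i₀ := by
      have e := S.π_cj c'z hy
      rw [cj_fix_iff.2 c'y, hπ, (S.ρ_iso _ c'z).smul] at e
      exact (smul_right_injective W4 hd e).symm
    set u := cj c' t.1 * (t.1)⁻¹ with hu
    have htz := hMz t.2
    have huz : cj c' t.1 * z = z * cj c' t.1 := S.cz_cj c'z htz
    have huQ : u ∈ Q := by
      refine (S.ρ_ker u (S.cz_mul huz (S.cz_inv htz))).1 ?_
      rw [S.ρ_mul _ _ huz (S.cz_inv htz), S.ρ_cj c'z htz, S.ρ_inv htz, htρ,
        (iso_commute_tp (S.ρ_iso _ c'z) hfix).eq, mul_inv_cancel_right, mul_inv_cancel]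
    have huR : u ∈ R := mul_mem (normR c'y t.2.1) (inv_mem t.2.1)
    have hcu : cj κ u = cj c q * q⁻¹ := by
      rw [hu, hc', hqdef]
      simp only [cj]
      group
    have hmem : cj c q * q⁻¹ ∈ L := hcu ▸ ⟨toQ hκy huR, toR hκz huQ⟩
    refine ⟨_, hmem, ?_⟩
    rw [S.π_mul _ (S.cj_mem hcz hqQ) _ (inv_mem hqQ), S.π_cj hcz hqQ, S.π_inv hqQ, hρ, dif_eq,
      add_comm]
  by_cases hperp : hh (S.π q) (pv i₀) = 0
  · obtain ⟨a, b, c, ha, hb, hc, e, he⟩ := stab_three hperp
    have hw : S.π q ∈ W := by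
      have h := W.sub_mem (W.sub_mem (W.sub_mem (hpt e) (hdifq hc)) (hdifq hb)) (hdifq ha)
      rwa [← he, add_sub_cancel_right, add_sub_cancel_right, add_sub_cancel_right] at h
    obtain ⟨q₀, hq₀, hπ₀⟩ := hw
    rcases S.π_eq hq₀.1 hqQ hπ₀ with e | e
    · exact hqR (e ▸ hq₀.2)
    · exact hqR (e ▸ mul_mem hzR hq₀.2)
  · obtain ⟨k, l, hk, hl, e⟩ := stab_nonperp hperp
    rw [polW _ (hdifq hk) _ (hdifq hl)] at e
    exact zero_ne_one e

include S in
/-- The only conjugate of `z` in the core is `z`. -/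
theorem no_conj_Q {g : K} (hy : cj g z ∈ Q) : cj g z = z := by
  by_contra hne
  have hy2 : cj g z * cj g z = 1 := cj_self_sq S.z_sq
  have h0 : S.π (cj g z) ≠ 0 := fun e => by
    rcases (S.π_zero _ hy).1 e with e | e
    · exact S.z_ne (cj_injective g (e.trans (by simp [cj])))
    · exact hne e
  obtain ⟨i, c, hc, ei⟩ := exists_point h0 ((iso_iff _).2 ((S.sq_iff hy).1 hy2))
  obtain ⟨d, hd, hdi⟩ := S.exists_point_map i
  have hd' := S.cz_inv hd
  have hact : act (S.ρ d⁻¹) i = i₀ := by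
    rw [← hdi, ← act_mul (S.ρ_iso _ hd') (S.ρ_iso d hd), ← S.ρ_mul _ _ hd' hd,
      inv_mul_cancel, S.ρ_one, act_one]
  obtain ⟨s, hs, es⟩ := act_spec (S.ρ_iso _ hd') i
  rw [hact, ei, (S.ρ_iso _ hd').smul] at es
  refine no_conj_base S hE (g := d⁻¹ * g) (d := c⁻¹ * s) (by rw [← cj_cj]; exact S.cj_mem hd' hy) ?_
    (mul_ne_zero (inv_ne_zero hc) hs) ?_
  · intro e
    rw [← cj_cj] at e
    exact hne (cj_injective d⁻¹ (e.trans (S.cj_z hd').symm))
  · rw [← cj_cj, S.π_cj hd' hy, ← smul_smul, ← es, smul_smul, inv_mul_cancel₀ hc, one_smul]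

end Core

end Cfsg.Agent.H49.UChar
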