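import Cfsg.Agent.H49.UChar.Space

/-!
Orthogonal complements in the space of the representation, and elements of order five.
-/

set_option autoImplicit false
set_option maxRecDepth 20000
set_option linter.unusedSectionVars false
set_option linter.style.haveILetI false

namespace Cfsg.Agent.H49.UChar

open Cfsg

/-- The dual of a finite space over the field with two elements has the same order. -/
theorem card_dual (A : Type*) [AddCommGroup A] [Module (ZMod 2) A] [Finite A] :
    Nat.card (A →+ ZMod 2) = Nat.card A := by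
  classical
  haveI := Fintype.ofFinite A
  haveI : Fact (Nat.Prime 2) := ⟨Nat.prime_two⟩
  let e : (A →+ ZMod 2) ≃ Module.Dual (ZMod 2) A :=
    { toFun := fun f => f.toZModLinearMap 2
      invFun := fun f => f.toAddMonoidHom
      left_inv := fun f => AddMonoidHom.ext fun a => rfl
      right_inv := fun f => LinearMap.ext fun a => rfl }
  haveI : Finite (Module.Dual (ZMod 2) A) := Module.finite_of_finite (ZMod 2)
  haveI : Fintype (Module.Dual (ZMod 2) A) := Fintype.ofFinite _
  rw [Nat.card_congr e, Nat.card_eq_fintype_card, Nat.card_eq_fintype_card,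
    Module.card_eq_pow_finrank (K := ZMod 2), Subspace.dual_finrank_eq,
    ← Module.card_eq_pow_finrank (K := ZMod 2) (V := A)]

/-- A nonzero invariant subgroup of a space of sixteen elements without fixed points is the whole. -/
theorem five_subgroup {A : Type*} [AddCommGroup A] [Finite A] (f : A →+ A) {S T : AddSubgroup A}
    (hST : S ≤ T) (hT : Nat.card ↥T = 16) (h5 : ∀ a, f (f (f (f (f a)))) = a)
    (hS : ∀ a ∈ S, f a ∈ S) (hfix : ∀ a ∈ S, f a = a → a = 0) {a : A} (ha : a ∈ S) (ha0 : a ≠ 0) :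
    S = T := by
  classical
  haveI : Fact (Nat.Prime 5) := ⟨by norm_num⟩
  let g : ↥S → ↥S := fun x => ⟨f x.1, hS _ x.2⟩
  have hg5 : ∀ x, g (g (g (g (g x)))) = x := fun x => Subtype.ext (h5 _)
  let p : Equiv.Perm ↥S :=
    ⟨g, fun x => g (g (g (g x))), fun x => hg5 x, fun x => hg5 x⟩
  have hp : p ^ 5 ^ 1 = 1 := Equiv.ext fun x => hg5 x
  haveI := Fintype.ofFinite ↥S
  have hsupp : p.supportᶜ = {0} := by
    ext x
    simp only [Finset.mem_compl, Equiv.Perm.mem_support, not_not, Finset.mem_singleton]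
    exact ⟨fun e => Subtype.ext (hfix _ x.2 (congrArg Subtype.val e :)),
      fun e => Subtype.ext (by rw [e]; exact f.map_zero)⟩
  have hmod := Equiv.Perm.card_compl_support_modEq hp
  rw [hsupp, Finset.card_singleton, ← Nat.card_eq_fintype_card] at hmod
  have hdvd : Nat.card ↥S ∣ 2 ^ 4 := by
    rw [show 2 ^ 4 = Nat.card ↥T by rw [hT]; norm_num]
    exact AddSubgroup.card_dvd_of_le hST
  obtain ⟨k, hk, e⟩ := (Nat.dvd_prime_pow Nat.prime_two).1 hdvd
  have h1 : Nat.card ↥S ≠ 1 := fun h => by
    haveI := (Nat.card_eq_one_iff_unique.1 h).1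
    exact ha0 (congrArg Subtype.val (Subsingleton.elim (⟨a, ha⟩ : ↥S) 0))
  refine AddSubgroup.eq_of_le_of_card_ge hST ?_
  rw [hT, e]
  rw [e] at hmod h1
  interval_cases k <;> simp_all [Nat.ModEq]

namespace Rep

variable {V : Type*} [AddCommGroup V] [Module (ZMod 2) V] [Finite V] (R : Rep V)

theorem B_zero_left (v : V) : R.B 0 v = 0 := by rw [R.B_comm, R.B_zero_right]

/-- The orthogonal complement. -/
def perp (A : AddSubgroup V) : AddSubgroup V where
  carrier := {u | ∀ a ∈ A, R.B u a = 0}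
  zero_mem' a _ := R.B_zero_left a
  add_mem' {u v} hu hv a ha := by rw [R.B_add_left, hu a ha, hv a ha, add_zero]
  neg_mem' {u} hu a ha := by rw [ZModModule.neg_eq_self]; exact hu a ha

theorem mem_perp {A : AddSubgroup V} {u : V} : u ∈ R.perp A ↔ ∀ a ∈ A, R.B u a = 0 := Iff.rfl

/-- The pairing as a homomorphism. -/
def Bhom (u : V) : V →+ ZMod 2 := AddMonoidHom.mk' (R.B u) (R.B_add_right u)

theorem perp_card (A : AddSubgroup V) : Nat.card ↥(R.perp A) * Nat.card ↥A ≤ 256 := by
  classical
  rw [← R.card, AddSubgroup.card_eq_card_quotient_mul_card_addSubgroup A]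
  refine Nat.mul_le_mul_right _ ?_
  haveI : Module (ZMod 2) (V ⧸ A) := AddCommGroup.zmodModule fun x => by
    obtain ⟨v, rfl⟩ := QuotientAddGroup.mk_surjective x
    rw [two_nsmul, ← QuotientAddGroup.mk_add, R.vv, QuotientAddGroup.mk_zero]
  rw [← card_dual (V ⧸ A)]
  haveI : Finite ((V ⧸ A) →+ ZMod 2) := Finite.of_injective _ DFunLike.coe_injective
  refine Nat.card_le_card_of_injective
    (fun u : ↥(R.perp A) => QuotientAddGroup.lift A (R.Bhom u.1) fun a ha => u.2 a ha) fun u v e => ?_
  refine Subtype.ext ?_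
  have key : ∀ w, R.B (u.1 + v.1) w = 0 := fun w => by
    have h := DFunLike.congr_fun e (w : V ⧸ A)
    simp only [QuotientAddGroup.lift_mk] at h
    rw [R.B_add_left, show R.B u.1 w = R.B v.1 w from h]
    exact ZModModule.add_self _
  have := R.nondeg _ key
  rwa [add_eq_zero_iff_eq_neg, ZModModule.neg_eq_self] at this

/-- A proper subgroup has a nonzero orthogonal vector. -/
theorem exists_perp {A : AddSubgroup V} {v : V} (hv : v ∉ A) :
    ∃ u, u ≠ 0 ∧ ∀ a ∈ A, R.B u a = 0 := by
  classical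
  by_contra hcon
  push Not at hcon
  haveI : Module (ZMod 2) ↥A := AddCommGroup.zmodModule fun x => by
    rw [two_nsmul]; exact Subtype.ext (R.vv _)
  haveI : Finite (↥A →+ ZMod 2) := Finite.of_injective _ DFunLike.coe_injective
  have h := Nat.card_le_card_of_injective (fun u : V => (R.Bhom u).comp A.subtype) fun u w e => by
    by_contra hne
    obtain ⟨a, ha, ha'⟩ := hcon (u + w) fun h => hne (by
      rwa [add_eq_zero_iff_eq_neg, ZModModule.neg_eq_self] at h)
    apply ha'
    rw [R.B_add_left, show R.B u a = R.B w a from DFunLike.congr_fun e ⟨a, ha⟩]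
    exact ZModModule.add_self _
  rw [card_dual] at h
  have hA : A ≠ ⊤ := fun e => hv (e ▸ AddSubgroup.mem_top v)
  exact hA (AddSubgroup.eq_of_le_of_card_ge le_top (by rwa [AddSubgroup.card_top]))

/-- What is orthogonal to the fixed space of an isometry is a displacement. -/
theorem perp_fixed {f : V →+ V} (hf : ∀ u v, R.B (u + f u) v = 0 ∨ f v ≠ v) {u : V}
    (hu : ∀ k, f k = k → R.B u k = 0) : ∃ w, w + f w = u := by
  classical
  let d : V →+ V := AddMonoidHom.id V + f
  have hd : ∀ v, d v = v + f v := fun v => rfl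
  have hker : ∀ k, k ∈ d.ker ↔ f k = k := fun k => by
    rw [AddMonoidHom.mem_ker, hd, add_eq_zero_iff_eq_neg, ZModModule.neg_eq_self]
    exact eq_comm
  have hle : d.range ≤ R.perp d.ker := by
    rintro _ ⟨w, rfl⟩ k hk
    exact (hf w k).resolve_right fun h => h ((hker k).1 hk)
  have hc := R.perp_card d.ker
  have hprod : Nat.card ↥d.ker * Nat.card ↥d.range = 256 := by
    rw [← AddSubgroup.index_ker, AddSubgroup.card_mul_index, R.card]
  have hge : Nat.card ↥(R.perp d.ker) ≤ Nat.card ↥d.range := by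
    refine Nat.le_of_mul_le_mul_right (c := Nat.card ↥d.ker) ?_ Nat.card_pos
    rw [mul_comm (Nat.card ↥d.range), hprod]
    exact hc
  have he := AddSubgroup.eq_of_le_of_card_ge hle hge
  obtain ⟨w, hw⟩ : u ∈ d.range := he ▸ (fun k hk => hu k ((hker k).1 hk) : u ∈ R.perp d.ker)
  exact ⟨w, hw⟩

/-- A vector fixed by everything lies in the fixed part. -/
theorem fixed_P0 {u : V} (h : ∀ g : SU4, R.φ g u = u) : u ∈ R.P0 := by
  show R.pr0 u = u
  rw [pr0, op]
  simp only [tt, h, one_smul, Finset.sum_const, Finset.card_univ]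
  rw [show Fintype.card T3 = 27 from rfl, show (27 : ℕ) = 2 * 13 + 1 from rfl, succ_nsmul, mul_nsmul,
    two_nsmul, R.vv, nsmul_zero, zero_add]

/-! ### An element of order five -/

section Five

variable {b : SU4} (hb : b ^ 5 = 1)

theorem disp_fix {v : V} (h : R.φ b v = v) : R.disp b v = 0 := by rw [disp_apply, h, R.vv]

theorem E_perp (w : V) {k : V} (hk : R.φ b k = k) : R.B (R.disp b w) k = 0 := by
  rw [disp_apply, R.B_add_left]
  nth_rw 2 [← hk]
  rw [R.B_inv]
  exact ZModModule.add_self _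

include hb

theorem E_fix {v : V} (hv : v ∈ (R.disp b).range) (hfix : R.φ b v = v) : v = 0 := by
  obtain ⟨u, rfl⟩ := hv
  simp only [disp_apply] at hfix ⊢
  set v := u + R.φ b u with hv
  have e1 : R.φ b u = u + v := by rw [hv, ← add_assoc, R.vv, zero_add]
  have e2 : R.φ b (R.φ b u) = u := by rw [e1, R.add, e1, hfix, add_assoc, R.vv, add_zero]
  have e5 : R.φ b u = u := by
    have h : R.φ (b ^ 5) u = u := by rw [hb, map_one]; rfl
    simp only [pow_succ, pow_zero, one_mul, map_mul, Equiv.Perm.mul_apply, e2] at h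
    exact h
  rw [hv, e5, R.vv]

theorem E_inv {v : V} (hv : v ∈ (R.disp b).range) : R.φ b v ∈ (R.disp b).range := by
  obtain ⟨u, rfl⟩ := hv
  exact ⟨R.φ b u, by simp only [disp_apply, R.add]⟩

theorem E_split (v : V) : ∃ e ∈ (R.disp b).range, R.φ b (v + e) = v + e := by
  refine ⟨R.disp b (R.φ b v + R.φ (b ^ 3) v), ⟨_, rfl⟩, ?_⟩
  have hm : ∀ g h : SU4, R.φ g (R.φ h v) = R.φ (g * h) v := fun g h => by rw [map_mul]; rfl
  rw [show v + R.disp b (R.φ b v + R.φ (b ^ 3) v) =
      v + R.φ b v + R.φ (b ^ 2) v + R.φ (b ^ 3) v + R.φ (b ^ 4) v by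
    rw [disp_apply, R.add, hm, hm, ← pow_succ', ← pow_two]; abel]
  exact R.avg_fix hb v

theorem phi_five (v : V) : R.φ b (R.φ b (R.φ b (R.φ b (R.φ b v)))) = v := by
  simp only [← Equiv.Perm.mul_apply, ← map_mul]
  rw [show b * (b * (b * (b * b))) = b ^ 5 by simp [pow_succ, mul_assoc], hb, map_one]
  rfl

end Five

end Rep

end Cfsg.Agent.H49.UChar
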