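import Cfsg.Agent.H49.UChar.Natural
import Cfsg.Agent.H49.UChar.Group
import Cfsg.Agent.H27.RankSixMinus

/-!
The representation with three planes and a fixed plane: fixed vectors of elements of order five and
the two classes of involutions.
-/

set_option autoImplicit false
set_option maxRecDepth 20000
set_option linter.unusedSectionVars false
set_option linter.style.haveILetI false

namespace Cfsg.Agent.H49.UChar

open Cfsg

/-- The index of one of the three planes. -/
def kk (i : Fin 3) : Fin 13 := ⟨4 + i, by omega⟩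

theorem kk_bounds (i : Fin 3) : 4 ≤ (kk i : ℕ) ∧ (kk i : ℕ) < 7 := ⟨Nat.le_add_right _ _, by
  show 4 + (i : ℕ) < 7
  omega⟩

theorem kk_inj : ∀ i j : Fin 3, kk i = kk j → i = j := by decide

theorem kk_surj : ∀ k : Fin 13, 4 ≤ (k : ℕ) → (k : ℕ) < 7 → ∃ i : Fin 3, kk i = k := by decide

theorem chi_three : ∀ a : Fin 3 → ZMod 3, ∃ s : T3, ∀ i, chi (kk i) s = a i := by decide +kernel

theorem perm_three : ∀ π : Equiv.Perm (Fin 3), ∃ σ : Equiv.Perm (Fin 4),
    ∀ (i : Fin 3) (s : T3), ff (kk i) (psh σ s) = ff (kk (π i)) s := by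
  decide +kernel

theorem supp_perm : ∀ S S' : Fin 3 → Bool,
    (Finset.univ.filter fun i => S i = true).card = (Finset.univ.filter fun i => S' i = true).card →
    ∃ π : Equiv.Perm (Fin 3), ∀ i, S (π i) = S' i := by
  decide +kernel

/-- The number of nonzero coordinates. -/
def nnz (c : Fin 3 → Fin 4) : ℕ := (Finset.univ.filter fun i => c i ≠ 0).card

theorem class_card : ∀ a b c : Bool, (b = false ∨ (a = false ∧ c = false)) →
    (a = true ∨ b = true ∨ c = true) →
    ¬ 5 ∣ (Finset.univ.filter fun v : Fin 3 → Fin 4 =>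
      (nnz v = 1 ∧ a = true) ∨ (nnz v = 2 ∧ b = true) ∨ (nnz v = 3 ∧ c = true)).card := by
  decide +kernel

theorem swA_shift : (∀ s : T3, chi (kk 0) (psh swA s) = chi (kk 0) s) ∧
    (∀ s : T3, ff (kk 1) (psh swA s) = ff (kk 2) s ∧ ff (kk 2) (psh swA s) = ff (kk 1) s) := by
  decide +kernel

theorem swB_shift : (∀ s : T3, chi (kk 0) (psh swB s) = chi (kk 0) s) ∧
    (∀ s : T3, chi (kk 1) (psh swB s) = - chi (kk 1) s ∧ chi (kk 2) (psh swB s) = - chi (kk 2) s) := by
  decide +kernel

theorem sw_invol : pm swA * pm swA = 1 ∧ pm swB * pm swB = 1 := by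
  constructor <;> refine Unitary.ap_ext fun w => funext fun i => ?_ <;>
    rw [Unitary.ap_mul, ap_pm, ap_pm, Unitary.ap_one, Function.comp_apply, Function.comp_apply]
  · rw [show swA (swA i) = i from by revert i; decide]
  · rw [show swB (swB i) = i from by revert i; decide]

theorem su4_card : Nat.card SU4 = 25920 := by
  rw [H27.RankSixMinus.card_su_four H41.SUSix.hK]
  norm_num

namespace Rep

variable {V : Type*} [AddCommGroup V] [Module (ZMod 2) V] [Finite V] (R : Rep V)

/-- The displacement. -/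
def disp (a : SU4) : V →+ V :=
  AddMonoidHom.mk' (fun v => v + R.φ a v) fun u v => by rw [R.add]; abel

theorem disp_apply (a : SU4) (v : V) : R.disp a v = v + R.φ a v := rfl

theorem fix_of_disp {a : SU4} {v : V} (h : R.disp a v = 0) : R.φ a v = v := by
  rw [disp_apply, add_eq_zero_iff_eq_neg, ZModModule.neg_eq_self] at h
  exact h.symm

include R in
theorem sub_eq (a b : V) : a - b = a + b := by rw [sub_eq_add_neg, ZModModule.neg_eq_self]

theorem B_self (v : V) : R.B v v = 0 := by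
  rw [B, R.vv, R.q_zero, zero_add]; exact ZModModule.add_self _

theorem pr_perm {σ : Equiv.Perm (Fin 4)} {k l : Fin 13} (hσ : ∀ s, ff k (psh σ s) = ff l s) (v : V) :
    R.pr k (R.φ (pm σ) v) = R.φ (pm σ) (R.pr l v) := by
  show R.op (ff k) _ = R.lin (pm σ) _
  rw [op, pr, op, map_sum]
  have hb : Function.Bijective (psh σ) := Finite.injective_iff_bijective.1 fun s s' e => by
    have h : ∀ i, ext4 s (σ i) = ext4 s' (σ i) := fun i => by rw [← ext4_psh, e, ext4_psh]
    funext j
    have h' := h (σ.symm j.castSucc)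
    rw [Equiv.apply_symm_apply] at h'
    have key : ∀ s : T3, ∀ j : Fin 3, ext4 s j.castSucc = s j := by decide +kernel
    rwa [key, key] at h'
  refine (Fintype.sum_equiv (Equiv.ofBijective _ hb) _ _ fun s => ?_).symm
  rw [(R.lin (pm σ)).map_smul, Equiv.ofBijective_apply, hσ, lin_apply, tt, tt,
    ← Equiv.Perm.mul_apply, ← map_mul, pm_dg, map_mul, Equiv.Perm.mul_apply]

variable (h0 : Nat.card ↥R.P0 = 4)
  (h3 : ∀ k : Fin 13, 4 ≤ (k : ℕ) → (k : ℕ) < 7 → Nat.card ↥(R.P k) = 4)
  (h1 : ∀ k : Fin 13, (k : ℕ) < 4 ∨ 7 ≤ (k : ℕ) → Nat.card ↥(R.P k) = 1)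

include h1

theorem split3 (v : V) : v = R.pr0 v + ∑ i, R.pr (kk i) v := by
  classical
  conv_lhs => rw [R.split v]
  congr 1
  rw [← Finset.sum_image (g := kk) (f := fun k => R.pr k v) (fun i _ j _ e => kk_inj i j e)]
  refine (Finset.sum_subset (Finset.subset_univ _) fun k _ hk => R.mem_one (h1 k ?_) (R.pr_mem k v)).symm
  by_contra hcon
  push Not at hcon
  obtain ⟨i, rfl⟩ := kk_surj k hcon.1 hcon.2
  exact hk (Finset.mem_image_of_mem _ (Finset.mem_univ i))

include h3

theorem phi_P0 (g : SU4) {u : V} (hu : u ∈ R.P0) : R.φ g u = u := R.P0_fixed h3 h1 g hu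

/-- The part outside the fixed plane is invariant. -/
theorem pr0_phi (g : SU4) (v : V) : R.pr0 (R.φ g v) = R.pr0 v := by
  -- orthogonality to the fixed plane determines the fixed component
  have key : ∀ p : V, p ∈ R.P0 → R.B (R.φ g v) p = R.B v p := fun p hp => by
    conv_lhs => rw [← R.phi_P0 h3 h1 g hp]
    exact R.B_inv g v p
  have hb : ∀ u p : V, p ∈ R.P0 → R.B u p = R.B (R.pr0 u) p := by
    intro u p hp
    conv_lhs => rw [R.split3 h1 u]
    rw [R.B_add_left, R.B_comm (∑ i, _) p]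
    have : ∀ S : Finset (Fin 3), R.B p (∑ i ∈ S, R.pr (kk i) u) = 0 := by
      intro S
      induction S using Finset.induction_on with
      | empty => exact R.B_zero_right p
      | insert i S hi ih => rw [Finset.sum_insert hi, R.B_add_right, ih, R.B_part0 hp (R.pr_mem _ u), add_zero]
    rw [this, add_zero]
  have hd : R.pr0 (R.φ g v) + R.pr0 v = 0 := by
    refine R.nondeg _ fun w => ?_
    show R.B _ w = 0
    have hmem : R.pr0 (R.φ g v) + R.pr0 v ∈ R.P0 := add_mem (R.pr0_mem _) (R.pr0_mem _)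
    rw [R.B_comm, hb w _ hmem, R.B_comm, R.B_add_left, ← hb _ _ (R.pr0_mem w),
      ← hb _ _ (R.pr0_mem w), key _ (R.pr0_mem w)]
    exact ZModModule.add_self _
  rwa [add_eq_zero_iff_eq_neg, ZModModule.neg_eq_self] at hd

theorem B_split (u w : V) : R.B u w = R.B (R.pr0 u) (R.pr0 w) + R.B (u + R.pr0 u) (w + R.pr0 w) := by
  have hb : ∀ u p : V, p ∈ R.P0 → R.B u p = R.B (R.pr0 u) p := by
    intro u p hp
    conv_lhs => rw [R.split3 h1 u]
    rw [R.B_add_left, R.B_comm (∑ i, _) p]
    have : ∀ S : Finset (Fin 3), R.B p (∑ i ∈ S, R.pr (kk i) u) = 0 := by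
      intro S
      induction S using Finset.induction_on with
      | empty => exact R.B_zero_right p
      | insert i S hi ih => rw [Finset.sum_insert hi, R.B_add_right, ih, R.B_part0 hp (R.pr_mem _ u), add_zero]
    rw [this, add_zero]
  rw [R.B_add_left, R.B_add_right, R.B_add_right, hb u _ (R.pr0_mem w),
    R.B_comm (R.pr0 u) w, hb w _ (R.pr0_mem u), R.B_comm (R.pr0 w) (R.pr0 u)]
  have key : ∀ a b : ZMod 2, b = a + (b + a + (a + a)) := by decide
  exact key _ _

/-- A nonzero vector of the three planes has an orbit of size prime to five. -/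
theorem orbit_five {u : V} (hu0 : R.pr0 u = 0) (hu : u ≠ 0) :
    ¬ 5 ∣ (Set.range fun g : SU4 => R.φ g u).ncard := by
  classical
  have := Fintype.ofFinite V
  have hex : ∀ i : Fin 3, ∃ e : ↥(R.P (kk i)) ≃ Fin 4, e 0 = 0 := by
    intro i
    haveI := Fintype.ofFinite ↥(R.P (kk i))
    let e := Fintype.equivFinOfCardEq (α := ↥(R.P (kk i))) (n := 4) (by
      rw [← Nat.card_eq_fintype_card]; exact h3 _ (kk_bounds i).1 (kk_bounds i).2)
    exact ⟨e.trans (Equiv.swap (e 0) 0), by simp⟩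
  choose e he using hex
  let enc : V → Fin 3 → Fin 4 := fun v i => e i ⟨R.pr (kk i) v, R.pr_mem _ v⟩
  have enc_zero : ∀ v i, enc v i = 0 ↔ R.pr (kk i) v = 0 := by
    intro v i
    show e i ⟨R.pr (kk i) v, R.pr_mem _ v⟩ = 0 ↔ _
    rw [← he i, (e i).injective.eq_iff, Subtype.ext_iff]
    rfl
  set O := Set.range fun g : SU4 => R.φ g u with hO
  have hOW : ∀ v ∈ O, R.pr0 v = 0 := by
    rintro _ ⟨g, rfl⟩
    rw [R.pr0_phi h3 h1, hu0]
  have enc_inj : Set.InjOn enc {v | R.pr0 v = 0} := by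
    intro v hv w hw h
    rw [R.split3 h1 v, R.split3 h1 w, show R.pr0 v = 0 from hv, show R.pr0 w = 0 from hw]
    congr 1
    exact Finset.sum_congr rfl fun i _ => congrArg Subtype.val ((e i).injective (congrFun h i))
  have enc_surj : ∀ c : Fin 3 → Fin 4, ∃ v, R.pr0 v = 0 ∧ enc v = c := by
    intro c
    refine ⟨∑ i, ((e i).symm (c i)).1, ?_, ?_⟩
    · have : ∀ S : Finset (Fin 3), R.pr0 (∑ i ∈ S, ((e i).symm (c i)).1) = 0 := by
        intro S
        induction S using Finset.induction_on with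
        | empty => exact R.op_zero' _
        | insert i S hi ih =>
          rw [Finset.sum_insert hi, pr0, R.op_add]
          show R.pr0 _ + R.pr0 _ = 0
          rw [ih, add_zero, ← (show R.pr (kk i) ((e i).symm (c i)).1 = _ from ((e i).symm (c i)).2),
            R.pr0_pr]
      exact this _
    · funext i
      show e i ⟨R.pr (kk i) (∑ j, _), _⟩ = c i
      rw [← Equiv.eq_symm_apply]
      refine Subtype.ext ?_
      show R.pr (kk i) (∑ j, _) = _
      rw [show R.pr (kk i) (∑ j, ((e j).symm (c j)).1) = ∑ j, R.pr (kk i) ((e j).symm (c j)).1 from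
        map_sum (AddMonoidHom.mk' (R.op (ff (kk i))) (R.op_add _)) _ _, Finset.sum_eq_single i]
      · exact ((e i).symm (c i)).2
      · intro j _ hj
        rw [← (show R.pr (kk j) ((e j).symm (c j)).1 = _ from ((e j).symm (c j)).2), R.pr_pr,
          if_neg fun h => hj (kk_inj _ _ h).symm]
      · exact fun h => absurd (Finset.mem_univ i) h
  -- the form counts the nonzero parts
  have hq : ∀ v, R.pr0 v = 0 → R.q v = (nnz (enc v) : ZMod 2) := by
    intro v hv
    have hqi : ∀ i, R.q (R.pr (kk i) v) = if R.pr (kk i) v = 0 then 0 else 1 := by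
      intro i
      split_ifs with h
      · rw [h, R.q_zero]
      · obtain ⟨t, ht⟩ := chi_ne (kk i)
        exact (R.plane (h3 _ (kk_bounds i).1 (kk_bounds i).2) (t := t) (by rw [ht]; decide)
          (R.pr_mem _ v) h).2.1
    conv_lhs => rw [R.split3 h1 v, hv, zero_add, Fin.sum_univ_three]
    rw [R.q_add, R.q_add, R.B_add_left, R.B_parts (fun h => absurd (kk_inj _ _ h) (by decide))
        (R.pr_mem _ v) (R.pr_mem _ v),
      R.B_parts (fun h => absurd (kk_inj _ _ h) (by decide)) (R.pr_mem _ v) (R.pr_mem _ v),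
      R.B_parts (fun h => absurd (kk_inj _ _ h) (by decide)) (R.pr_mem _ v) (R.pr_mem _ v),
      add_zero, add_zero, add_zero, hqi, hqi, hqi, nnz, Finset.card_filter, Fin.sum_univ_three]
    simp only [ne_eq, enc_zero, ite_not]
    push_cast
    split_ifs <;> simp
  -- same number of nonzero parts, same orbit
  have same : ∀ v ∈ O, ∀ w, R.pr0 w = 0 → nnz (enc v) = nnz (enc w) → w ∈ O := by
    intro v hv w hw hn
    obtain ⟨π, hπ⟩ := supp_perm (fun i => decide (enc v i ≠ 0)) (fun i => decide (enc w i ≠ 0))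
      (by simpa [nnz] using hn)
    obtain ⟨σ, hσ⟩ := perm_three π
    have hcomp : ∀ i, R.pr (kk i) (R.φ (pm σ) v) = R.φ (pm σ) (R.pr (kk (π i)) v) :=
      fun i => R.pr_perm (hσ i) v
    set v' := R.φ (pm σ) v with hv'
    have hz : ∀ i, R.pr (kk i) v' = 0 ↔ R.pr (kk i) w = 0 := by
      intro i
      rw [hcomp, ← enc_zero w i]
      have h := hπ i
      simp only [decide_eq_decide] at h
      constructor
      · intro h'
        have h'' : R.pr (kk (π i)) v = 0 := (R.φ (pm σ)).injective (h'.trans (R.phi_zero _).symm)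
        exact not_not.1 fun hne => h.2 hne ((enc_zero _ _).2 h'')
      · intro h'
        have h'' : enc v (π i) = 0 := not_not.1 fun hne => h.1 hne h'
        rw [(enc_zero _ _).1 h'', R.phi_zero]
    have hpick : ∀ i, ∃ a : ZMod 3, ∀ s : T3, chi (kk i) s = a → R.tt s (R.pr (kk i) v') = R.pr (kk i) w := by
      intro i
      by_cases h : R.pr (kk i) v' = 0
      · exact ⟨0, fun s _ => by rw [h, (hz i).1 h]; exact R.phi_zero _⟩
      · obtain ⟨t, ht⟩ := chi_ne (kk i)
        obtain ⟨all, -⟩ := R.plane (h3 _ (kk_bounds i).1 (kk_bounds i).2) (t := t) (by rw [ht]; decide)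
          (R.pr_mem _ v') h
        have hshift : ∀ s u : T3, chi (kk i) s = chi (kk i) u →
            R.tt s (R.pr (kk i) v') = R.tt u (R.pr (kk i) v') := by
          intro s u hsu
          conv_lhs => rw [show s = u + (s - u) by abel, R.tt_add]
          rw [R.tt_pr]
          have hadd := chi_add (kk i) (s - u) u
          rw [sub_add_cancel, hsu] at hadd
          exact right_eq_add.1 hadd
        rcases all _ (R.pr_mem (kk i) w) with e' | e' | e' | e'
        · exact absurd ((hz i).2 e') h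
        · exact ⟨0, fun s hs => by
            rw [hshift s 0 (hs.trans (by simp [chi, ext4])), R.tt_zero, e']⟩
        · exact ⟨1, fun s hs => by rw [hshift s t (hs.trans ht.symm), e']⟩
        · exact ⟨1 + 1, fun s hs => by rw [hshift s (t + t) (by rw [hs, chi_add, ht]), e']⟩
    choose a ha using hpick
    obtain ⟨s, hs⟩ := chi_three a
    obtain ⟨g, rfl⟩ := hv
    refine ⟨dg s * (pm σ * g), ?_⟩
    show R.φ (dg s * (pm σ * g)) u = w
    rw [map_mul, map_mul, Equiv.Perm.mul_apply, Equiv.Perm.mul_apply]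
    show R.tt s v' = w
    have hv0 : R.pr0 v' = 0 := by rw [hv', R.pr0_phi h3 h1]; exact hOW _ ⟨g, rfl⟩
    conv_lhs => rw [R.split3 h1 v', hv0, zero_add, R.tt_sum]
    conv_rhs => rw [R.split3 h1 w, hw, zero_add]
    exact Finset.sum_congr rfl fun i _ => ha i s (hs i)
  let occ : ℕ → Bool := fun n => decide (∃ v ∈ O, nnz (enc v) = n)
  have hrange : ∀ c : Fin 3 → Fin 4, nnz c ≤ 3 := fun c =>
    (Finset.card_filter_le _ _).trans (by simp)
  have hne : ∀ v ∈ O, nnz (enc v) ≠ 0 := by
    intro v hv h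
    have hvz : v = 0 := by
      rw [R.split3 h1 v, hOW v hv, zero_add]
      refine Finset.sum_eq_zero fun i _ => (enc_zero v i).1 ?_
      rw [nnz, Finset.card_eq_zero] at h
      by_contra hne
      exact absurd (h ▸ Finset.mem_filter.2 ⟨Finset.mem_univ i, hne⟩) (Finset.notMem_empty i)
    obtain ⟨g, rfl⟩ := hv
    exact hu ((R.φ g).injective (hvz.trans (R.phi_zero g).symm))
  have hpar : ∀ v ∈ O, ∀ w ∈ O, ((nnz (enc v) : ℕ) : ZMod 2) = (nnz (enc w) : ℕ) := by
    intro v hv w hw
    rw [← hq v (hOW v hv), ← hq w (hOW w hw)]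
    obtain ⟨g, rfl⟩ := hv
    obtain ⟨g', rfl⟩ := hw
    show R.q (R.φ g u) = R.q (R.φ g' u)
    rw [R.q_inv, R.q_inv]
  have himg : enc '' O = ↑(Finset.univ.filter fun c : Fin 3 → Fin 4 =>
      (nnz c = 1 ∧ occ 1 = true) ∨ (nnz c = 2 ∧ occ 2 = true) ∨ (nnz c = 3 ∧ occ 3 = true)) := by
    ext c
    simp only [Set.mem_image, Finset.mem_coe, Finset.mem_filter, Finset.mem_univ, true_and, occ,
      decide_eq_true_eq]
    constructor
    · rintro ⟨v, hv, rfl⟩
      have := hrange (enc v)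
      have := hne v hv
      rcases (show nnz (enc v) = 1 ∨ nnz (enc v) = 2 ∨ nnz (enc v) = 3 by omega) with h | h | h
      · exact Or.inl ⟨h, v, hv, h⟩
      · exact Or.inr (Or.inl ⟨h, v, hv, h⟩)
      · exact Or.inr (Or.inr ⟨h, v, hv, h⟩)
    · intro h
      obtain ⟨w, hw, rfl⟩ := enc_surj c
      refine ⟨w, ?_, rfl⟩
      rcases h with ⟨h, v, hv, e⟩ | ⟨h, v, hv, e⟩ | ⟨h, v, hv, e⟩ <;>
        exact same v hv w hw (e.trans h.symm)
  intro hdvd
  rw [← (enc_inj.mono fun v hv => hOW v hv).ncard_image, himg, Set.ncard_coe_finset] at hdvd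
  refine class_card _ _ _ ?_ ?_ hdvd
  · by_cases h2 : occ 2 = true
    · right
      simp only [occ, decide_eq_true_eq] at h2
      obtain ⟨v, hv, e⟩ := h2
      constructor <;> simp only [occ, decide_eq_false_iff_not] <;> rintro ⟨w, hw, e'⟩ <;>
        · have h := hpar v hv w hw
          rw [e, e'] at h
          revert h
          decide
    · exact Or.inl (Bool.eq_false_iff.2 h2)
  · have hu' : u ∈ O := ⟨1, by show R.φ 1 u = u; rw [map_one]; rfl⟩
    have := hrange (enc u)
    have := hne u hu'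
    simp only [occ, decide_eq_true_eq]
    rcases (show nnz (enc u) = 1 ∨ nnz (enc u) = 2 ∨ nnz (enc u) = 3 by omega) with h | h | h
    · exact Or.inl ⟨u, hu', h⟩
    · exact Or.inr (Or.inl ⟨u, hu', h⟩)
    · exact Or.inr (Or.inr ⟨u, hu', h⟩)

/-- An element of order five fixing a given vector. -/
theorem exists_five (v : V) : ∃ b : SU4, b ^ 5 = 1 ∧ b ≠ 1 ∧ R.φ b v = v := by
  classical
  haveI : Fact (Nat.Prime 5) := ⟨by norm_num⟩
  let act : MulAction SU4 V := MulAction.compHom V R.φ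
  set w := v + R.pr0 v with hw
  suffices h : ∃ b : SU4, b ^ 5 = 1 ∧ b ≠ 1 ∧ R.φ b w = w by
    obtain ⟨b, b5, b1, bw⟩ := h
    refine ⟨b, b5, b1, ?_⟩
    rw [show v = w + R.pr0 v by rw [hw, add_assoc, R.vv, add_zero], R.add, bw,
      R.phi_P0 h3 h1 b (R.pr0_mem v)]
  have hdvd : 5 ∣ Nat.card ↥(MulAction.stabilizer SU4 w) := by
    have h := Subgroup.card_mul_index (MulAction.stabilizer SU4 w)
    rw [MulAction.index_stabilizer, su4_card] at h
    have horb : (MulAction.orbit SU4 w) = Set.range fun g : SU4 => R.φ g w := rfl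
    rw [horb] at h
    refine ((Nat.prime_five.dvd_mul).1 (h ▸ (by norm_num : 5 ∣ 25920))).resolve_right ?_
    by_cases h0w : w = 0
    · rw [h0w, show (Set.range fun g : SU4 => R.φ g (0 : V)) = {0} by
        ext x
        simp [R.phi_zero, eq_comm], Set.ncard_singleton]
      norm_num
    · refine R.orbit_five h3 h1 ?_ h0w
      rw [hw, pr0, R.op_add]
      show R.pr0 v + R.pr0 (R.pr0 v) = 0
      rw [R.pr0_pr0, R.vv]
  obtain ⟨b, hb⟩ := exists_prime_orderOf_dvd_card' 5 hdvd
  refine ⟨b.1, ?_, fun e => ?_, b.2⟩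
  · rw [← SubmonoidClass.coe_pow, ← hb, pow_orderOf_eq_one, OneMemClass.coe_one]
  · rw [show b = 1 from Subtype.ext e, orderOf_one] at hb
    norm_num at hb

omit h3 h1 in
/-- The average over an element of order five. -/
theorem avg_fix {b : SU4} (hb : b ^ 5 = 1) (v : V) :
    R.φ b (v + R.φ b v + R.φ (b ^ 2) v + R.φ (b ^ 3) v + R.φ (b ^ 4) v) =
      v + R.φ b v + R.φ (b ^ 2) v + R.φ (b ^ 3) v + R.φ (b ^ 4) v := by
  simp only [R.add, ← Equiv.Perm.mul_apply, ← map_mul, ← pow_succ']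
  rw [hb, map_one, Equiv.Perm.one_apply, ← pow_two]
  abel

include h0

/-- Two fixed vectors with nonzero form, both orthogonal to a given fixed vector. -/
theorem exists_fix_pair {b : SU4} (hb : b ^ 5 = 1) {x : V} (hx : R.φ b x = x) :
    ∃ u v : V, R.φ b u = u ∧ R.φ b v = v ∧ R.B u x = 0 ∧ R.B v x = 0 ∧ R.B u v = 1 := by
  classical
  obtain ⟨p₁, hp₁, hp₁0⟩ : ∃ p ∈ R.P0, p ≠ (0 : V) := by
    by_contra hcon
    push Not at hcon
    have : Nat.card ↥R.P0 = 1 := Nat.card_eq_one_iff_unique.2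
      ⟨⟨fun a b => Subtype.ext ((hcon a.1 a.2).trans (hcon b.1 b.2).symm)⟩, ⟨0, zero_mem _⟩⟩
    omega
  obtain ⟨y, hy⟩ : ∃ y, R.B p₁ y = 1 := by
    by_contra hcon
    push Not at hcon
    exact hp₁0 (R.nondeg p₁ fun y => (show ∀ a : ZMod 2, a ≠ 1 → a = 0 by decide) _ (hcon y))
  have hp₂ := R.pr0_mem y
  have e0 : ∀ p ∈ R.P0, R.pr0 p = p := fun p hp => hp
  have hB12 : R.B p₁ (R.pr0 y) = 1 := by
    have := R.B_split h3 h1 p₁ y
    rw [e0 p₁ hp₁, R.vv, R.B_comm (0 : V), R.B_zero_right, add_zero] at this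
    rwa [← this]
  -- averaging
  have hBavg : ∀ w v : V, R.φ b w = w → R.B w v = 1 →
      R.B w (v + R.φ b v + R.φ (b ^ 2) v + R.φ (b ^ 3) v + R.φ (b ^ 4) v) = 1 := by
    intro w v hw hwv
    have hp : ∀ m : ℕ, R.φ (b ^ m) w = w := by
      intro m
      induction m with
      | zero => rw [pow_zero, map_one]; rfl
      | succ m ih => rw [pow_succ, map_mul, Equiv.Perm.mul_apply, hw, ih]
    have e : ∀ m : ℕ, R.B w (R.φ (b ^ m) v) = 1 := fun m => by
      conv_lhs => rw [← hp m]
      rw [R.B_inv, hwv]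
    have e' := e 1
    rw [pow_one] at e'
    simp only [R.B_add_right, hwv, e', e]
    decide
  have hfix := fun (p : V) (hp : p ∈ R.P0) => R.phi_P0 h3 h1 b hp
  set w := x + R.pr0 x with hw
  have hwfix : R.φ b w = w := by rw [hw, R.add, hx, hfix _ (R.pr0_mem x)]
  have hw0 : R.pr0 w = 0 := by
    rw [hw, pr0, R.op_add]
    show R.pr0 x + R.pr0 (R.pr0 x) = 0
    rw [R.pr0_pr0, R.vv]
  have avgW : ∀ v : V, R.pr0 v = 0 →
      R.pr0 (v + R.φ b v + R.φ (b ^ 2) v + R.φ (b ^ 3) v + R.φ (b ^ 4) v) = 0 := by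
    intro v hv
    have e : ∀ g : SU4, R.pr0 (R.φ g v) = 0 := fun g => (R.pr0_phi h3 h1 g v).trans hv
    simp only [pr0, R.op_add]
    show R.pr0 v + R.pr0 (R.φ b v) + R.pr0 (R.φ (b ^ 2) v) + R.pr0 (R.φ (b ^ 3) v) +
      R.pr0 (R.φ (b ^ 4) v) = 0
    rw [e b, e (b ^ 2), e (b ^ 3), e (b ^ 4), hv]
    simp only [add_zero]
  have exW : ∀ a : V, R.pr0 a = 0 → a ≠ 0 → ∃ v, R.pr0 v = 0 ∧ R.B a v = 1 := by
    intro a ha ha0
    obtain ⟨v, hv⟩ : ∃ v, R.B a v = 1 := by
      by_contra hcon
      push Not at hcon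
      exact ha0 (R.nondeg a fun v => (show ∀ t : ZMod 2, t ≠ 1 → t = 0 by decide) _ (hcon v))
    refine ⟨v + R.pr0 v, ?_, ?_⟩
    · rw [pr0, R.op_add]
      show R.pr0 v + R.pr0 (R.pr0 v) = 0
      rw [R.pr0_pr0, R.vv]
    · have := R.B_split h3 h1 a v
      rw [ha, R.B_comm (0 : V), R.B_zero_right, zero_add, add_zero] at this
      rwa [← this]
  have B0W : ∀ p ∈ R.P0, ∀ a : V, R.pr0 a = 0 → R.B p a = 0 := by
    intro p hp a ha
    have := R.B_split h3 h1 p a
    rwa [ha, R.B_zero_right, e0 p hp, R.vv, R.B_comm (0 : V), R.B_zero_right, add_zero] at this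
  have hBx : ∀ p ∈ R.P0, R.B p x = R.B p (R.pr0 x) := by
    intro p hp
    have := R.B_split h3 h1 p x
    rwa [e0 p hp, R.vv, R.B_comm (0 : V), R.B_zero_right, add_zero] at this
  have hBxW : ∀ a : V, R.pr0 a = 0 → R.B a x = R.B w a := by
    intro a ha
    have := R.B_split h3 h1 a x
    rwa [ha, R.B_comm (0 : V), R.B_zero_right, zero_add, add_zero, R.B_comm a (x + R.pr0 x)] at this
  by_cases hwz : w = 0
  · -- a pair inside the three planes
    obtain ⟨a, ha0, haW, hafix⟩ : ∃ a : V, a ≠ 0 ∧ R.pr0 a = 0 ∧ R.φ b a = a := by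
      haveI : Fact (Nat.Prime 5) := ⟨by norm_num⟩
      by_contra hcon
      push Not at hcon
      let W := {v : V // R.pr0 v = 0}
      haveI := Fintype.ofFinite W
      let f : Equiv.Perm W := (R.φ b).subtypeEquiv fun v => by rw [R.pr0_phi h3 h1]
      have hf : f ^ 5 ^ 1 = 1 := Equiv.ext fun v => Subtype.ext (by
        rw [pow_one]
        show R.φ b (R.φ b (R.φ b (R.φ b (R.φ b v.1)))) = v.1
        rw [← Equiv.Perm.mul_apply, ← map_mul, ← Equiv.Perm.mul_apply, ← map_mul,
          ← Equiv.Perm.mul_apply, ← map_mul, ← Equiv.Perm.mul_apply, ← map_mul,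
          show b * b * b * b * b = b ^ 5 by simp [pow_succ], hb, map_one]
        rfl)
      have hmod := Equiv.Perm.card_compl_support_modEq hf
      have hfx : f.supportᶜ.card = 1 := by
        rw [Finset.card_eq_one]
        refine ⟨⟨0, R.op_zero' _⟩, Finset.ext fun v => ?_⟩
        rw [Finset.mem_compl, Equiv.Perm.mem_support, not_not, Finset.mem_singleton]
        constructor
        · intro h
          refine Subtype.ext ?_
          by_contra hv0
          exact hcon v.1 hv0 v.2 (congrArg Subtype.val h)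
        · rintro rfl; exact Subtype.ext (R.phi_zero b)
      have hcard : Fintype.card W = 64 := by
        have h256 : Nat.card V = Nat.card ↥R.P0 * Nat.card W := by
          rw [← Nat.card_prod]
          refine Nat.card_congr
            { toFun := fun v => (⟨R.pr0 v, R.pr0_mem v⟩, ⟨v + R.pr0 v, by
                rw [pr0, R.op_add]
                show R.pr0 v + R.pr0 (R.pr0 v) = 0
                rw [R.pr0_pr0, R.vv]⟩)
              invFun := fun p => p.1.1 + p.2.1
              left_inv := fun v => by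
                show R.pr0 v + (v + R.pr0 v) = v
                rw [add_comm, add_assoc, R.vv, add_zero]
              right_inv := fun p => by
                obtain ⟨⟨p, hp⟩, ⟨a, ha⟩⟩ := p
                have hpa : R.pr0 (p + a) = p := by
                  rw [pr0, R.op_add]
                  show R.pr0 p + R.pr0 a = p
                  rw [ha, add_zero]; exact hp
                refine Prod.ext (Subtype.ext hpa) (Subtype.ext ?_)
                show p + a + R.pr0 (p + a) = a
                rw [hpa, add_comm p a, add_assoc, R.vv, add_zero] }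
        rw [R.card, h0] at h256
        rw [← Nat.card_eq_fintype_card]
        omega
      rw [hfx, hcard] at hmod
      exact absurd hmod (by unfold Nat.ModEq; norm_num)
    obtain ⟨v, hv, hav⟩ := exW a haW ha0
    refine ⟨a, _, hafix, R.avg_fix hb v, ?_, ?_, hBavg a v hafix hav⟩
    · rw [hBxW a haW, hwz, R.B_comm, R.B_zero_right]
    · rw [hBxW _ (avgW v hv), hwz, R.B_comm, R.B_zero_right]
  · obtain ⟨v, hv, hwv⟩ := exW w hw0 hwz
    set w' := v + R.φ b v + R.φ (b ^ 2) v + R.φ (b ^ 3) v + R.φ (b ^ 4) v with hw'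
    have hw'0 := avgW v hv
    rw [← hw'] at hw'0
    have hw'fix : R.φ b w' = w' := R.avg_fix hb v
    have h1x : R.B w' x = 1 := by rw [hBxW w' hw'0]; exact hBavg w v hwfix hwv
    let adj : ZMod 2 → V := fun t => if t = 0 then 0 else w'
    have adjfix : ∀ t, R.φ b (adj t) = adj t := fun t => by
      simp only [adj]; split_ifs
      exacts [R.phi_zero b, hw'fix]
    have adjB : ∀ t, R.B (adj t) x = t := fun t => by
      simp only [adj]; split_ifs with h
      · rw [h, R.B_comm, R.B_zero_right]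
      · rw [h1x]; exact ((show ∀ t : ZMod 2, t ≠ 0 → t = 1 by decide) t h).symm
    refine ⟨p₁ + adj (R.B p₁ x), R.pr0 y + adj (R.B (R.pr0 y) x), ?_, ?_, ?_, ?_, ?_⟩
    · rw [R.add, hfix _ hp₁, adjfix]
    · rw [R.add, hfix _ hp₂, adjfix]
    · rw [R.B_add_left, adjB]; exact ZModModule.add_self _
    · rw [R.B_add_left, adjB]; exact ZModModule.add_self _
    · have hz : ∀ t, ∀ p ∈ R.P0, R.B p (adj t) = 0 := fun t p hp => by
        simp only [adj]; split_ifs
        exacts [R.B_zero_right p, B0W p hp w' hw'0]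
      have hzz : ∀ s t, R.B (adj s) (adj t) = 0 := fun s t => by
        simp only [adj]; split_ifs
        exacts [R.B_zero_right _, by rw [R.B_comm, R.B_zero_right], R.B_zero_right _, R.B_self w']
      rw [R.B_add_left, R.B_add_right, R.B_add_right, hB12, hz _ _ hp₁, hzz,
        R.B_comm (adj _) (R.pr0 y), hz _ _ hp₂]
      decide

omit h0
include h1 h3

/-- A permutation element fixing the functional of a plane fixes the plane. -/
theorem plane_fixed {σ : Equiv.Perm (Fin 4)} (hσ2 : pm σ * pm σ = 1) {i : Fin 3}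
    (hσ : ∀ s, chi (kk i) (psh σ s) = chi (kk i) s) {v : V} (hv : v ∈ R.P (kk i)) :
    R.φ (pm σ) v = v := by
  have hff : ∀ s, ff (kk i) (psh σ s) = ff (kk i) s := fun s => by simp only [ff, hσ s]
  have hmem : R.φ (pm σ) v ∈ R.P (kk i) := by
    show R.pr (kk i) _ = _
    rw [R.pr_perm hff, show R.pr (kk i) v = v from hv]
  by_cases hv0 : v = 0
  · rw [hv0, R.phi_zero]
  have hcomm : ∀ s w, w ∈ R.P (kk i) → R.φ (pm σ) (R.tt s w) = R.tt s (R.φ (pm σ) w) := by
    intro s w hw
    have hw' : R.φ (pm σ) w ∈ R.P (kk i) := by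
      show R.pr (kk i) _ = _
      rw [R.pr_perm hff, show R.pr (kk i) w = w from hw]
    rw [tt, ← Equiv.Perm.mul_apply, ← map_mul, pm_dg, map_mul, Equiv.Perm.mul_apply]
    show R.tt (psh σ s) _ = _
    conv_lhs => rw [show psh σ s = s + (psh σ s - s) by abel, R.tt_add]
    rw [R.fix_mem ?_ hw']
    have hadd := chi_add (kk i) (psh σ s - s) s
    rw [sub_add_cancel, hσ] at hadd
    exact right_eq_add.1 hadd
  obtain ⟨t, ht⟩ := chi_ne (kk i)
  obtain ⟨all, -, -, -, hne⟩ := R.plane (h3 _ (kk_bounds i).1 (kk_bounds i).2) (t := t)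
    (by rw [ht]; decide) hv hv0
  have hsq : R.φ (pm σ) (R.φ (pm σ) v) = v := by
    rw [← Equiv.Perm.mul_apply, ← map_mul, hσ2, map_one]; rfl
  rcases all _ hmem with e | e | e | e
  · exact absurd ((R.φ (pm σ)).injective (e.trans (R.phi_zero _).symm)) hv0
  · exact e
  · exfalso
    rw [e, hcomm t v hv, e, ← R.tt_add] at hsq
    have h' : R.tt (t + (t + t)) v = R.tt t v := by rw [R.tt_add, hsq]
    rw [← add_assoc, three_t, R.tt_zero] at h'
    exact hne h'.symm
  · exfalso
    rw [e, hcomm (t + t) v hv, e, ← R.tt_add, show t + t + (t + t) = t + (t + t + t) by abel,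
      three_t, add_zero] at hsq
    exact hne hsq

omit h1 in
/-- A permutation element inverting the functional of a plane moves one vector of it. -/
theorem plane_refl {σ : Equiv.Perm (Fin 4)} (hσ2 : pm σ * pm σ = 1) {i : Fin 3}
    (hσ : ∀ s, chi (kk i) (psh σ s) = - chi (kk i) s) :
    ∃ c ∈ R.P (kk i), c ≠ 0 ∧ (∀ v ∈ R.P (kk i), R.disp (pm σ) v = 0 ∨ R.disp (pm σ) v = c) ∧
      ∃ v ∈ R.P (kk i), R.disp (pm σ) v = c := by
  have hff : ∀ s, ff (kk i) (psh σ s) = ff (kk i) s := fun s => by simp only [ff, hσ s, neg_eq_zero]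
  have hmem : ∀ w ∈ R.P (kk i), R.φ (pm σ) w ∈ R.P (kk i) := fun w hw => by
    show R.pr (kk i) _ = _
    rw [R.pr_perm hff, show R.pr (kk i) w = w from hw]
  have hsq : ∀ w, R.φ (pm σ) (R.φ (pm σ) w) = w := fun w => by
    rw [← Equiv.Perm.mul_apply, ← map_mul, hσ2, map_one]; rfl
  obtain ⟨t, ht⟩ := chi_ne (kk i)
  obtain ⟨v₀, hv₀, hv00⟩ : ∃ v ∈ R.P (kk i), v ≠ (0 : V) := by
    by_contra hcon
    push Not at hcon
    have : Nat.card ↥(R.P (kk i)) = 1 := Nat.card_eq_one_iff_unique.2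
      ⟨⟨fun a b => Subtype.ext ((hcon a.1 a.2).trans (hcon b.1 b.2).symm)⟩, ⟨0, zero_mem _⟩⟩
    rw [h3 _ (kk_bounds i).1 (kk_bounds i).2] at this
    omega
  have hcomm : ∀ w ∈ R.P (kk i), R.φ (pm σ) (R.tt t w) = R.tt (t + t) (R.φ (pm σ) w) := by
    intro w hw
    rw [tt, ← Equiv.Perm.mul_apply, ← map_mul, pm_dg, map_mul, Equiv.Perm.mul_apply]
    show R.tt (psh σ t) _ = _
    conv_lhs => rw [show psh σ t = (t + t) + (psh σ t - (t + t)) by abel, R.tt_add]
    rw [R.fix_mem ?_ (hmem w hw)]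
    have hadd := chi_add (kk i) (psh σ t - (t + t)) (t + t)
    rw [sub_add_cancel, hσ, chi_add, ht] at hadd
    exact right_eq_add.1 ((show - (1 : ZMod 3) = 1 + 1 by decide) ▸ hadd)
  have hcomm2 : ∀ w ∈ R.P (kk i), R.φ (pm σ) (R.tt (t + t) w) = R.tt t (R.φ (pm σ) w) := by
    intro w hw
    rw [R.tt_add, hcomm _ (R.tt_mem t hw), hcomm w hw, ← R.tt_add,
      show t + t + (t + t) = t + (t + t + t) by abel, three_t, add_zero]
  obtain ⟨all, -, -, -, -⟩ := R.plane (h3 _ (kk_bounds i).1 (kk_bounds i).2) (t := t)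
    (by rw [ht]; decide) hv₀ hv00
  obtain ⟨c, hc, hc0, hcf⟩ : ∃ c ∈ R.P (kk i), c ≠ 0 ∧ R.φ (pm σ) c = c := by
    rcases all _ (hmem v₀ hv₀) with e | e | e | e
    · exact absurd ((R.φ (pm σ)).injective (e.trans (R.phi_zero _).symm)) hv00
    · exact ⟨v₀, hv₀, hv00, e⟩
    · refine ⟨R.tt (t + t) v₀, R.tt_mem _ hv₀, fun h => hv00 ((R.φ (dg _)).injective (h.trans (R.phi_zero _).symm)), ?_⟩
      rw [hcomm2 v₀ hv₀, e, ← R.tt_add]
    · refine ⟨R.tt t v₀, R.tt_mem _ hv₀, fun h => hv00 ((R.φ (dg _)).injective (h.trans (R.phi_zero _).symm)), ?_⟩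
      rw [hcomm v₀ hv₀, e, ← R.tt_add, show t + t + (t + t) = t + (t + t + t) by abel, three_t, add_zero]
  obtain ⟨allc, -, -, -, -⟩ := R.plane (h3 _ (kk_bounds i).1 (kk_bounds i).2) (t := t)
    (by rw [ht]; decide) hc hc0
  have htri := R.triple_mem (t := t) (by rw [ht]; decide) hc
  rw [add_assoc, add_eq_zero_iff_eq_neg, ZModModule.neg_eq_self] at htri
  refine ⟨c, hc, hc0, fun v hv => ?_, R.tt t c, R.tt_mem _ hc, ?_⟩
  · rw [disp_apply]
    rcases allc v hv with rfl | rfl | rfl | rfl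
    · exact Or.inl (by rw [R.phi_zero, add_zero])
    · exact Or.inl (by rw [hcf, R.vv])
    · exact Or.inr (by rw [hcomm c hc, hcf]; exact htri.symm)
    · exact Or.inr (by rw [hcomm2 c hc, hcf, add_comm]; exact htri.symm)
  · rw [disp_apply, hcomm c hc, hcf]; exact htri.symm

/-- The displacement of an involution has four values. -/
theorem disp_card {a : SU4} (h2 : a * a = 1) (ha : a ≠ 1) : Nat.card ↥(R.disp a).range = 4 := by
  classical
  obtain ⟨g, hg⟩ := invol_conj h2 ha
  -- transport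
  have htr : ∀ b : SU4, g * a * g⁻¹ = b → Nat.card ↥(R.disp a).range = Nat.card ↥(R.disp b).range := by
    intro b hb
    have hcomm : ∀ v, R.φ g (R.disp a v) = R.disp b (R.φ g v) := fun v => by
      rw [disp_apply, disp_apply, R.add]
      congr 1
      rw [← hb, ← Equiv.Perm.mul_apply (R.φ (g * a * g⁻¹)), ← map_mul, inv_mul_cancel_right, map_mul]
      rfl
    refine Nat.card_congr ((R.φ g).subtypeEquiv fun v => ?_)
    constructor
    · rintro ⟨w, rfl⟩; exact ⟨R.φ g w, (hcomm w).symm⟩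
    · rintro ⟨w, hw⟩
      refine ⟨(R.φ g).symm w, (R.φ g).injective ?_⟩
      rw [hcomm, Equiv.apply_symm_apply, hw]
  have hsplitD : ∀ σ : Equiv.Perm (Fin 4), pm σ * pm σ = 1 →
      (∀ s, chi (kk 0) (psh σ s) = chi (kk 0) s) → ∀ v,
      R.disp (pm σ) v = R.disp (pm σ) (R.pr (kk 1) v) + R.disp (pm σ) (R.pr (kk 2) v) := by
    intro σ h2σ hσ v
    conv_lhs => rw [R.split3 h1 v, Fin.sum_univ_three, map_add, map_add, map_add]
    rw [show R.disp (pm σ) (R.pr0 v) = 0 by
        rw [disp_apply, R.phi_P0 h3 h1 _ (R.pr0_mem v), R.vv],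
      show R.disp (pm σ) (R.pr (kk 0) v) = 0 by
        rw [disp_apply, R.plane_fixed h3 h1 h2σ hσ (R.pr_mem _ v), R.vv], zero_add, zero_add]
  rcases hg with e | e <;> rw [htr _ e]
  · -- exchanged planes
    obtain ⟨hA, hB⟩ := swA_shift
    let D : ↥(R.P (kk 1)) → ↥(R.disp (pm swA)).range := fun x => ⟨R.disp (pm swA) x.1, x.1, rfl⟩
    have hswap : ∀ w ∈ R.P (kk 2), R.φ (pm swA) w ∈ R.P (kk 1) := fun w hw => by
      show R.pr (kk 1) _ = _
      rw [R.pr_perm (fun s => (hB s).1), show R.pr (kk 2) w = w from hw]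
    have hswap' : ∀ w ∈ R.P (kk 1), R.φ (pm swA) w ∈ R.P (kk 2) := fun w hw => by
      show R.pr (kk 2) _ = _
      rw [R.pr_perm (fun s => (hB s).2), show R.pr (kk 1) w = w from hw]
    have hinv : ∀ w, R.φ (pm swA) (R.φ (pm swA) w) = w := fun w => by
      rw [← Equiv.Perm.mul_apply, ← map_mul, sw_invol.1, map_one]; rfl
    have hDb : Function.Bijective D := by
      refine ⟨fun x y e => Subtype.ext ?_, ?_⟩
      · have h := congrArg (fun w : ↥(R.disp (pm swA)).range => R.pr (kk 1) w.1) e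
        have key : ∀ x : ↥(R.P (kk 1)), R.pr (kk 1) (R.disp (pm swA) x.1) = x.1 := fun x => by
          rw [disp_apply, pr, R.op_add]
          show R.pr (kk 1) x.1 + R.pr (kk 1) _ = _
          rw [← (show R.pr (kk 2) (R.φ (pm swA) x.1) = _ from hswap' x.1 x.2), R.pr_pr,
            if_neg (by decide), add_zero]
          exact x.2
        simpa only [D, key] using h
      · rintro ⟨_, v, rfl⟩
        refine ⟨⟨R.pr (kk 1) v + R.φ (pm swA) (R.pr (kk 2) v),
          add_mem (R.pr_mem _ v) (hswap _ (R.pr_mem _ v))⟩, Subtype.ext ?_⟩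
        show R.disp (pm swA) (_ + _) = R.disp (pm swA) v
        rw [hsplitD swA sw_invol.1 hA v, map_add, disp_apply (a := pm swA) (v := R.φ (pm swA) _), hinv,
          add_comm (R.φ (pm swA) _), ← disp_apply]
    rw [← Nat.card_eq_of_bijective D hDb, h3 _ (kk_bounds 1).1 (kk_bounds 1).2]
  · -- two reflected planes
    obtain ⟨hA, hB⟩ := swB_shift
    obtain ⟨c, hc, hc0, hcv, v, hv, hvc⟩ := R.plane_refl h3 (i := 1) sw_invol.2 fun s => (hB s).1
    obtain ⟨d, hd, hd0, hdv, w, hw, hwd⟩ := R.plane_refl h3 (i := 2) sw_invol.2 fun s => (hB s).2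
    have hcd : c ≠ d := fun e => hc0 (by
      rw [← (show R.pr (kk 1) c = c from hc), e, ← (show R.pr (kk 2) d = d from hd), R.pr_pr,
        if_neg (by decide)])
    have hcd0 : c + d ≠ 0 := fun e => hcd (by rwa [add_eq_zero_iff_eq_neg, ZModModule.neg_eq_self] at e)
    have hset : ((R.disp (pm swB)).range : Set V) = ↑({0, c, d, c + d} : Finset V) := by
      ext u
      simp only [SetLike.mem_coe, Finset.coe_insert, Finset.coe_singleton, Set.mem_insert_iff,
        Set.mem_singleton_iff]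
      constructor
      · rintro ⟨y, rfl⟩
        rw [hsplitD swB sw_invol.2 hA y]
        rcases hcv _ (R.pr_mem _ y) with e1 | e1 <;> rcases hdv _ (R.pr_mem _ y) with e2 | e2 <;>
          rw [e1, e2] <;> simp
      · rintro (rfl | rfl | rfl | rfl)
        · exact zero_mem _
        · exact ⟨v, hvc⟩
        · exact ⟨w, hwd⟩
        · exact ⟨v + w, by rw [map_add, hvc, hwd]⟩
    rw [← SetLike.coe_sort_coe, Nat.card_coe_set_eq, hset, Set.ncard_coe_finset,
      Finset.card_insert_of_notMem (by simp [Ne.symm hc0, Ne.symm hd0, Ne.symm hcd0]),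
      Finset.card_insert_of_notMem (by
        simp only [Finset.mem_insert, Finset.mem_singleton, not_or]
        exact ⟨hcd, fun e => hd0 (left_eq_add.1 e)⟩),
      Finset.card_insert_of_notMem (by
        simp only [Finset.mem_singleton]
        exact fun e => hc0 (right_eq_add.1 e)), Finset.card_singleton]

end Rep

end Cfsg.Agent.H49.UChar
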