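import Cfsg.Agent.H49.UChar.Setup
import Cfsg.Agent.H49.UChar.Space

/-!
Basic facts about the representation attached to an involution centraliser.
-/

set_option autoImplicit false
set_option maxRecDepth 20000
set_option linter.unusedSectionVars false
set_option linter.unusedFintypeInType false

namespace Cfsg.Agent.H49.UChar

open Cfsg
open Cfsg.Agent.H92.ExtraForm (zp zp_inj)
open Cfsg.Agent.H49.USix
open H76.LocallyS3 (cj cj_cj cj_injective)

/-- An element of odd order that moves `c` at most by a central involution fixes it. -/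
theorem odd_fix {K : Type*} [Group K] {z c d : K} (hz : z * z = 1) (hd : d * z = z * d) {n : ℕ}
    (hn : Odd n) (hdn : d ^ n = 1) (h : cj d c = c ∨ cj d c = z * c) : cj d c = c := by
  rcases h with h | h
  · exact h
  have h2 : cj (d * d) c = c := by
    rw [← cj_cj, h, cj_mul', h, cj_fix_iff.2 hd, ← mul_assoc, hz, one_mul]
  obtain ⟨m, rfl⟩ := hn
  have hpow : (d * d) ^ (m + 1) = d := by
    rw [← pow_two, ← pow_mul, show 2 * (m + 1) = 2 * m + 1 + 1 by ring, pow_succ, hdn, one_mul]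
  have hc : Commute (d * d) c := cj_fix_iff.1 h2
  have := hc.pow_left (m + 1)
  rw [hpow] at this
  exact cj_fix_iff.2 this

/-- What commutes with a conjugate of `z` comes back to the centraliser. -/
theorem cj_back {K : Type*} [Group K] {g z a : K} (h : a * cj g z = cj g z * a) :
    cj g⁻¹ a * z = z * cj g⁻¹ a := by
  calc cj g⁻¹ a * z = g⁻¹ * (a * cj g z) * g := by simp [cj, mul_assoc]
    _ = g⁻¹ * (cj g z * a) * g := by rw [h]
    _ = _ := by simp [cj, mul_assoc]

/-- What commutes with a conjugate of `z` is moved to the centraliser. -/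
theorem cj_fwd {K : Type*} [Group K] {g z a : K} (h : a * cj g⁻¹ z = cj g⁻¹ z * a) :
    cj g a * z = z * cj g a := by
  simpa using cj_back (g := g⁻¹) h

namespace Pre

variable {G : Type*} [Group G] [Finite G] {z : G} {J : Subgroup G} (P : Pre z J)
include P

theorem cz_one : (1 : G) * z = z * 1 := by rw [one_mul, mul_one]

theorem cz_mul {c d : G} (hc : c * z = z * c) (hd : d * z = z * d) : c * d * z = z * (c * d) :=
  (Commute.mul_left hc hd).eq

theorem cz_inv {c : G} (hc : c * z = z * c) : c⁻¹ * z = z * c⁻¹ :=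
  (Commute.inv_left (show Commute c z from hc)).eq

theorem cz_pow {c : G} (hc : c * z = z * c) (n : ℕ) : c ^ n * z = z * c ^ n :=
  (Commute.pow_left (show Commute c z from hc) n).eq

theorem cz_J {q : G} (hq : q ∈ J) : q * z = z * q := P.le q hq

theorem cz_cj {c x : G} (hc : c * z = z * c) (hx : x * z = z * x) : cj c x * z = z * cj c x :=
  P.cz_mul (P.cz_mul hc hx) (P.cz_inv hc)

theorem cj_z {c : G} (hc : c * z = z * c) : cj c z = z := cj_fix_iff.2 hc

theorem z_inv : z⁻¹ = z := inv_eq_of_mul_eq_one_right P.z_sq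

theorem π_one : P.π 1 = 0 := (P.π_zero 1 J.one_mem).2 (Or.inl rfl)

theorem π_z : P.π z = 0 := (P.π_zero z P.hzJ).2 (Or.inr rfl)

theorem π_zmul {q : G} (hq : q ∈ J) : P.π (z * q) = P.π q := by
  rw [P.π_mul z P.hzJ q hq, P.π_z, zero_add]

theorem π_inv {q : G} (hq : q ∈ J) : P.π q⁻¹ = P.π q := by
  have h := P.π_mul q⁻¹ (inv_mem hq) q hq
  rw [inv_mul_cancel, P.π_one] at h
  rw [← ZModModule.sub_eq_add] at h
  exact sub_eq_zero.1 h.symm

theorem π_eq {q r : G} (hq : q ∈ J) (hr : r ∈ J) (h : P.π q = P.π r) : r = q ∨ r = z * q := by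
  have h0 : P.π (r * q⁻¹) = 0 := by
    rw [P.π_mul r hr _ (inv_mem hq), P.π_inv hq, h]; exact P.R.vv _
  rcases (P.π_zero _ (mul_mem hr (inv_mem hq))).1 h0 with e | e
  · exact Or.inl (mul_inv_eq_one.1 e)
  · exact Or.inr (mul_inv_eq_iff_eq_mul.1 e)

theorem comm_iff {q r : G} (hq : q ∈ J) (hr : r ∈ J) :
    q * r = r * q ↔ P.R.B (P.π q) (P.π r) = 0 := by
  have h := P.comm q hq r hr
  constructor
  · intro e
    rw [← e] at h
    have h1 : zp z (P.R.B (P.π q) (P.π r)) = zp z 0 := by simpa [zp] using h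
    exact zp_inj P.z_ne h1
  · intro e
    rw [e] at h
    simpa [zp] using h.symm

theorem pow_four {q : G} (hq : q ∈ J) : q ^ 4 = 1 := by
  have h := P.sq q hq
  have h2 : zp z (P.R.q (P.π q)) * zp z (P.R.q (P.π q)) = 1 := by
    unfold zp; split_ifs <;> simp [P.z_sq]
  rw [← h] at h2
  simpa [pow_succ, mul_assoc] using h2

theorem cj_mem {c q : G} (hc : c * z = z * c) (hq : q ∈ J) : cj c q ∈ J := P.norm c hc q hq

open Classical in
/-- The induced element of the unitary group. -/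
noncomputable def sg (c : G) : SU4 :=
  if h : c * z = z * c then (P.ρ_mem c h).choose else 1

theorem ρ_eq {c : G} (hc : c * z = z * c) : P.ρ c = P.R.φ (P.sg c) := by
  rw [sg, dif_pos hc]
  exact (P.ρ_mem c hc).choose_spec

theorem sg_eq {c : G} (hc : c * z = z * c) {g : SU4} (h : P.ρ c = P.R.φ g) : P.sg c = g :=
  P.R.inj ((P.ρ_eq hc).symm.trans h)

theorem sg_mul {c d : G} (hc : c * z = z * c) (hd : d * z = z * d) :
    P.sg (c * d) = P.sg c * P.sg d :=
  P.sg_eq (P.cz_mul hc hd) (by rw [P.ρ_mul c d hc hd, P.ρ_eq hc, P.ρ_eq hd, map_mul])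

theorem sg_eq_one {c : G} (hc : c * z = z * c) : P.sg c = 1 ↔ c ∈ J := by
  rw [← P.ρ_ker c hc, P.ρ_eq hc]
  exact ⟨fun h => by rw [h, map_one], fun h => P.R.inj (h.trans (map_one _).symm)⟩

theorem sg_J {q : G} (hq : q ∈ J) : P.sg q = 1 := (P.sg_eq_one (P.cz_J hq)).2 hq

theorem sg_one : P.sg 1 = 1 := P.sg_J J.one_mem

theorem sg_inv {c : G} (hc : c * z = z * c) : P.sg c⁻¹ = (P.sg c)⁻¹ := by
  refine eq_inv_of_mul_eq_one_left ?_
  rw [← P.sg_mul (P.cz_inv hc) hc, inv_mul_cancel, P.sg_one]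

theorem sg_pow {c : G} (hc : c * z = z * c) (n : ℕ) : P.sg (c ^ n) = P.sg c ^ n := by
  induction n with
  | zero => rw [pow_zero, pow_zero, P.sg_one]
  | succ n ih => rw [pow_succ, pow_succ, P.sg_mul (P.cz_pow hc n) hc, ih]

theorem sg_cj {c x : G} (hc : c * z = z * c) (hx : x * z = z * x) :
    P.sg (cj c x) = P.sg c * P.sg x * (P.sg c)⁻¹ := by
  rw [cj, P.sg_mul (P.cz_mul hc hx) (P.cz_inv hc), P.sg_mul hc hx, P.sg_inv hc]

theorem exists_sg (g : SU4) : ∃ c : G, c * z = z * c ∧ P.sg c = g := by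
  obtain ⟨c, hc, h⟩ := P.ρ_range g
  exact ⟨c, hc, P.sg_eq hc h⟩

/-- A lift of exponent `k * m` with the same image. -/
theorem exists_lift {g : SU4} {k m : ℕ} (hg : g ^ k = 1) (hm : g ^ m = g) (h4 : 4 ∣ m) :
    ∃ c : G, c * z = z * c ∧ P.sg c = g ∧ c ^ k = 1 := by
  obtain ⟨c, hc, rfl⟩ := P.exists_sg g
  refine ⟨c ^ m, P.cz_pow hc m, (P.sg_pow hc m).trans hm, ?_⟩
  obtain ⟨l, rfl⟩ := h4
  have hJ : c ^ k ∈ J := (P.sg_eq_one (P.cz_pow hc k)).1 ((P.sg_pow hc k).trans hg)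
  rw [← pow_mul, show 4 * l * k = k * 4 * l by ring, pow_mul, pow_mul, P.pow_four hJ, one_pow]

theorem π_cj {c q : G} (hc : c * z = z * c) (hq : q ∈ J) :
    P.π (cj c q) = P.R.φ (P.sg c) (P.π q) := by
  rw [← P.ρ_eq hc]; exact P.ρ_π c hc q hq

theorem cj_of_fix {c q : G} (hc : c * z = z * c) (hq : q ∈ J)
    (h : P.R.φ (P.sg c) (P.π q) = P.π q) : cj c q = q ∨ cj c q = z * q :=
  P.π_eq hq (P.cj_mem hc hq) ((P.π_cj hc hq).trans h).symm

theorem odd_comm {c q : G} (hc : c * z = z * c) {n : ℕ} (hn : Odd n) (hcn : c ^ n = 1) (hq : q ∈ J)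
    (h : P.R.φ (P.sg c) (P.π q) = P.π q) : c * q = q * c :=
  cj_fix_iff.1 (odd_fix P.z_sq hc hn hcn (P.cj_of_fix hc hq h))

/-- The commutator with an element of the core. -/
theorem π_move {x q : G} (hx : x * z = z * x) (hq : q ∈ J) :
    q * cj x q⁻¹ ∈ J ∧ P.π (q * cj x q⁻¹) = P.R.disp (P.sg x) (P.π q) := by
  refine ⟨mul_mem hq (P.cj_mem hx (inv_mem hq)), ?_⟩
  rw [P.π_mul _ hq _ (P.cj_mem hx (inv_mem hq)), P.π_cj hx (inv_mem hq), P.π_inv hq]
  rfl

theorem cj_eq_move {x q : G} : cj q x = q * cj x q⁻¹ * x := by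
  simp only [cj]; group

end Pre

end Cfsg.Agent.H49.UChar
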