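import Cfsg.Agent.H49.UChar.Line

/-!
Finite facts about the stabiliser of a singular vector in the four-dimensional unitary group: the
transvections orthogonal to it and the subgroups they leave invariant.
-/

set_option autoImplicit false
set_option maxRecDepth 20000
set_option linter.unusedSectionVars false

namespace Cfsg.Agent.H49.UChar

open Cfsg.Agent.Compute
open Cfsg.Agent.H41.SUSix (K4 ω₄ fe fc fe_fc fc_lt fc_fe anyN anyN_iff)
open Cfsg.Agent.H49.USix

/-- The displacement by a transvection. -/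
noncomputable def dif (k : Fin 45) (w : W4) : W4 := hh w (pv k) • pv k

theorem tp_dif (k : Fin 45) (w : W4) : tp k w = w + dif k w := tp_apply k w

theorem dif_eq (k : Fin 45) (w : W4) : dif k w = w + tp k w := by
  rw [tp_dif, ← add_assoc, vec_add_self, zero_add]

/-- Coded displacement. -/
noncomputable def dC (k s : ℕ) : ℕ := sc4 (h4C s (pc k)) (pc k)

/-- Coded transvection. -/
noncomputable def tC (k s : ℕ) : ℕ := Nat.xor s (dC k s)

/-- Coded membership of the multiples of the base point. -/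
noncomputable def inC (s : ℕ) : Bool := anyN 4 (fun c => Nat.beq s (sc4 c (pc 1)))

theorem d4_dC (k : Fin 45) (s : ℕ) : d4 (dC k s) = dif k (d4 s) := by
  rw [dC, d4_sc4 (h4C_spec _ _).1, (h4C_spec _ _).2]
  rfl

theorem d4_tC (k : Fin 45) (s : ℕ) : d4 (tC k s) = tp k (d4 s) := by
  rw [tC, d4_xor, d4_dC, tp_dif]

theorem inC_spec {s : ℕ} (h : inC s = true) : ∃ c : K4, d4 s = c • pv i₀ := by
  obtain ⟨c, hc, e⟩ := (anyN_iff _ _).1 h
  rw [Nat.beq_eq] at e
  exact ⟨fe c, by rw [e, d4_sc4 hc]; rfl⟩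

theorem perp_code {s : ℕ} {k : Fin 45} (h : hh (d4 s) (pv k) = 0) : h4C s (pc k) = 0 := by
  have key : ∀ n < 4, fe n = 0 → n = 0 := by decide
  exact key _ (h4C_spec _ _).1 ((h4C_spec _ _).2.trans h)

theorem nonperp_ok : allN 256 (fun s => Nat.beq (h4C s (pc 1)) 0 ||
    anyN 45 (fun k => adjC 1 k && anyN 45 (fun l => adjC 1 l &&
      Nat.blt 1 (h4C (dC k s) (dC l s))))) = true := by
  decide +kernel

/-- Outside the perp of the point two displacements are not orthogonal. -/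
theorem stab_nonperp {s : W4} (h : hh s (pv i₀) ≠ 0) :
    ∃ k l : Fin 45, Ort i₀ k ∧ Ort i₀ l ∧ pol4 (dif k s) (dif l s) = 1 := by
  obtain ⟨v, rfl⟩ := d4_surj s
  have h' := (allN_iff _ _).1 nonperp_ok v.1 v.2
  simp only [Bool.or_eq_true, Nat.beq_eq, anyN_iff, Bool.and_eq_true, Nat.blt_eq] at h'
  obtain ⟨k, hk, hk1, l, hl, hl1, e⟩ := h'.resolve_left (fun e => h (by
    show hh (d4 v.1) (d4 (pc i₀)) = 0
    rw [← (h4C_spec _ _).2, show ((i₀ : Fin 45) : ℕ) = 1 from rfl, e]; rfl))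
  refine ⟨⟨k, hk⟩, ⟨l, hl⟩, hk1, hl1, ?_⟩
  rw [← d4_dC, ← d4_dC, pol4_eq, ← (h4C_spec _ _).2]
  have key : ∀ n < 4, 1 < n → H41.LFi.trK (fe n) = 1 := by decide +kernel
  exact key _ (h4C_spec _ _).1 e

theorem span_ok : allN 256 (fun s => !Nat.beq (h4C s (pc 1)) 0 || !Nat.beq (h4C s s) 0 || inC s ||
    allN 4 (fun c => anyN 45 (fun k => adjC 1 k && anyN 45 (fun l => adjC 1 l &&
      Nat.beq (Nat.xor (dC k s) (dC l s)) (sc4 c (pc 1)))))) = true := by
  decide +kernel

/-- A singular vector of the perp, not on the point, yields every multiple of the point. -/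
theorem stab_span {s : W4} (h : hh s (pv i₀) = 0) (hw : wt4 s = 0) (hne : ∀ c : K4, s ≠ c • pv i₀)
    (c : K4) : ∃ k l : Fin 45, Ort i₀ k ∧ Ort i₀ l ∧ dif k s + dif l s = c • pv i₀ := by
  obtain ⟨v, rfl⟩ := d4_surj s
  have h' := (allN_iff _ _).1 span_ok v.1 v.2
  have e1 : h4C v.1 (pc 1) = 0 := perp_code (k := i₀) h
  have e2 : h4C v.1 v.1 = 0 := by
    have key : ∀ n < 4, fe n = 0 → n = 0 := by decide
    exact key _ (h4C_spec _ _).1 ((h4C_spec _ _).2.trans ((iso_iff _).2 hw))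
  have e3 : inC v.1 = false := by
    rw [Bool.eq_false_iff]
    intro e
    obtain ⟨d, hd⟩ := inC_spec e
    exact hne d hd
  rw [e1, e2, e3] at h'
  simp only [Nat.beq_refl, Bool.not_true, Bool.false_or, allN_iff, anyN_iff, Bool.and_eq_true,
    Nat.beq_eq] at h'
  obtain ⟨k, hk, hk1, l, hl, hl1, e⟩ := h' (fc c) (fc_lt c)
  refine ⟨⟨k, hk⟩, ⟨l, hl⟩, hk1, hl1, ?_⟩
  rw [← d4_dC, ← d4_dC, ← d4_xor, e, d4_sc4 (fc_lt c), fe_fc]
  rfl

theorem three_ok : allN 256 (fun s => !Nat.beq (h4C s (pc 1)) 0 ||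
    anyN 45 (fun a => adjC 1 a && anyN 45 (fun b => adjC 1 b && anyN 45 (fun c => adjC 1 c &&
      inC (Nat.xor (Nat.xor (Nat.xor s (dC a s)) (dC b s)) (dC c s)))))) = true := by
  decide +kernel

/-- A vector of the perp is a sum of displacements up to the point. -/
theorem stab_three {s : W4} (h : hh s (pv i₀) = 0) : ∃ a b c : Fin 45, Ort i₀ a ∧ Ort i₀ b ∧
    Ort i₀ c ∧ ∃ d : K4, s + dif a s + dif b s + dif c s = d • pv i₀ := by
  obtain ⟨v, rfl⟩ := d4_surj s
  have h' := (allN_iff _ _).1 three_ok v.1 v.2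
  rw [show h4C v.1 (pc 1) = 0 from perp_code (k := i₀) h] at h'
  simp only [Nat.beq_refl, Bool.not_true, Bool.false_or, anyN_iff, Bool.and_eq_true] at h'
  obtain ⟨a, ha, a1, b, hb, b1, c, hc, c1, e⟩ := h'
  obtain ⟨d, hd⟩ := inC_spec e
  refine ⟨⟨a, ha⟩, ⟨b, hb⟩, ⟨c, hc⟩, a1, b1, c1, d, ?_⟩
  rw [← d4_dC, ← d4_dC, ← d4_dC, ← d4_xor, ← d4_xor, ← d4_xor, hd]

/-- Coded combinations of two points off each other's perp. -/
noncomputable def eC (s : ℕ) : ℕ := Nat.xor (sc4 (Nat.div s 4) (pc 15)) (sc4 (Nat.mod s 4) (pc 25))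

theorem decomp_ok : allN 256 (fun w => !Nat.beq (h4C w (pc 1)) 0 ||
    anyN 4 (fun c => anyN 16 (fun s => Nat.beq w (Nat.xor (sc4 c (pc 1)) (eC s))))) = true := by
  decide +kernel

theorem perp_e_ok : allN 16 (fun s => Nat.beq (h4C (eC s) (pc 1)) 0) = true := by
  decide +kernel

/-- Coded non-orthogonality for the polar form. -/
noncomputable def pC (a b : ℕ) : Bool := Nat.blt 1 (h4C (eC a) (eC b))

theorem triple_ok : allN 16 (fun a => Nat.beq a 0 || allN 16 (fun b => Nat.beq b 0 || Nat.beq b a ||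
    allN 16 (fun c => Nat.beq c 0 || Nat.beq c a || Nat.beq c b || Nat.beq c (Nat.xor a b) ||
      pC a b || pC a c || pC b c))) = true := by
  decide +kernel

/-- An isotropic subgroup of the perp of the point has at most sixteen elements. -/
theorem iso_bound {S : AddSubgroup W4} (hperp : ∀ s ∈ S, hh s (pv i₀) = 0)
    (hp : ∀ u ∈ S, ∀ v ∈ S, pol4 u v = 0) : Nat.card ↥S ≤ 16 := by
  classical
  have hdec : ∀ w : ↥S, ∃ (c : K4) (s : Fin 16), w.1 = c • pv i₀ + d4 (eC s) := fun w => by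
    obtain ⟨v, hv⟩ := d4_surj w.1
    have h := (allN_iff _ _).1 decomp_ok v.1 v.2
    rw [show h4C v.1 (pc 1) = 0 from perp_code (k := i₀) (by rw [hv]; exact hperp _ w.2)] at h
    simp only [Nat.beq_refl, Bool.not_true, Bool.false_or, anyN_iff, Nat.beq_eq] at h
    obtain ⟨c, hc, s, hs, e⟩ := h
    exact ⟨fe c, ⟨s, hs⟩, by rw [← hv, e, d4_xor, d4_sc4 hc]; rfl⟩
  choose cf sf hsf using hdec
  have hpol : ∀ u v : ↥S, pC (sf u) (sf v) = false := by
    intro u v
    have hperp' : ∀ s : Fin 16, hh (d4 (eC s)) (pv i₀) = 0 := fun s => by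
      have h := (allN_iff _ _).1 perp_e_ok s.1 s.2
      rw [Nat.beq_eq] at h
      show hh (d4 (eC s)) (d4 (pc i₀)) = 0
      rw [← (h4C_spec _ _).2, show ((i₀ : Fin 45) : ℕ) = 1 from rfl, h]
      rfl
    have e := hp u.1 u.2 v.1 v.2
    rw [hsf u, hsf v, pol4_eq] at e
    simp only [hh_add_left, hh_add_right, hh_smul_left, hh_smul_right, pv_iso, hperp',
      hh_zero_symm.1 (hperp' _), mul_zero, add_zero, zero_add] at e
    rw [pC, Bool.eq_false_iff]
    intro hb
    rw [Nat.blt_eq] at hb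
    have key : ∀ n < 4, 1 < n → H41.LFi.trK (fe n) = 1 := by decide +kernel
    have h1 := key _ (h4C_spec (eC (sf u)) (eC (sf v))).1 hb
    rw [(h4C_spec _ _).2, e] at h1
    exact absurd h1 (by decide)
  have := Fintype.ofFinite ↥S
  let T : Finset ℕ := Finset.univ.image fun w => (sf w).val
  have hT : T.card ≤ 4 := by
    by_contra hc
    obtain ⟨a, ha, a0⟩ : ∃ a ∈ T, a ∉ ({0} : Finset ℕ) := Finset.exists_mem_notMem_of_card_lt_card
      (by rw [Finset.card_singleton]; omega)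
    obtain ⟨b, hb, b0⟩ : ∃ b ∈ T, b ∉ ({0, a} : Finset ℕ) := Finset.exists_mem_notMem_of_card_lt_card
      (lt_of_le_of_lt Finset.card_le_two (by omega))
    obtain ⟨c, hcT, c0⟩ : ∃ c ∈ T, c ∉ ({0, a, b, Nat.xor a b} : Finset ℕ) :=
      Finset.exists_mem_notMem_of_card_lt_card (lt_of_le_of_lt Finset.card_le_four (by omega))
    obtain ⟨u, -, rfl⟩ := Finset.mem_image.1 ha
    obtain ⟨v, -, rfl⟩ := Finset.mem_image.1 hb
    obtain ⟨w, -, rfl⟩ := Finset.mem_image.1 hcT
    simp only [Finset.mem_insert, Finset.mem_singleton, not_or] at a0 b0 c0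
    have h := (allN_iff _ _).1 triple_ok (sf u) (sf u).2
    have f : ∀ x y : ℕ, x ≠ y → Nat.beq x y = false := fun x y hxy =>
      Bool.eq_false_iff.2 fun e => hxy (Nat.eq_of_beq_eq_true e)
    rw [f _ _ a0, Bool.false_or] at h
    have h' := (allN_iff _ _).1 h (sf v) (sf v).2
    rw [f _ _ b0.1, f _ _ b0.2, Bool.false_or, Bool.false_or] at h'
    have h'' := (allN_iff _ _).1 h' (sf w) (sf w).2
    rw [f _ _ c0.1, f _ _ c0.2.1, f _ _ c0.2.2.1, f _ _ c0.2.2.2, hpol u v, hpol u w, hpol v w] at h''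
    exact Bool.false_ne_true h''
  let f : ↥S → K4 × ↥T := fun w =>
    (cf w, ⟨(sf w).val, Finset.mem_image_of_mem (fun w => (sf w).val) (Finset.mem_univ w)⟩)
  refine le_trans (Nat.card_le_card_of_injective f fun u v e => ?_) ?_
  · simp only [f, Prod.mk.injEq, Subtype.mk.injEq] at e
    exact Subtype.ext (by rw [hsf u, hsf v, e.1, Fin.ext e.2])
  · rw [Nat.card_prod, Nat.card_eq_fintype_card (α := K4), H41.SUSix.hK, Nat.card_eq_fintype_card,
      Fintype.card_coe]
    omega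

/-- Coded product of two transvections. -/
noncomputable def gC (a b w : ℕ) : ℕ := tC a (tC b w)

theorem pair_ok : allN 45 (fun a => allN 45 (fun b =>
    !(adjC 1 a && adjC 1 b && adjC a b) || Nat.beq a b || Nat.beq a 1 || Nat.beq b 1 ||
    anyN 45 (fun k => adjC 1 k && anyN 45 (fun l => adjC 1 l &&
      (anyN 4 (fun m => anyN 4 (fun n =>
          !Nat.beq (h4C (gC a b (gC (mvC k (mvC l a)) (mvC k (mvC l b)) (Nat.pow 4 m))) (Nat.pow 4 n))
          (h4C (gC (mvC k (mvC l a)) (mvC k (mvC l b)) (gC a b (Nat.pow 4 m))) (Nat.pow 4 n)))) ||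
       allN 4 (fun m => Nat.beq (gC a b (gC (mvC k (mvC l a)) (mvC k (mvC l b)) (Nat.pow 4 m)))
          (tC 1 (Nat.pow 4 m)))))))) = true := by
  decide +kernel

theorem d4_pow : ∀ m : Fin 4, d4 (Nat.pow 4 m) = Pi.single m (1 : K4) := by decide +kernel

/-- A pair of orthogonal transvections beside the point has a conjugate not commuting with it or
multiplying it to the transvection of the point. -/
theorem pair_central {a b : Fin 45} (ha : Ort i₀ a) (hb : Ort i₀ b) (hab : Ort a b) (hne : a ≠ b)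
    (ha0 : a ≠ i₀) (hb0 : b ≠ i₀) : ∃ k l : Fin 45, Ort i₀ k ∧ Ort i₀ l ∧
      let g := tp a * tp b
      let g' := (tp k * tp l) * g * (tp k * tp l)⁻¹
      g * g' ≠ g' * g ∨ g * g' = tp i₀ := by
  have h := (allN_iff _ _).1 ((allN_iff _ _).1 pair_ok a a.2) b b.2
  have e1 : adjC 1 a = true := ha
  have e2 : adjC 1 b = true := hb
  have e3 : adjC a b = true := hab
  rw [e1, e2, e3] at h
  simp only [Bool.and_self, Bool.not_true, Bool.false_or, Bool.or_eq_true, Nat.beq_eq, anyN_iff,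
    Bool.and_eq_true, Bool.not_eq_true'] at h
  rcases h with ((h | h) | h) | ⟨k, hk, k1, l, hl, l1, h⟩
  · exact absurd (Fin.ext h) hne
  · exact absurd (Fin.ext h) ha0
  · exact absurd (Fin.ext h) hb0
  refine ⟨⟨k, hk⟩, ⟨l, hl⟩, k1, l1, ?_⟩
  intro g g'
  have hkl := (tp_iso ⟨k, hk⟩).mul (tp_iso ⟨l, hl⟩)
  let a' : Fin 45 := act (tp ⟨k, hk⟩ * tp ⟨l, hl⟩) a
  let b' : Fin 45 := act (tp ⟨k, hk⟩ * tp ⟨l, hl⟩) b
  have va : (a' : ℕ) = mvC k (mvC l a) := by
    simp only [a', act_mul (tp_iso _) (tp_iso _), act_tp]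
  have vb : (b' : ℕ) = mvC k (mvC l b) := by
    simp only [b', act_mul (tp_iso _) (tp_iso _), act_tp]
  have hg' : g' = tp a' * tp b' := by
    rw [← conj_tp hkl, ← conj_tp hkl]
    simp only [g', g]
    group
  have hd : ∀ (p q : Fin 45) (w : ℕ), (tp p * tp q) (d4 w) = d4 (gC p q w) := fun p q w => by
    rw [gC, d4_tC, d4_tC]; rfl
  rcases h with h | h
  · obtain ⟨m, -, n, -, e⟩ := h
    refine Or.inl fun ec => ?_
    rw [← va, ← vb] at e
    have e' := congrArg (fun f : Equiv.Perm W4 => hh (f (d4 (Nat.pow 4 m))) (d4 (Nat.pow 4 n))) ec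
    simp only [hg', g, Equiv.Perm.mul_apply (tp a * tp b), Equiv.Perm.mul_apply (tp a' * tp b'), hd,
      ← (h4C_spec _ _).2] at e'
    have key : ∀ x < 4, ∀ y < 4, fe x = fe y → x = y := by decide +kernel
    have := key _ (h4C_spec _ _).1 _ (h4C_spec _ _).1 e'
    rw [this, Nat.beq_refl] at e
    exact Bool.false_ne_true e.symm
  · refine Or.inr (Iso.ext_basis (((tp_iso a).mul (tp_iso b)).mul ?_) (tp_iso i₀) fun m => ?_)
    · rw [hg']; exact (tp_iso a').mul (tp_iso b')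
    · rw [allN_iff] at h
      have e := h m m.2
      rw [Nat.beq_eq, ← va, ← vb] at e
      rw [← d4_pow m, Equiv.Perm.mul_apply g g', hg', hd, hd, e]
      show d4 (tC 1 _) = tp i₀ _
      rw [← d4_tC]
      rfl

end Cfsg.Agent.H49.UChar
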