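import Cfsg.Agent.H49.UChar.TwoBasic
import Mathlib.GroupTheory.Transfer

/-!
The transfer of the outer half of an involution centraliser: the orbits fixed by a two-group.
-/

set_option autoImplicit false
set_option maxRecDepth 20000
set_option linter.unusedSectionVars false
set_option linter.style.haveILetI false

namespace Cfsg.Agent.H49.UChar

open Cfsg
open Cfsg.Agent.H49.USix
open H76.LocallyS3 (cj cj_cj cj_injective)

theorem prod_two (s : Multiplicative (ZMod 2)) : s ^ 2 = 1 := by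
  revert s; decide

theorem two_val : ∀ s : Multiplicative (ZMod 2), s ≠ 1 → s = Multiplicative.ofAdd 1 := by decide

/-- A product over a set with an invariant value is the product over the fixed points. -/
theorem prod_fixed {D Ω : Type*} [Group D] [MulAction D Ω] [Fintype Ω] [DecidableEq Ω]
    (hD : IsPGroup 2 D) (f : Ω → Multiplicative (ZMod 2)) (hf : ∀ (δ : D) (Q : Ω), f (δ • Q) = f Q)
    (Q₀ : Ω) (h₀ : ∀ δ : D, δ • Q₀ = Q₀)
    (h : ∀ Q, Q ≠ Q₀ → (∀ δ : D, δ • Q = Q) → f Q = 1) : ∏ Q, f Q = f Q₀ := by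
  classical
  haveI : Fact (Nat.Prime 2) := ⟨Nat.prime_two⟩
  rw [← Finset.mul_prod_erase _ _ (Finset.mem_univ Q₀)]
  suffices e : ∏ Q ∈ Finset.univ.erase Q₀, f Q = 1 by rw [e, mul_one]
  set A : Finset Ω := (Finset.univ.erase Q₀).filter fun Q => f Q ≠ 1 with hA
  have hv : ∀ Q ∈ A, f Q = Multiplicative.ofAdd 1 := fun Q hQ => by
    exact two_val _ (Finset.mem_filter.1 hQ).2
  rw [← Finset.prod_filter_ne_one, ← hA, Finset.prod_congr rfl hv, Finset.prod_const]
  let S : SubMulAction D Ω :=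
    { carrier := {Q | Q ∈ A}
      smul_mem' := fun δ Q hQ => by
        obtain ⟨hne, hf'⟩ := Finset.mem_filter.1 hQ
        refine Finset.mem_filter.2 ⟨Finset.mem_erase.2 ⟨fun e => ?_, Finset.mem_univ _⟩, by rwa [hf]⟩
        exact (Finset.mem_erase.1 hne).1 (by rw [← inv_smul_smul δ Q, e, h₀]) }
  have hfix : MulAction.fixedPoints D ↥S = ∅ := by
    ext ⟨Q, hQ⟩
    simp only [MulAction.mem_fixedPoints, Set.mem_empty_iff_false, iff_false]
    intro hall
    exact (Finset.mem_filter.1 hQ).2 (h Q (Finset.mem_erase.1 (Finset.mem_filter.1 hQ).1).1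
      fun δ => congrArg Subtype.val (hall δ))
  have hmod := hD.card_modEq_card_fixedPoints ↥S
  rw [show Nat.card ↥(MulAction.fixedPoints D ↥S) = 0 by rw [hfix]; simp,
    show Nat.card ↥S = A.card from Nat.card_eq_finsetCard A] at hmod
  obtain ⟨k, hk⟩ := Nat.modEq_zero_iff_dvd.1 hmod
  rw [hk, pow_mul, prod_two, one_pow]

variable {G : Type*} [Group G]

open MulAction in
open Classical in
/-- The transfer into a group of order two at an element centralised by a two-group. -/
theorem transfer_fixed [Finite G] {H : Subgroup G} (φ : ↥H →* Multiplicative (ZMod 2)) {a : G}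
    (ha : a ∈ H) {D : Subgroup G} (hD : IsPGroup 2 ↥D) (hDH : D ≤ H) (hc : ∀ δ ∈ D, δ * a = a * δ)
    (h : ∀ g : G, g ∉ H → ∀ m : ℕ, m = Function.minimalPeriod (a • ·) (g : G ⧸ H) →
      (∀ δ ∈ D, ∃ n : ℕ, δ • (g : G ⧸ H) = a ^ n • (g : G ⧸ H)) →
      ∀ hm : g⁻¹ * a ^ m * g ∈ H, φ ⟨_, hm⟩ = 1) :
    MonoidHom.transfer φ a = φ ⟨a, ha⟩ := by
  haveI : Fintype (Quotient (orbitRel (Subgroup.zpowers a) (G ⧸ H))) := Fintype.ofFinite _
  set r := orbitRel (Subgroup.zpowers a) (G ⧸ H) with hr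
  have hrel : ∀ q q' : G ⧸ H, r.r q q' ↔ ∃ n : ℕ, q = a ^ n • q' := by
    intro q q'
    show q ∈ orbit (Subgroup.zpowers a) q' ↔ _
    constructor
    · rintro ⟨⟨y, hy⟩, rfl⟩
      obtain ⟨n, -, rfl⟩ := Finset.mem_image.1 (mem_zpowers_iff_mem_range_orderOf.1 hy)
      exact ⟨n, rfl⟩
    · rintro ⟨n, rfl⟩
      exact ⟨⟨a ^ n, Subgroup.npow_mem_zpowers a n⟩, rfl⟩
  have hcn : ∀ δ ∈ D, ∀ n : ℕ, δ * a ^ n = a ^ n * δ := fun δ hδ n =>
    ((show Commute δ a from hc δ hδ).pow_right n).eq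
  have hwd : ∀ (δ : ↥D) (q q' : G ⧸ H), r.r q q' → r.r (δ.1 • q) (δ.1 • q') := by
    intro δ q q' hq
    obtain ⟨n, rfl⟩ := (hrel q q').1 hq
    exact (hrel _ _).2 ⟨n, by rw [smul_smul, hcn _ δ.2, ← smul_smul]⟩
  let inst : MulAction ↥D (Quotient r) :=
    { smul := fun δ => Quotient.map' (δ.1 • ·) fun q q' hq => hwd δ q q' hq
      one_smul := fun Q => Quotient.inductionOn' Q fun q => congrArg (Quotient.mk'') (one_smul G q)
      mul_smul := fun δ ε Q => Quotient.inductionOn' Q fun q =>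
        congrArg (Quotient.mk'') (mul_smul δ.1 ε.1 q) }
  have hsm : ∀ (δ : ↥D) (q : G ⧸ H), δ • (Quotient.mk r q) = Quotient.mk r (δ.1 • q) := fun δ q => rfl
  rw [MonoidHom.transfer_eq_prod_quotient_orbitRel_zpowers_quot]
  set f : Quotient r → Multiplicative (ZMod 2) := fun Q => φ
    ⟨Q.out.out⁻¹ * a ^ Function.minimalPeriod (a • ·) Q.out * Q.out.out,
      QuotientGroup.out_conj_pow_minimalPeriod_mem H a Q.out⟩ with hfdef
  show ∏ Q, f Q = _
  -- the value through any representative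
  have hval : ∀ (g : G) (Q : Quotient r), r.r Q.out (g : G ⧸ H) →
      ∃ hm : g⁻¹ * a ^ Function.minimalPeriod (a • ·) (g : G ⧸ H) * g ∈ H, f Q = φ ⟨_, hm⟩ := by
    intro g Q hQ
    obtain ⟨n, hn⟩ := (hrel _ _).1 hQ
    have hper : Function.minimalPeriod (a • ·) Q.out = Function.minimalPeriod (a • ·) (g : G ⧸ H) := by
      rw [hn]
      have := Function.minimalPeriod_apply_iterate (f := fun x : G ⧸ H => a • x) (x := (g : G ⧸ H))
        (Function.Injective.mem_periodicPts (MulAction.injective (β := G ⧸ H) a) _) n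
      rwa [smul_iterate] at this
    have hmk : (Q.out.out : G ⧸ H) = ((a ^ n * g : G) : G ⧸ H) := by
      rw [QuotientGroup.out_eq', hn]; rfl
    have hk : (a ^ n * g)⁻¹ * Q.out.out ∈ H := QuotientGroup.eq.1 hmk.symm
    set k := (a ^ n * g)⁻¹ * Q.out.out with hkdef
    set m := Function.minimalPeriod (a • ·) (g : G ⧸ H)
    have hQm : Q.out.out⁻¹ * a ^ m * Q.out.out ∈ H :=
      hper ▸ QuotientGroup.out_conj_pow_minimalPeriod_mem H a Q.out
    have e : Q.out.out⁻¹ * a ^ m * Q.out.out = k⁻¹ * (g⁻¹ * a ^ m * g) * k := by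
      rw [show Q.out.out = a ^ n * g * k by rw [hkdef, mul_inv_cancel_left]]
      calc (a ^ n * g * k)⁻¹ * a ^ m * (a ^ n * g * k) =
          k⁻¹ * g⁻¹ * ((a ^ n)⁻¹ * (a ^ m * a ^ n)) * g * k := by group
        _ = k⁻¹ * g⁻¹ * a ^ m * g * k := by
          rw [← pow_add, Nat.add_comm m n, pow_add, inv_mul_cancel_left]
        _ = _ := by group
    have hm : g⁻¹ * a ^ m * g ∈ H := by
      have := mul_mem (mul_mem hk (e ▸ hQm)) (inv_mem hk)
      rwa [show k * (k⁻¹ * (g⁻¹ * a ^ m * g) * k) * k⁻¹ = g⁻¹ * a ^ m * g by group] at this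
    refine ⟨hm, ?_⟩
    have e2 : f Q = φ (⟨k, hk⟩⁻¹ * ⟨_, hm⟩ * ⟨k, hk⟩) := by
      refine congrArg φ (Subtype.ext ?_)
      show Q.out.out⁻¹ * a ^ Function.minimalPeriod (a • ·) Q.out * Q.out.out = _
      rw [hper]; exact e
    rw [e2, map_mul, map_mul, map_inv, mul_right_comm, inv_mul_cancel, one_mul]
  have hperiod1 : Function.minimalPeriod (a • ·) ((1 : G) : G ⧸ H) = 1 := by
    refine Function.minimalPeriod_eq_one_iff_isFixedPt.2 ?_
    show ((a * 1 : G) : G ⧸ H) = ((1 : G) : G ⧸ H)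
    rw [QuotientGroup.eq]; simpa using ha
  rw [prod_fixed hD f ?_ (Quotient.mk r ((1 : G) : G ⧸ H)) ?_ ?_]
  · obtain ⟨hm, e⟩ := hval 1 (Quotient.mk r ((1 : G) : G ⧸ H)) (Quotient.mk_out (s := r) _)
    rw [e]
    refine congrArg φ (Subtype.ext ?_)
    show (1 : G)⁻¹ * a ^ _ * 1 = a
    rw [hperiod1, pow_one, inv_one, one_mul, mul_one]
  · intro δ Q
    set g := Q.out.out with hg
    obtain ⟨hm, e⟩ := hval g Q (by rw [hg, QuotientGroup.out_eq'])
    obtain ⟨hm', e'⟩ := hval (δ.1 * g) (δ • Q) (by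
      have h1 : δ • Q = Quotient.mk r ((δ.1 * g : G) : G ⧸ H) := by
        conv_lhs => rw [← Quotient.out_eq Q]
        rw [hsm, show ((δ.1 * g : G) : G ⧸ H) = δ.1 • (g : G ⧸ H) from rfl, hg, QuotientGroup.out_eq']
      rw [h1]
      exact Quotient.mk_out (s := r) _)
    have hp : Function.minimalPeriod (a • ·) ((δ.1 * g : G) : G ⧸ H) =
        Function.minimalPeriod (a • ·) (g : G ⧸ H) := by
      refine Function.minimalPeriod_eq_minimalPeriod_iff.2 fun n => ?_
      show (a • ·)^[n] _ = _ ↔ (a • ·)^[n] _ = _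
      rw [smul_iterate]
      show a ^ n • δ.1 • (g : G ⧸ H) = δ.1 • (g : G ⧸ H) ↔ a ^ n • (g : G ⧸ H) = (g : G ⧸ H)
      rw [smul_smul, ← hcn _ δ.2, ← smul_smul]
      exact (MulAction.injective δ.1).eq_iff
    rw [e, e']
    refine congrArg φ (Subtype.ext ?_)
    show (δ.1 * g)⁻¹ * a ^ _ * (δ.1 * g) = g⁻¹ * a ^ _ * g
    rw [hp]
    calc (δ.1 * g)⁻¹ * a ^ Function.minimalPeriod (a • ·) (g : G ⧸ H) * (δ.1 * g) =
        g⁻¹ * (δ.1⁻¹ * (a ^ Function.minimalPeriod (a • ·) (g : G ⧸ H) * δ.1)) * g := by group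
      _ = _ := by rw [← hcn _ δ.2, inv_mul_cancel_left]
  · intro δ
    rw [hsm]
    refine congrArg (Quotient.mk r) ?_
    show ((δ.1 * 1 : G) : G ⧸ H) = _
    rw [QuotientGroup.eq]; simpa using hDH δ.2
  · intro Q hne hfix
    set g := Q.out.out with hg
    obtain ⟨hm, e⟩ := hval g Q (by rw [hg, QuotientGroup.out_eq'])
    rw [e]
    refine h g (fun hgH => hne ?_) _ rfl (fun δ hδ => ?_) hm
    · rw [← Quotient.out_eq Q, ← QuotientGroup.out_eq' Q.out, ← hg]
      refine congrArg (Quotient.mk r) ?_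
      rw [QuotientGroup.eq]; simpa using hgH
    · rw [← (hrel _ _), hg, QuotientGroup.out_eq']
      have := hfix ⟨δ, hδ⟩
      rw [← Quotient.out_eq Q, hsm] at this
      exact Quotient.exact this

namespace Two

variable [Finite G] {z : G} {J : Subgroup G} (P : Two z J)
include P

open Classical in
/-- The sign of the outer half. -/
noncomputable def chi : ↥(Subgroup.centralizer ({z} : Set G)) →* Multiplicative (ZMod 2) :=
  MonoidHom.mk' (fun c => if P.Inn c.1 then 1 else Multiplicative.ofAdd 1) fun c d => by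
    have h := P.inn_mul_iff (Subgroup.mem_centralizer_singleton_iff.1 c.2)
      (Subgroup.mem_centralizer_singleton_iff.1 d.2)
    simp only [Subgroup.coe_mul]
    by_cases h1 : P.Inn c.1 <;> by_cases h2 : P.Inn d.1 <;> simp [h, h1, h2] <;> decide

open Classical in
theorem chi_one {c : ↥(Subgroup.centralizer ({z} : Set G))} : P.chi c = 1 ↔ P.Inn c.1 := by
  show (if P.Inn c.1 then (1 : Multiplicative (ZMod 2)) else Multiplicative.ofAdd 1) = 1 ↔ _
  split_ifs with h
  · simp [h]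
  · simp [h]

/-- The transfer of the sign at an element squaring into `⟨z⟩`. -/
theorem transfer_value {a : G} (ha : a * z = z * a) (h2 : a * a = 1 ∨ a * a = z)
    (hA : ∀ g : G, cj g z * z = z * cj g z → cj g z * a = a * cj g z →
      (∀ δ ∈ J, δ * a = a * δ → δ * cj g z = cj g z * δ) → cj g z = z)
    (hB : a * a = z → ∀ g : G, cj g z * z = z * cj g z →
      (∀ δ ∈ J, ∀ δ' ∈ J, δ * a = a * δ → δ' * a = a * δ' → δ * cj g z ≠ cj g z * δ →
        δ' * cj g z ≠ cj g z * δ' → δ⁻¹ * δ' * cj g z = cj g z * (δ⁻¹ * δ')) → P.Inn (cj g⁻¹ z)) :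
    MonoidHom.transfer P.chi a = P.chi ⟨a, Subgroup.mem_centralizer_singleton_iff.2 ha⟩ := by
  have hfixes : ∀ (g b : G), b • (g : G ⧸ Subgroup.centralizer ({z} : Set G)) = g ↔
      b * cj g z = cj g z * b := by
    intro g b
    show ((b * g : G) : G ⧸ Subgroup.centralizer ({z} : Set G)) = (g : G ⧸ Subgroup.centralizer ({z} : Set G)) ↔ _
    rw [eq_comm, QuotientGroup.eq, Subgroup.mem_centralizer_singleton_iff]
    constructor
    · intro h
      calc b * cj g z = g * (g⁻¹ * (b * g) * z) * g⁻¹ := by simp only [cj]; group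
        _ = g * (z * (g⁻¹ * (b * g))) * g⁻¹ := by rw [h]
        _ = cj g z * b := by simp only [cj]; group
    · intro h
      calc g⁻¹ * (b * g) * z = g⁻¹ * (b * cj g z) * g := by simp only [cj]; group
        _ = g⁻¹ * (cj g z * b) * g := by rw [h]
        _ = z * (g⁻¹ * (b * g)) := by simp only [cj]; group
  refine transfer_fixed P.chi _ (D := J ⊓ Subgroup.centralizer ({a} : Set G))
    (fun x => ⟨2, Subtype.ext (P.pow_four x.2.1)⟩) (fun x hx =>
      Subgroup.mem_centralizer_singleton_iff.2 (P.le x hx.1))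
    (fun x hx => Subgroup.mem_centralizer_singleton_iff.1 hx.2) fun g hg m hm hall hmem => ?_
  rw [P.chi_one]
  show P.Inn (g⁻¹ * a ^ m * g)
  have mem : ∀ {δ : G}, δ ∈ J → δ * a = a * δ → δ ∈ J ⊓ Subgroup.centralizer ({a} : Set G) :=
    fun hδ h => ⟨hδ, Subgroup.mem_centralizer_singleton_iff.2 h⟩
  set q : G ⧸ Subgroup.centralizer ({z} : Set G) := (g : G ⧸ Subgroup.centralizer ({z} : Set G)) with hq
  have hit : ∀ n : ℕ, a ^ n • q = a ^ (n % m) • q := by
    intro n
    have := Function.iterate_mod_minimalPeriod_eq (f := (a • ·)) (x := q) (n := n)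
    rw [← hm, smul_iterate, smul_iterate] at this
    exact this.symm
  have hz1 : z * a = a * z := ha.symm
  by_cases hm1 : m = 1
  · exfalso
    have hfix : ∀ n : ℕ, a ^ n • q = q := fun n => by rw [hit n, hm1, Nat.mod_one, pow_zero, one_smul]
    have hDx : ∀ δ ∈ J, δ * a = a * δ → δ * cj g z = cj g z * δ := fun δ hδ hδa => by
      obtain ⟨n, hn⟩ := hall δ (mem hδ hδa)
      exact (hfixes g δ).1 (hn.trans (hfix n))
    have hxz : z * cj g z = cj g z * z := hDx z P.hzJ hz1
    have hx := hA g hxz.symm (((hfixes g a).1 (by have h' := hfix 1; rwa [pow_one] at h')).symm) hDx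
    exact hg (Subgroup.mem_centralizer_singleton_iff.2 (cj_fix_iff.1 hx))
  · have h4 : a ^ 4 = 1 := by
      have : a ^ 4 = a * a * (a * a) := by simp [pow_succ, mul_assoc]
      rcases h2 with e | e <;> simp [this, e, P.z_sq]
    have hdvd : m ∣ 4 := by
      rw [hm]
      refine Function.IsPeriodicPt.minimalPeriod_dvd ?_
      show (a • ·)^[4] q = q
      rw [smul_iterate, h4]; exact one_smul _ _
    have hpos : 0 < m := Nat.pos_of_dvd_of_pos hdvd (by norm_num)
    by_cases hm4 : a ^ m = 1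
    · rw [hm4, mul_one, inv_mul_cancel]; exact P.inn_J J.one_mem
    have hm2 : m = 2 := by
      have : m ≤ 4 := Nat.le_of_dvd (by norm_num) hdvd
      interval_cases m
      · exact absurd rfl hm1
      · rfl
      · norm_num at hdvd
      · exact absurd h4 hm4
    have haz : a * a = z := h2.resolve_left fun e => hm4 (by rw [hm2, pow_two, e])
    have hxz : cj g z * z = z * cj g z := by
      refine ((hfixes g z).1 ?_).symm
      have := hit 2
      rwa [hm2, Nat.mod_self, pow_zero, one_smul, pow_two, haz] at this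
    rw [hm2, pow_two, haz, show g⁻¹ * z * g = cj g⁻¹ z by simp [cj]]
    refine hB haz g hxz fun δ hδ δ' hδ' hδa hδ'a hn hn' => ?_
    have key : ∀ ε : G, ε ∈ J → ε * a = a * ε → ε * cj g z ≠ cj g z * ε → ε • q = a • q := by
      intro ε hε hεa hne
      obtain ⟨n, e⟩ := hall ε (mem hε hεa)
      rw [hit n, hm2] at e
      rcases Nat.mod_two_eq_zero_or_one n with h0 | h0 <;> rw [h0] at e
      · rw [pow_zero, one_smul] at e
        exact absurd ((hfixes g ε).1 e) hne
      · rwa [pow_one] at e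
    refine (hfixes g _).1 ?_
    rw [mul_smul, key δ' hδ' hδ'a hn', ← key δ hδ hδa hn, inv_smul_smul]

end Two

end Cfsg.Agent.H49.UChar
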