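import Cfsg.Agent.H49.UChar.NoQ
import Cfsg.Agent.H49.USix.InvolClass

/-!
When the squares over pairs in the plane group are `z`, the involution `z` is isolated.
-/

set_option autoImplicit false
set_option maxRecDepth 20000
set_option linter.unusedSectionVars false
set_option maxHeartbeats 800000

namespace Cfsg.Agent.H49.UChar

open Cfsg
open Cfsg.Agent.H41.SUSix (K4)
open Cfsg.Agent.H92.ExtraForm (zp)
open Cfsg.Agent.H49.USix
open H76.LocallyS3 (cj cj_cj cj_injective)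

/-- A group of exponent four with one involution and squares and commutators in its span has order
at most eight. -/
theorem card_le_eight {E : Type*} [Group E] [Finite E] {c : E} (hc : c ≠ 1)
    (hcomm : ∀ a : E, a * c = c * a) (hsq : ∀ a : E, a * a = 1 ∨ a * a = c)
    (huniq : ∀ a : E, a * a = 1 → a = 1 ∨ a = c) : Nat.card E ≤ 8 := by
  classical
  have := Fintype.ofFinite E
  have c2 : c * c = 1 := (hsq c).resolve_right fun e => hc (mul_eq_left.1 e)
  have sqc : ∀ a : E, a ≠ 1 → a ≠ c → a * a = c := fun a h1 h2 =>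
    (hsq a).resolve_left fun e => (huniq a e).elim h1 h2
  have anti : ∀ a b : E, a ≠ 1 → a ≠ c → b ≠ 1 → b ≠ c → a * b ≠ 1 → a * b ≠ c →
      b * a = c * (a * b) := by
    intro a b a1 a2 b1 b2 h1 h2
    calc b * a = a⁻¹ * (a * b * (a * b)) * b⁻¹ := by group
      _ = a⁻¹ * c * b⁻¹ := by rw [sqc _ h1 h2]
      _ = c * a * c * (c * b) := by
        rw [inv_eq_of_mul_eq_one_right (show a * (c * a) = 1 by
            rw [← mul_assoc, hcomm a, mul_assoc, sqc a a1 a2, c2]),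
          inv_eq_of_mul_eq_one_right (show b * (c * b) = 1 by
            rw [← mul_assoc, hcomm b, mul_assoc, sqc b b1 b2, c2])]
      _ = c * (a * b) := by rw [mul_assoc (c * a), ← mul_assoc c c, c2, one_mul, mul_assoc]
  by_contra hgt
  rw [Nat.card_eq_fintype_card, ← Finset.card_univ] at hgt
  obtain ⟨a, -, ha⟩ : ∃ a ∈ (Finset.univ : Finset E), a ∉ ({1, c} : Finset E) :=
    Finset.exists_mem_notMem_of_card_lt_card (lt_of_le_of_lt Finset.card_le_two (by omega))
  obtain ⟨b, -, hb⟩ : ∃ b ∈ (Finset.univ : Finset E), b ∉ ({1, c, a⁻¹, a⁻¹ * c} : Finset E) :=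
    Finset.exists_mem_notMem_of_card_lt_card (lt_of_le_of_lt Finset.card_le_four (by omega))
  obtain ⟨d, -, hd⟩ : ∃ d ∈ (Finset.univ : Finset E), d ∉ ({1, c, a⁻¹, a⁻¹ * c} : Finset E) ∪
      ({b⁻¹, b⁻¹ * c, (a * b)⁻¹, (a * b)⁻¹ * c} : Finset E) :=
    Finset.exists_mem_notMem_of_card_lt_card (lt_of_le_of_lt (Finset.card_union_le _ _)
      (lt_of_le_of_lt (Nat.add_le_add Finset.card_le_four Finset.card_le_four) (by omega)))
  simp only [Finset.mem_union, Finset.mem_insert, Finset.mem_singleton, not_or] at ha hb hd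
  obtain ⟨⟨d1, d2, d3, d4⟩, d5, d6, d7, d8⟩ := hd
  have e : ∀ p q : E, q ≠ p⁻¹ → q ≠ p⁻¹ * c → p * q ≠ 1 ∧ p * q ≠ c := fun p q h1 h2 =>
    ⟨fun h => h1 (eq_inv_of_mul_eq_one_right h), fun h => h2 (eq_inv_mul_iff_mul_eq.2 h)⟩
  obtain ⟨u1, u2⟩ := e a b hb.2.2.1 hb.2.2.2
  have hab := anti a b ha.1 ha.2 hb.1 hb.2.1 u1 u2
  have had := anti a d ha.1 ha.2 d1 d2 (e a d d3 d4).1 (e a d d3 d4).2
  have hbd := anti b d hb.1 hb.2.1 d1 d2 (e b d d5 d6).1 (e b d d5 d6).2
  have hud := anti (a * b) d u1 u2 d1 d2 (e _ d d7 d8).1 (e _ d d7 d8).2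
  have hcm : d * (a * b) = a * b * d := by
    calc d * (a * b) = d * a * b := by group
      _ = c * a * (d * b) := by rw [had]; group
      _ = c * (a * c) * (b * d) := by rw [hbd]; group
      _ = c * c * (a * (b * d)) := by rw [hcomm a]; group
      _ = a * b * d := by rw [c2, one_mul, mul_assoc]
  rw [hcm] at hud
  exact hc (mul_eq_right.1 hud.symm)

/-- Vectors orthogonal to the perp of the base point are multiples of it. -/
theorem mem_point_of_perp {u : W4} (h : ∀ w, hh w (pv i₀) = 0 → pol4 u w = 0) :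
    ∃ c : K4, u = c • pv i₀ := by
  have h' : ∀ w, hh w (pv i₀) = 0 → hh w u = 0 := by
    intro w hw
    refine hh_zero_symm.1 (hh_zero_of_pol fun c => ?_)
    rw [pol4_comm]
    exact h (c • w) (by rw [hh_smul_left, hw, mul_zero])
  obtain ⟨w₁, hw₁⟩ := exists_value i₀ 1
  obtain ⟨c, hc⟩ := k4_root (hh w₁ u)
  refine ⟨c, vec_eq_of_add (hh_nondeg fun w => ?_)⟩
  have e : w = (w + hh w (pv i₀) • w₁) + hh w (pv i₀) • w₁ := by
    rw [add_assoc, vec_add_self, add_zero]
  have h0 : hh (w + hh w (pv i₀) • w₁) (pv i₀) = 0 := by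
    rw [hh_add_left, hh_smul_left, hw₁, mul_one, k4_add_self]
  rw [e, hh_add_left, hh_add_right, hh_add_right, h' _ h0, hh_smul_right, h0, mul_zero, add_zero,
    hh_smul_left, hh_smul_left, hh_smul_right c w₁, hw₁, mul_one, hc, k4_add_self, add_zero]

section Core

variable {K : Type*} [Group K] [Finite K] {z : K} {Q : Subgroup K} (S : Core z Q)
  (hE : Cfsg.IsExtraspecial 2 ↥Q)
  (htw : ∀ a ∈ A0 S, ∀ m n, m ≠ n → S.ρ a = tp (lp m) * tp (lp n) → a * a = z)

include S hE htw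

/-- An involution over the centraliser is in the core or over a transvection. -/
theorem invol_shape {r : K} (hr : r * z = z * r) (h2 : r * r = 1) :
    S.ρ r = 1 ∨ ∃ k, S.ρ r = tp k := by
  obtain ⟨c, hc, hA⟩ := invol_to_A0 S hr h2
  have back : ∀ f, S.ρ (cj c r) = f → S.ρ r = (S.ρ c)⁻¹ * f * S.ρ c := fun f e => by
    rw [← e, S.ρ_cj hc hr]; group
  rcases rho_cases S hA with e | ⟨⟨m, n⟩, -, e⟩
  · exact Or.inl (by rw [back _ e, mul_one, inv_mul_cancel])
  · unfold code invP at e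
    split_ifs at e with h
    · refine Or.inr ⟨act (S.ρ c)⁻¹ (lp m), ?_⟩
      rw [back _ e, ← conj_tp (S.ρ_iso c hc).inv, inv_inv]
    · exact absurd ((cj_self_sq h2).symm.trans (htw _ hA m n (fun e' => h (congrArg lp e')) e))
        S.z_ne.symm

/-- A conjugate of `z` commuting with it is `z` or lies over the base transvection up to the
centraliser. -/
theorem to_base {g : K} (hg : cj g z * z = z * cj g z) (hne : cj g z ≠ z) :
    ∃ c : K, c * z = z * c ∧ S.ρ (cj c (cj g z)) = tp i₀ := by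
  rcases invol_shape S hE htw hg (cj_self_sq S.z_sq) with e | ⟨k, e⟩
  · exact absurd (no_conj_Q S hE ((S.ρ_ker _ hg).1 e)) hne
  · obtain ⟨d, hd, hdi⟩ := S.exists_point_map k
    refine ⟨d⁻¹, S.cz_inv hd, ?_⟩
    rw [S.ρ_cj_tp (S.cz_inv hd) hg e]
    congr 1
    rw [← hdi, ← act_mul (S.ρ_iso _ (S.cz_inv hd)) (S.ρ_iso d hd), ← S.ρ_mul _ _ (S.cz_inv hd) hd,
      inv_mul_cancel, S.ρ_one, act_one]

omit hE htw in
/-- The core elements commuting with an element over the base transvection. -/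
theorem cent_ge {t : K} (ht : t * z = z * t) (hρ : S.ρ t = tp i₀) :
    64 ≤ Nat.card {q : K // q ∈ Q ∧ t * q = q * t} := by
  classical
  let f : ↥Q →* Multiplicative K4 :=
    MonoidHom.mk' (fun q => Multiplicative.ofAdd (hh (S.π q) (pv i₀))) fun a b => by
      show Multiplicative.ofAdd (hh (S.π (a.1 * b.1)) (pv i₀)) = _
      rw [S.π_mul _ a.2 _ b.2, hh_add_left]
      rfl
  have h512 := Subgroup.card_mul_index f.ker
  rw [Subgroup.index_ker, card_core S] at h512
  have hr : Nat.card ↥f.range ≤ 4 := by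
    refine le_trans (Subgroup.card_le_card_group _) (le_of_eq ?_)
    rw [Nat.card_congr Multiplicative.toAdd, Nat.card_eq_fintype_card, H41.SUSix.hK]; rfl
  have hker : 128 ≤ Nat.card ↥f.ker := by
    have := Nat.mul_le_mul (le_refl (Nat.card ↥f.ker)) hr
    omega
  have hperp : ∀ q : ↥f.ker, hh (S.π q.1.1) (pv i₀) = 0 := fun q => q.2
  have hcase : ∀ q : ↥f.ker, cj t q.1.1 = q.1.1 ∨ cj t q.1.1 = z * q.1.1 := fun q =>
    cj_perp S ht hρ q.1.2 (hperp q)
  by_cases hall : ∀ q : ↥f.ker, cj t q.1.1 = q.1.1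
  · refine le_trans (by omega) (hker.trans (Nat.card_le_card_of_injective
      (fun q : ↥f.ker => (⟨q.1.1, q.1.2, cj_fix_iff.1 (hall q)⟩ : {q : K // q ∈ Q ∧ t * q = q * t}))
      fun a b e => Subtype.ext (Subtype.ext (congrArg Subtype.val e :))))
  · push Not at hall
    obtain ⟨q₁, hq₁⟩ := hall
    have hq₁' := (hcase q₁).resolve_left hq₁
    have hfix : ∀ q : ↥f.ker, ¬ cj t q.1.1 = q.1.1 → cj t (q₁.1.1⁻¹ * q.1.1) = q₁.1.1⁻¹ * q.1.1 := by
      intro q hq
      rw [cj_mul', show cj t q₁.1.1⁻¹ = (cj t q₁.1.1)⁻¹ by simp [cj, mul_assoc], hq₁',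
        (hcase q).resolve_left hq]
      group
    have h := Nat.card_le_card_of_injective (fun q : ↥f.ker =>
      if h : cj t q.1.1 = q.1.1 then
        (true, (⟨q.1.1, q.1.2, cj_fix_iff.1 h⟩ : {q : K // q ∈ Q ∧ t * q = q * t}))
      else (false, ⟨q₁.1.1⁻¹ * q.1.1, Q.mul_mem (Q.inv_mem q₁.1.2) q.1.2, cj_fix_iff.1 (hfix q h)⟩))
      fun a b e => by
        dsimp only at e
        split_ifs at e <;> simp at e
        · exact e
        · exact e
    rw [Nat.card_prod, Nat.card_eq_fintype_card (α := Bool), Fintype.card_bool] at h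
    omega

theorem no_base {g : K} (hxz : cj g z * z = z * cj g z) (hρ : S.ρ (cj g z) = tp i₀) : False := by
  classical
  set x := cj g z with hxdef
  have hxQ : x ∉ Q := fun h => tp_ne_one i₀ (hρ.symm.trans (S.ρ_of_Q h))
  have hx2 : x * x = 1 := cj_self_sq S.z_sq
  set R := Q.map (MulAut.conj g).toMonoidHom with hR
  have memR : ∀ {r : K}, r ∈ R ↔ cj g⁻¹ r ∈ Q := by
    intro r
    rw [hR, Subgroup.mem_map_equiv]
    simp [cj, mul_assoc]
  have hxR : x ∈ R := ⟨z, S.hzQ, rfl⟩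
  have hzR : z ∉ R := by
    intro h
    have e := no_conj_Q S hE (memR.1 h)
    exact hxQ (by
      have e' := congrArg (cj g) e
      rw [cj_cj, mul_inv_cancel, cj_one'] at e'
      rw [hxdef, ← e']; exact S.hzQ)
  have onlyx : ∀ {h : K}, cj h z ∈ R → cj h z = x := by
    intro h hh'
    have e := no_conj_Q S hE (g := g⁻¹ * h) (by rw [← cj_cj]; exact memR.1 hh')
    rw [← cj_cj] at e
    have e' := congrArg (cj g) e
    rwa [cj_cj, mul_inv_cancel, cj_one'] at e'
  have hRx : ∀ {r : K}, r ∈ R → r * x = x * r := by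
    intro r hr
    have h := congrArg (cj g) (S.cz_Q (memR.1 hr))
    rwa [cj_mul' g (cj g⁻¹ r) z, cj_mul' g z (cj g⁻¹ r), cj_cj, mul_inv_cancel, cj_one'] at h
  have normR : ∀ {c : K}, c * x = x * c → ∀ {r : K}, r ∈ R → cj c r ∈ R := by
    intro c hc r hr
    refine memR.2 ?_
    have hc' : g⁻¹ * c * g * z = z * (g⁻¹ * c * g) := by
      have h := congrArg (cj g⁻¹) hc
      rw [cj_mul' g⁻¹ c x, cj_mul' g⁻¹ x c, hxdef, cj_inv_cj'] at h
      simpa [cj] using h
    have h := S.cj_mem hc' (memR.1 hr)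
    rwa [cj_cj, show g⁻¹ * c * g * g⁻¹ = g⁻¹ * c by group, ← cj_cj] at h
  have sqR : ∀ {r : K}, r ∈ R → r * r = 1 ∨ r * r = x := by
    rintro r ⟨q, hq, rfl⟩
    rw [← map_mul]
    rcases core_sq S hq with e | e <;> rw [e]
    · exact Or.inl (map_one _)
    · exact Or.inr rfl
  set M := R ⊓ Subgroup.centralizer ({z} : Set K) with hM
  have hMz : ∀ {r : K}, r ∈ M → r * z = z * r := fun hr => Subgroup.mem_centralizer_singleton_iff.1 hr.2
  have hxM : x ∈ M := ⟨hxR, Subgroup.mem_centralizer_singleton_iff.2 hxz⟩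
  -- the order
  have hM64 : 64 ≤ Nat.card ↥M := by
    have hg' : cj g⁻¹ z * z = z * cj g⁻¹ z := by
      have h := congrArg (cj g⁻¹) hxz
      rw [cj_mul' g⁻¹ x z, cj_mul' g⁻¹ z x, hxdef, cj_inv_cj'] at h
      exact h.symm
    obtain ⟨c, hc, hct⟩ := to_base S hE htw hg' fun e => hzR (memR.2 (e.symm ▸ S.hzQ : cj g⁻¹ z ∈ Q))
    refine (cent_ge S (S.cz_cj hc hg') hct).trans (Nat.card_le_card_of_injective
      (fun q : {q : K // q ∈ Q ∧ cj c (cj g⁻¹ z) * q = q * cj c (cj g⁻¹ z)} =>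
        (⟨cj g (cj c⁻¹ q.1), ?_, ?_⟩ : ↥M)) fun a b e => Subtype.ext
          (cj_injective _ (cj_injective g (congrArg Subtype.val e :))))
    · exact memR.2 (by rw [cj_inv_cj']; exact S.cj_mem (S.cz_inv hc) q.2.1)
    · refine Subgroup.mem_centralizer_singleton_iff.2 ?_
      have h := congrArg (fun u => cj g (cj c⁻¹ u)) q.2.2
      simp only [cj_mul' c⁻¹ (cj c (cj g⁻¹ z)) q.1, cj_mul' c⁻¹ q.1 (cj c (cj g⁻¹ z)), cj_inv_cj',
        cj_mul' g (cj g⁻¹ z) (cj c⁻¹ q.1), cj_mul' g (cj c⁻¹ q.1) (cj g⁻¹ z)] at h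
      rw [cj_cj g g⁻¹, mul_inv_cancel, cj_one'] at h
      exact h.symm
  let ψ : ↥M →* Equiv.Perm W4 :=
    MonoidHom.mk' (fun r => S.ρ r) fun a b => S.ρ_mul _ _ (hMz a.2) (hMz b.2)
  -- one involution in the image
  have hinvol : ∀ f ∈ ψ.range, f * f = 1 → f = 1 ∨ ∃ k, f = tp k := by
    rintro _ ⟨r, rfl⟩ hf
    rcases sqR r.2.1 with e | e
    · exact invol_shape S hE htw (hMz r.2) e
    · exfalso
      rw [← map_mul] at hf
      have hf' : S.ρ (r.1 * r.1) = 1 := hf
      rw [e, hρ] at hf'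
      exact tp_ne_one _ hf'
  have hc₀ : tp i₀ ∈ ψ.range := ⟨⟨x, hxM⟩, hρ⟩
  have hcen : ∀ f ∈ ψ.range, f * tp i₀ = tp i₀ * f := by
    rintro _ ⟨r, rfl⟩
    show S.ρ r.1 * tp i₀ = tp i₀ * S.ρ r.1
    rw [← hρ, ← S.ρ_mul _ _ (hMz r.2) hxz, ← S.ρ_mul _ _ hxz (hMz r.2), hRx r.2.1]
  have h8 : Nat.card ↥ψ.range ≤ 8 := by
    refine card_le_eight (c := ⟨tp i₀, hc₀⟩) (fun e => tp_ne_one _ (congrArg Subtype.val e :))
      (fun a => Subtype.ext (hcen a.1 a.2)) (fun a => ?_) (fun a ha => ?_)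
    · obtain ⟨r, hr⟩ := a.2
      rcases sqR r.2.1 with e | e
      · refine Or.inl (Subtype.ext ?_)
        show a.1 * a.1 = 1
        rw [← hr, ← map_mul]
        show S.ρ (r.1 * r.1) = 1
        rw [e, S.ρ_one]
      · refine Or.inr (Subtype.ext ?_)
        show a.1 * a.1 = tp i₀
        rw [← hr, ← map_mul]
        show S.ρ (r.1 * r.1) = _
        rw [e, hρ]
    · rcases hinvol a.1 a.2 (congrArg Subtype.val ha :) with e | ⟨k, e⟩
      · exact Or.inl (Subtype.ext e)
      · refine Or.inr (Subtype.ext (e.trans ?_))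
        by_contra hne
        have hk : k ≠ i₀ := fun h => hne (by rw [h])
        have hcomm := hcen a.1 a.2
        rw [e] at hcomm
        rcases hinvol (tp k * tp i₀) (mul_mem (e ▸ a.2) hc₀) (by
          rw [mul_assoc, ← mul_assoc (tp i₀), ← hcomm, mul_assoc (tp k) (tp i₀), tp_sq, mul_one,
            tp_sq]) with h | ⟨l, h⟩
        · exact hk (tp_injective ((eq_inv_of_mul_eq_one_left h).trans (tp_inv _)))
        · exact tp_mul_ne hk h
  -- the part in the core
  set I := M ⊓ Q with hI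
  have hI8 : 8 ≤ Nat.card ↥I := by
    have hprod : Nat.card ↥ψ.ker * Nat.card ↥ψ.range = Nat.card ↥M := by
      rw [← Subgroup.card_mul_index ψ.ker, Subgroup.index_ker]
    have hker : Nat.card ↥ψ.ker ≤ Nat.card ↥I := Nat.card_le_card_of_injective
      (fun r : ↥ψ.ker => (⟨r.1.1, r.1.2, (S.ρ_ker _ (hMz r.1.2)).1 r.2⟩ : ↥I))
      fun a b e => Subtype.ext (Subtype.ext (congrArg Subtype.val e :))
    have := Nat.mul_le_mul hker h8
    omega
  have hinjI : ∀ {a b : K}, a ∈ I → b ∈ I → S.π a = S.π b → b = a := by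
    intro a b ha hb e
    refine (S.π_eq ha.2 hb.2 e).resolve_right fun e' => hzR ?_
    rw [show z = b * a⁻¹ by rw [e', mul_inv_cancel_right]]
    exact R.mul_mem hb.1.1 (R.inv_mem ha.1.1)
  have hIperp : ∀ {a : K}, a ∈ I → hh (S.π a) (pv i₀) = 0 := by
    intro a ha
    have e := S.π_cj hxz ha.2
    rw [cj_fix_iff.2 (hRx ha.1.1).symm, hρ, tp_apply, left_eq_add] at e
    exact (smul_eq_zero.1 e).resolve_right (pv_ne _)
  -- the shape of `x`
  obtain ⟨a₀, ha₀, ha₀ρ, hflat⟩ := exists_flat S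
  obtain ⟨hs1, -⟩ := eps_shape S
  obtain ⟨m₀, -, hm₀, -, -⟩ := lp_base
  have ha₀2 : a₀ * a₀ = 1 := by
    rw [eps_spec S ha₀, hs1 a₀ ha₀ m₀ (by rw [hm₀]; exact ha₀ρ)]; simp [zp]
  set q₀ := a₀⁻¹ * x with hq₀
  have hq₀Q : q₀ ∈ Q := S.mem_Q_of_ρ (A0_cz S ha₀) hxz (by rw [ha₀ρ, hρ])
  have hxq : x = a₀ * q₀ := (mul_inv_cancel_left a₀ x).symm
  have hq₀perp : hh (S.π q₀) (pv i₀) = 0 := by
    have haa : a₀⁻¹ = a₀ := inv_eq_of_mul_eq_one_right ha₀2
    have e1 : a₀ * q₀ * a₀⁻¹ = q₀⁻¹ := by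
      apply eq_inv_of_mul_eq_one_left
      rw [haa, show a₀ * q₀ * a₀ * q₀ = a₀ * q₀ * (a₀ * q₀) by group, ← hxq, hx2]
    have e2 := congrArg S.π e1
    rw [S.ρ_π a₀ (A0_cz S ha₀) q₀ hq₀Q, ha₀ρ, tp_apply, S.π_inv hq₀Q, add_eq_left] at e2
    exact (smul_eq_zero.1 e2).resolve_right (pv_ne _)
  have hmove : ∀ {e : K}, e ∈ Q → hh (S.π e) (pv i₀) = 0 →
      x * e = e * x * zp z (pol4 (S.π e) (S.π q₀)) := by
    intro e he hperp
    rw [hxq, mul_assoc, S.comm e he q₀ hq₀Q, mul_assoc e q₀, ← mul_assoc a₀, hflat e he hperp]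
    group
  have hcentral : ∀ {a : K}, a ∈ I → ∀ w, hh w (pv i₀) = 0 → pol4 w (S.π q₀) = 0 →
      pol4 (S.π a) w = 0 := by
    intro a ha w hw hw0
    obtain ⟨e, he, rfl⟩ := S.π_surj w
    have hex : e * x = x * e := by
      rw [hmove he hw, hw0]; simp [zp]
    rw [← S.comm_iff ha.2 he]
    have hcR : cj e a ∈ R := normR hex ha.1.1
    have hcase : cj e a = a ∨ cj e a = z * a := S.π_eq ha.2 (S.cj_mem (S.cz_Q he) ha.2)
      (by rw [S.π_cj (S.cz_Q he) ha.2, S.ρ_of_Q he]; rfl)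
    rcases hcase with e' | e'
    · exact (cj_fix_iff.1 e').symm
    · exact absurd (by rw [show z = cj e a * a⁻¹ by rw [e', mul_inv_cancel_right]]
                       exact R.mul_mem hcR (R.inv_mem ha.1.1)) hzR
  have hspan : ∀ {a : K}, a ∈ I → ∃ (c : K4) (t : Bool),
      S.π a = c • pv i₀ + cond t (S.π q₀) 0 := by
    intro a ha
    by_cases hz0 : ∀ w, hh w (pv i₀) = 0 → pol4 (S.π a) w = 0
    · obtain ⟨c, hc⟩ := mem_point_of_perp hz0
      exact ⟨c, false, by rw [hc]; exact (add_zero _).symm⟩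
    · push Not at hz0
      obtain ⟨w₁, hw₁, hpw₁⟩ := hz0
      obtain ⟨c, hc⟩ := mem_point_of_perp (u := S.π a + S.π q₀) fun w hw => by
        rw [pol4_add_left]
        have key : ∀ p q p' q' : ZMod 2, p' ≠ 0 → (q' = 0 → p' = 0) → (q + q' = 0 → p + p' = 0) →
            (q = 0 → p = 0) → p + q = 0 := by decide
        refine key _ _ (pol4 (S.π a) w₁) (pol4 (S.π q₀) w₁) hpw₁
          (fun h => hcentral ha w₁ hw₁ (by rw [pol4_comm]; exact h))
          (fun h => ?_) (fun h => hcentral ha w hw (by rw [pol4_comm]; exact h))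
        rw [← pol4_add_right]
        refine hcentral ha _ (by rw [hh_add_left, hw, hw₁, add_zero]) ?_
        rw [pol4_comm, pol4_add_right, h]
      refine ⟨c, true, ?_⟩
      rw [cond_true, ← hc, add_assoc, vec_add_self, add_zero]
  by_cases hflatx : ∃ c : K4, S.π q₀ = c • pv i₀
  · obtain ⟨d, hd⟩ := hflatx
    have hpt : ∀ a : ↥I, ∃ c : K4, S.π a.1 = c • pv i₀ := fun a => by
      obtain ⟨c, t, e⟩ := hspan a.2
      cases t
      · exact ⟨c, by rw [e]; exact add_zero _⟩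
      · exact ⟨c + d, by rw [e, cond_true, hd, add_smul]⟩
    choose cf hcf using hpt
    have h := Nat.card_le_card_of_injective cf fun a b e =>
      Subtype.ext (hinjI a.2 b.2 (by rw [hcf, hcf, e])).symm
    rw [Nat.card_eq_fintype_card (α := K4), H41.SUSix.hK] at h
    omega
  · push Not at hflatx
    have hzero : ∀ {a : K}, a ∈ I → ∀ {c : K4}, S.π a = c • pv i₀ → a = 1 := by
      intro a ha c hc
      have hxa : x * a ∈ R := R.mul_mem hxR ha.1.1
      have hax : x * a = a * x := (hRx ha.1.1).symm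
      obtain ⟨w, hw⟩ := exists_value i₀ c
      obtain ⟨r, hr, rfl⟩ := S.π_surj w
      obtain ⟨m, hm, em, hπm⟩ := S.cj_Q hxz hx2 hρ hr
      rw [hw] at hπm
      have hfin : ∀ h : K, cj h x = a * x → a = 1 := fun h e => by
        have e' := onlyx (h := h * g) (by rw [← cj_cj, ← hxdef, e, ← hax]; exact hxa)
        rw [← cj_cj, ← hxdef, e] at e'
        exact mul_eq_right.1 e'
      rcases S.π_eq hm ha.2 (hπm.trans hc.symm) with e | e
      · exact hfin r (by rw [em, e])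
      · obtain ⟨w₁, hw₁, hp₁⟩ : ∃ w₁, hh w₁ (pv i₀) = 0 ∧ pol4 w₁ (S.π q₀) = 1 := by
          by_contra hall
          push Not at hall
          obtain ⟨c', hc'⟩ := mem_point_of_perp (u := S.π q₀) fun w hw => by
            rw [pol4_comm]
            exact (show ∀ t : ZMod 2, t ≠ 1 → t = 0 by decide) _ (hall w hw)
          exact hflatx c' hc'
        obtain ⟨s, hs, rfl⟩ := S.π_surj w₁
        refine hfin (r * s) ?_
        have hsx : cj s x = z * x := by
          have h' := hmove hs hw₁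
          rw [hp₁, show zp z (1 : ZMod 2) = z by simp [zp]] at h'
          rw [cj, mul_inv_eq_iff_eq_mul]
          calc s * x = s * x * (z * z) := by rw [S.z_sq, mul_one]
            _ = x * s * z := by rw [h']; group
            _ = z * x * s := by rw [mul_assoc, S.cz_Q hs, ← mul_assoc, hxz]
        rw [← cj_cj, hsx, cj_mul', S.cj_z (S.cz_Q hr), em, e, mul_assoc]
    have htt : ∀ a : ↥I, ∃ t : Bool, ∃ c : K4, S.π a.1 = c • pv i₀ + cond t (S.π q₀) 0 := fun a => by
      obtain ⟨c, t, e⟩ := hspan a.2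
      exact ⟨t, c, e⟩
    choose tf cf hcf using htt
    have h := Nat.card_le_card_of_injective tf fun a b e => by
      have he := hzero (I.mul_mem a.2 b.2) (c := cf a + cf b) (by
        rw [S.π_mul _ a.2.2 _ b.2.2, hcf, hcf, e, add_add_add_comm, vec_add_self, add_zero,
          add_smul])
      refine Subtype.ext ?_
      have hb2 : b.1 * b.1 = 1 := by
        rcases core_sq S b.2.2 with h | h
        · exact h
        · exact absurd (h ▸ R.mul_mem b.2.1.1 b.2.1.1) hzR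
      exact (eq_inv_of_mul_eq_one_left he).trans (inv_eq_of_mul_eq_one_right hb2)
    rw [Nat.card_eq_fintype_card (α := Bool), Fintype.card_bool] at h
    omega

/-- In the twisted case `z` is isolated. -/
theorem twisted_isolated {g : K} (hg : g * z * g⁻¹ * z = z * (g * z * g⁻¹)) : g * z * g⁻¹ = z := by
  by_contra hne
  obtain ⟨c, hc, e⟩ := to_base S hE htw (g := g) hg hne
  rw [cj_cj] at e
  refine no_base S hE htw (g := c * g) ?_ e
  rw [← cj_cj]
  exact S.cz_cj hc hg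

end Core

end Cfsg.Agent.H49.UChar
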