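import Cfsg.Agent.H49.UChar.PreBasic
import Cfsg.Agent.S0814
import Cfsg.Agent.S0270

/-!
An involution centraliser with extraspecial two-core of order `2 ^ 9` and quotient the automorphism
group of the symplectic group in dimension four over the field with three elements: the
representation of the inner half, and the outer elements.
-/

set_option autoImplicit false
set_option maxRecDepth 20000
set_option linter.unusedSectionVars false
set_option linter.unusedFintypeInType false
set_option linter.style.haveILetI false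

namespace Cfsg.Agent.H49.UChar

open Cfsg Subgroup
open Cfsg.Agent.H92.ExtraForm (zp zp_inj FormMap exists_formMap)
open Cfsg.Agent.H49.USix
open H76.LocallyS3 (cj cj_cj cj_injective)

universe u

variable {G : Type u} [Group G] [Finite G]

/-- The centraliser of `z` acting on the quotient of its core by `z`, with an outer half. -/
structure Two (z : G) (J : Subgroup G) where
  z_sq : z * z = 1
  z_ne : z ≠ 1
  hzJ : z ∈ J
  le : ∀ q ∈ J, q * z = z * q
  norm : ∀ c : G, c * z = z * c → ∀ q ∈ J, c * q * c⁻¹ ∈ J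
  V : Type
  [instA : AddCommGroup V]
  [instM : Module (ZMod 2) V]
  [instF : Finite V]
  R : Rep V
  π : G → V
  π_mul : ∀ a ∈ J, ∀ b ∈ J, π (a * b) = π a + π b
  π_surj : ∀ v, ∃ q ∈ J, π q = v
  π_zero : ∀ q ∈ J, π q = 0 ↔ (q = 1 ∨ q = z)
  sq : ∀ q ∈ J, q * q = zp z (R.q (π q))
  comm : ∀ q ∈ J, ∀ r ∈ J, r * q = q * r * zp z (R.B (π q) (π r))
  ρ : G → Equiv.Perm V
  ρ_mul : ∀ c d : G, c * z = z * c → d * z = z * d → ρ (c * d) = ρ c * ρ d
  ρ_π : ∀ c : G, c * z = z * c → ∀ q ∈ J, π (c * q * c⁻¹) = ρ c (π q)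
  ρ_ker : ∀ c : G, c * z = z * c → (ρ c = 1 ↔ c ∈ J)
  ρ_range : ∀ g : SU4, ∃ c : G, c * z = z * c ∧ ρ c = R.φ g
  ρ_norm : ∀ c : G, c * z = z * c → ∀ g : SU4, ∃ g' : SU4, ρ c * R.φ g = R.φ g' * ρ c
  out_mul : ∀ c d : G, c * z = z * c → d * z = z * d → (¬ ∃ g, ρ c = R.φ g) →
    (¬ ∃ g, ρ d = R.φ g) → ∃ g, ρ (c * d) = R.φ g
  out_exists : ∃ c : G, c * z = z * c ∧ ¬ ∃ g, ρ c = R.φ g
  cent : ∀ c : G, c * z = z * c → (∀ g : SU4, ρ c * R.φ g = R.φ g * ρ c) → c ∈ J

attribute [instance] Two.instA Two.instM Two.instF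

/-- Conjugating an inner automorphism. -/
theorem conj_aut {S : Type*} [Group S] (a : MulAut S) (s : S) :
    MulAut.conj (a s) = a * MulAut.conj s * a⁻¹ := by
  ext x; simp

section Build

variable {z : G} (hz : orderOf z = 2) {F : Type*} [Field F] [Fintype F] (hF : Fintype.card F = 3)
  (hJ : Cfsg.IsExtraspecial 2 ↥(Cfsg.pCore 2 ↥(centralizer ({z} : Set G))))
  (hJc : Nat.card ↥(Cfsg.pCore 2 ↥(centralizer ({z} : Set G))) = 2 ^ 9)
  (hCJ : centralizer ((Cfsg.pCore 2 ↥(centralizer ({z} : Set G))) : Set ↥(centralizer ({z} : Set G))) ≤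
    Cfsg.pCore 2 ↥(centralizer ({z} : Set G)))
  [hJn : (Cfsg.pCore 2 ↥(centralizer ({z} : Set G))).Normal]

include hz hF hJ hJc hCJ

theorem exists_two_of_form {U : Type} [AddCommGroup U] [Module (ZMod 2) U] [Finite U]
    {Q : QuadraticForm (ZMod 2) U} (Fm : FormMap ↥(Cfsg.pCore 2 ↥(centralizer ({z} : Set G))) U Q)
    (hU : Nat.card U = 256)
    (e : (↥(centralizer ({z} : Set G)) ⧸ Cfsg.pCore 2 ↥(centralizer ({z} : Set G))) ≃*
      MulAut (Cfsg.PSp 2 F)) :
    Nonempty (Two z ((Cfsg.pCore 2 ↥(centralizer ({z} : Set G))).map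
      (centralizer ({z} : Set G)).subtype)) := by
  classical
  haveI : Fact (Nat.Prime 2) := ⟨Nat.prime_two⟩
  have zz : z * z = 1 := by rw [← pow_two, ← hz, pow_orderOf_eq_one]
  have z1 : z ≠ 1 := fun e => by rw [e, orderOf_one] at hz; norm_num at hz
  let C := centralizer ({z} : Set G)
  let J := Cfsg.pCore 2 ↥C
  have hcm : ∀ c : ↥C, (c : G) * z = z * c := fun c => mem_centralizer_singleton_iff.1 c.2
  let zc : ↥C := ⟨z, mem_centralizer_singleton_iff.2 rfl⟩
  have hzc : ∀ c : ↥C, c * zc = zc * c := fun c => Subtype.ext (hcm c)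
  have hzJ : zc ∈ J := by
    have hN : (Subgroup.zpowers zc).Normal :=
      ⟨fun a ha c => by
        obtain ⟨k, rfl⟩ := ha
        have : Commute c (zc ^ k) := (show Commute c zc from hzc c).zpow_right k
        rw [this.eq, mul_inv_cancel_right]
        exact Subgroup.zpow_mem_zpowers _ _⟩
    have hp : IsPGroup 2 ↥(Subgroup.zpowers zc) := IsPGroup.of_card (n := 1) (by
      rw [Nat.card_zpowers, ← orderOf_injective C.subtype C.subtype_injective]
      exact hz)
    exact le_sSup (s := {N : Subgroup ↥C | N.Normal ∧ IsPGroup 2 N}) ⟨hN, hp⟩ (mem_zpowers zc)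
  let zj : ↥J := ⟨zc, hzJ⟩
  have hzj : Fm.z = zj := by
    have h : zj ∈ center ↥J := mem_center_iff.2 fun a => Subtype.ext (hzc a)
    rcases (Fm.mem_center _).1 h with h1 | h1
    · exact absurd (congrArg (fun a : ↥J => ((a : ↥C) : G)) h1) z1
    · exact h1.symm
  let pi : G → U := fun x => if h : ∃ a : ↥J, ((a : ↥C) : G) = x then Fm.π h.choose else 0
  have hpi : ∀ a : ↥J, pi ((a : ↥C) : G) = Fm.π a := fun a => by
    have h : ∃ b : ↥J, ((b : ↥C) : G) = ((a : ↥C) : G) := ⟨a, rfl⟩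
    simp only [pi, dif_pos h]
    exact congrArg Fm.π (Subtype.ext (Subtype.ext h.choose_spec))
  have hzp : ∀ a : ZMod 2, (((zp Fm.z a : ↥J) : ↥C) : G) = zp z a := fun a => by
    unfold zp; split_ifs
    · rfl
    · rw [hzj]
  let act : ↥C →* Equiv.Perm U :=
    { toFun := fun c => (Fm.inducedEquiv (MulAut.conjNormal c)).toEquiv
      map_one' := Equiv.ext fun u => by
        show Fm.induced (MulAut.conjNormal (1 : ↥C)) u = u
        rw [map_one, Fm.induced_one]
      map_mul' := fun c d => Equiv.ext fun u => by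
        show Fm.induced (MulAut.conjNormal (c * d)) u = _
        rw [map_mul, Fm.induced_mul]; rfl }
  have hker : act.ker = J := by
    ext c
    constructor
    · intro h
      have h' : Fm.toIso (MulAut.conjNormal c) = 1 :=
        Subtype.ext (LinearEquiv.ext fun u => Equiv.congr_fun (MonoidHom.mem_ker.1 h) u)
      have h'' : MulAut.conjNormal c ∈ Fm.toIso.ker := MonoidHom.mem_ker.2 h'
      rw [Fm.toIso_ker hJ] at h''
      obtain ⟨g, hg⟩ := h''
      have hc : (g : ↥C)⁻¹ * c ∈ centralizer (J : Set ↥C) := by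
        rw [mem_centralizer_iff]
        intro a ha
        have h3 : (g : ↥C) * a * (g : ↥C)⁻¹ = c * a * c⁻¹ :=
          congrArg Subtype.val (MulEquiv.congr_fun hg ⟨a, ha⟩)
        calc a * ((g : ↥C)⁻¹ * c) = (g : ↥C)⁻¹ * ((g : ↥C) * a * (g : ↥C)⁻¹) * c := by group
          _ = (g : ↥C)⁻¹ * c * a := by rw [h3]; group
      have := mul_mem g.2 (hCJ hc)
      rwa [mul_inv_cancel_left] at this
    · intro h
      refine MonoidHom.mem_ker.2 (Equiv.ext fun u => ?_)
      obtain ⟨x, rfl⟩ := Fm.surj u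
      show Fm.induced (MulAut.conjNormal c) (Fm.π x) = Fm.π x
      rw [Fm.induced_π, show MulAut.conjNormal c x = (⟨c, h⟩ : ↥J) * x * (⟨c, h⟩ : ↥J)⁻¹ from
        Subtype.ext rfl, Fm.π_mul, Fm.π_mul, Fm.π_inv]
      abel
  -- the inner automorphisms
  haveI : Fact (Nat.Prime 3) := ⟨by norm_num⟩
  haveI hS := Cfsg.Agent.S0270.result (F := F) 2 le_rfl (fun _ => by omega)
  have hcardA : Nat.card (MulAut (Cfsg.PSp 2 F)) = 2 * Nat.card (Cfsg.PSp 2 F) := by
    rw [Cfsg.Agent.S0814.result 3 1 le_rfl (by rw [hF]; norm_num) 2 le_rfl (fun _ => by norm_num)]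
    norm_num
  let cm : Cfsg.PSp 2 F →* MulAut (Cfsg.PSp 2 F) := MulAut.conj
  have hinj : Function.Injective cm := by
    obtain ⟨e'⟩ := su_equiv_psp hF
    rw [injective_iff_map_eq_one]
    intro s hs
    have hs' : e'.symm s ∈ center SU4 := mem_center_iff.2 fun t => e'.injective (by
      have := MulEquiv.congr_fun hs (e' t)
      simp only [cm, MulAut.conj_apply, MulAut.one_apply] at this
      rw [map_mul, map_mul, e'.apply_symm_apply]
      exact (mul_inv_eq_iff_eq_mul.1 this).symm)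
    rw [center_bot, mem_bot] at hs'
    simpa using congrArg e' hs'
  obtain ⟨e'⟩ := su_equiv_psp hF
  have hidx : cm.range.index = 2 := by
    have h := cm.range.card_mul_index
    rw [hcardA, ← Nat.card_congr (MonoidHom.ofInjective hinj).toEquiv, mul_comm 2] at h
    exact Nat.eq_of_mul_eq_mul_left Nat.card_pos h
  let θ : SU4 →* (↥C ⧸ act.ker) :=
    ((e.symm.trans (QuotientGroup.quotientMulEquivOfEq hker.symm)).toMonoidHom.comp cm).comp
      e'.toMonoidHom
  have hθinj : Function.Injective θ :=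
    ((e.symm.trans (QuotientGroup.quotientMulEquivOfEq hker.symm)).injective.comp hinj).comp
      e'.injective
  let φ : SU4 →* Equiv.Perm U := (QuotientGroup.kerLift act).comp θ
  let η : ↥C →* MulAut (Cfsg.PSp 2 F) := e.toMonoidHom.comp (QuotientGroup.mk' J)
  have hη : ∀ (c : ↥C) (g : SU4), act c = φ g ↔ η c = cm (e' g) := by
    intro c g
    obtain ⟨d, hd⟩ := QuotientGroup.mk_surjective (e.symm (cm (e' g)))
    have hθ : θ g = (d : ↥C ⧸ act.ker) := by
      show QuotientGroup.quotientMulEquivOfEq hker.symm (e.symm (cm (e' g))) = _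
      rw [← hd, QuotientGroup.quotientMulEquivOfEq_mk]
    rw [show φ g = QuotientGroup.kerLift act (θ g) from rfl, hθ, QuotientGroup.kerLift_mk,
      show cm (e' g) = e (e.symm (cm (e' g))) from (e.apply_symm_apply _).symm, ← hd,
      show η c = e (c : ↥C ⧸ J) from rfl, e.injective.eq_iff, QuotientGroup.eq]
    rw [← hker, MonoidHom.mem_ker, map_mul, map_inv, inv_mul_eq_one]
  have hinn : ∀ c : ↥C, (∃ g, act c = φ g) ↔ η c ∈ cm.range := fun c => by
    constructor
    · rintro ⟨g, hg⟩; exact ⟨e' g, ((hη c g).1 hg).symm⟩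
    · rintro ⟨s, hs⟩; exact ⟨e'.symm s, (hη c _).2 (by rw [e'.apply_symm_apply, hs])⟩
  have hB : ∀ u v, Q (u + v) + Q u + Q v = QuadraticMap.polar (⇑Q) u v := fun u v => by
    rw [QuadraticMap.polar]
    exact char_two_sub _ _ _
  let R : Rep U :=
    { φ := φ
      add := fun g a b => by
        show QuotientGroup.kerLift act (θ g) (a + b) = _
        obtain ⟨c, hc⟩ := QuotientGroup.mk_surjective (θ g)
        rw [show φ g = QuotientGroup.kerLift act (θ g) from rfl, ← hc, QuotientGroup.kerLift_mk]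
        exact Fm.induced_add _ a b
      inj := (QuotientGroup.kerLift_injective act).comp hθinj
      q := fun u => Q u
      q_zero := QuadraticMap.map_zero Q
      q_inv := fun g v => by
        show Q (QuotientGroup.kerLift act (θ g) v) = _
        obtain ⟨c, hc⟩ := QuotientGroup.mk_surjective (θ g)
        rw [← hc, QuotientGroup.kerLift_mk]
        exact Fm.induced_mem _ v
      B_add := fun a a' v => by rw [hB, hB, hB, QuadraticMap.polar_add_left]
      nondeg := fun u hu => by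
        obtain ⟨x, rfl⟩ := Fm.surj u
        rw [Fm.π_eq_zero, ← Fm.mem_center, mem_center_iff]
        intro y
        rw [Fm.comm x y, ← hB, hu (Fm.π y)]
        simp [zp]
      card := hU }
  let ρ : G → Equiv.Perm U := fun c => if h : c ∈ C then act ⟨c, h⟩ else 1
  have hρC : ∀ (c : G) (h : c * z = z * c), ρ c = act ⟨c, mem_centralizer_singleton_iff.2 h⟩ :=
    fun c h => dif_pos _
  refine ⟨{
    z_sq := zz
    z_ne := z1
    hzJ := ⟨zc, hzJ, rfl⟩
    le := by rintro _ ⟨a, -, rfl⟩; exact hcm a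
    norm := by
      rintro c hc _ ⟨a, ha, rfl⟩
      exact ⟨⟨c, mem_centralizer_singleton_iff.2 hc⟩ * a * (⟨c, mem_centralizer_singleton_iff.2 hc⟩)⁻¹,
        hJn.conj_mem a ha _, rfl⟩
    V := U
    R := R
    π := pi
    π_mul := by
      rintro _ ⟨a, ha, rfl⟩ _ ⟨b, hb, rfl⟩
      exact (hpi (⟨a, ha⟩ * ⟨b, hb⟩)).trans ((Fm.π_mul _ _).trans
        (congrArg₂ (· + ·) (hpi ⟨a, ha⟩).symm (hpi ⟨b, hb⟩).symm))
    π_surj := fun v => by
      obtain ⟨a, rfl⟩ := Fm.surj v
      exact ⟨_, ⟨a.1, a.2, rfl⟩, hpi a⟩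
    π_zero := by
      rintro _ ⟨a, ha, rfl⟩
      show pi ((⟨a, ha⟩ : ↥J) : ↥C) = 0 ↔ _
      rw [hpi, Fm.π_eq_zero, hzj]
      exact ⟨fun h => h.imp (fun h => congrArg (fun b : ↥J => ((b : ↥C) : G)) h)
          (fun h => congrArg (fun b : ↥J => ((b : ↥C) : G)) h),
        fun h => h.imp (fun h => Subtype.ext (Subtype.ext h)) (fun h => Subtype.ext (Subtype.ext h))⟩
    sq := by
      rintro _ ⟨a, ha, rfl⟩
      show (((⟨a, ha⟩ * ⟨a, ha⟩ : ↥J) : ↥C) : G) = zp z (Q (pi ((⟨a, ha⟩ : ↥J) : ↥C)))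
      rw [hpi, Fm.sq, hzp]
    comm := by
      rintro _ ⟨a, ha, rfl⟩ _ ⟨b, hb, rfl⟩
      show (((⟨b, hb⟩ * ⟨a, ha⟩ : ↥J) : ↥C) : G) =
        (((⟨a, ha⟩ * ⟨b, hb⟩ : ↥J) : ↥C) : G) *
          zp z (R.B (pi ((⟨a, ha⟩ : ↥J) : ↥C)) (pi ((⟨b, hb⟩ : ↥J) : ↥C)))
      rw [hpi, hpi, Fm.comm, ← hB, ← hzp]
      rfl
    ρ := ρ
    ρ_mul := fun c d hc hd => by
      rw [hρC c hc, hρC d hd, hρC (c * d) ((Commute.mul_left hc hd).eq), ← map_mul]
      rfl
    ρ_π := fun c hc => by
      rintro _ ⟨a, ha, rfl⟩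
      rw [hρC c hc]
      show pi _ = Fm.induced _ (pi ((⟨a, ha⟩ : ↥J) : ↥C))
      rw [hpi, Fm.induced_π]
      exact hpi (MulAut.conjNormal (⟨c, mem_centralizer_singleton_iff.2 hc⟩ : ↥C) ⟨a, ha⟩)
    ρ_ker := fun c hc => by
      rw [hρC c hc, ← MonoidHom.mem_ker, hker]
      exact ⟨fun h => ⟨_, h, rfl⟩, fun ⟨a, ha, e⟩ =>
        (show (⟨c, mem_centralizer_singleton_iff.2 hc⟩ : ↥C) = a from Subtype.ext e.symm) ▸ ha⟩
    ρ_range := fun g => by
      obtain ⟨c, hc⟩ := QuotientGroup.mk_surjective (θ g)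
      refine ⟨c.1, hcm c, ?_⟩
      rw [hρC c.1 (hcm c)]
      show act c = QuotientGroup.kerLift act (θ g)
      rw [← hc, QuotientGroup.kerLift_mk]
    ρ_norm := fun c hc g => by
      obtain ⟨d, hd⟩ := QuotientGroup.mk_surjective (θ g)
      set c' : ↥C := ⟨c, mem_centralizer_singleton_iff.2 hc⟩
      have hd' : act d = φ g := by
        show _ = QuotientGroup.kerLift act (θ g)
        rw [← hd, QuotientGroup.kerLift_mk]
      obtain ⟨g', hg'⟩ : ∃ g', act (c' * d * c'⁻¹) = φ g' := by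
        rw [hinn, map_mul, map_mul, map_inv, (hη d g).1 hd']
        exact ⟨η c' (e' g), conj_aut (η c') (e' g)⟩
      refine ⟨g', ?_⟩
      rw [hρC c hc, show R.φ g = φ g from rfl, show R.φ g' = φ g' from rfl, ← hd', ← hg', ← map_mul,
        ← map_mul, inv_mul_cancel_right]
    out_mul := fun c d hc hd h h' => by
      rw [hρC c hc] at h
      rw [hρC d hd] at h'
      rw [hρC (c * d) ((Commute.mul_left hc hd).eq)]
      refine (hinn _).2 ?_
      rw [show (⟨c * d, _⟩ : ↥C) = ⟨c, mem_centralizer_singleton_iff.2 hc⟩ *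
        ⟨d, mem_centralizer_singleton_iff.2 hd⟩ from rfl, map_mul,
        Subgroup.mul_mem_iff_of_index_two hidx]
      exact iff_of_false (fun m => h ((hinn _).2 m)) (fun m => h' ((hinn _).2 m))
    out_exists := by
      obtain ⟨a, ha⟩ : ∃ a, a ∉ cm.range := by
        by_contra hcon
        push Not at hcon
        rw [(eq_top_iff' _).2 hcon, index_top] at hidx
        norm_num at hidx
      obtain ⟨c, hc⟩ := QuotientGroup.mk_surjective (e.symm a)
      refine ⟨c.1, hcm c, ?_⟩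
      rintro ⟨g, hg⟩
      rw [hρC c.1 (hcm c)] at hg
      apply ha
      have := (hinn c).1 ⟨g, hg⟩
      rwa [show η c = e (c : ↥C ⧸ J) from rfl, hc, e.apply_symm_apply] at this
    cent := fun c hc h => by
      set c' : ↥C := ⟨c, mem_centralizer_singleton_iff.2 hc⟩
      refine ⟨c', ?_, rfl⟩
      have h1 : η c' = 1 := by
        refine MulEquiv.ext fun s => hinj ?_
        obtain ⟨d, hd⟩ := QuotientGroup.mk_surjective (e.symm (cm s))
        have hd' : act d = φ (e'.symm s) := (hη d _).2 (by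
          rw [show η d = e (d : ↥C ⧸ J) from rfl, hd, e.apply_symm_apply, e'.apply_symm_apply])
        have h2 : act (c' * d * c'⁻¹) = φ (e'.symm s) := by
          have := h (e'.symm s)
          rw [hρC c hc, show R.φ (e'.symm s) = φ (e'.symm s) from rfl, ← hd', ← map_mul, ← map_mul] at this
          rw [map_mul, this, ← map_mul, mul_inv_cancel_right, hd']
        have h3 := (hη _ _).1 h2
        rw [map_mul, map_mul, map_inv, (hη d _).1 hd', e'.apply_symm_apply] at h3
        show cm (η c' s) = cm s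
        rwa [show cm (η c' s) = η c' * cm s * (η c')⁻¹ from (conj_aut _ _)]
      rwa [show η c' = e (c' : ↥C ⧸ J) from rfl, map_eq_one_iff e e.injective,
        QuotientGroup.eq_one_iff] at h1 }⟩

theorem exists_two
    (e : (↥(centralizer ({z} : Set G)) ⧸ Cfsg.pCore 2 ↥(centralizer ({z} : Set G))) ≃*
      MulAut (Cfsg.PSp 2 F)) :
    Nonempty (Two z ((Cfsg.pCore 2 ↥(centralizer ({z} : Set G))).map
      (centralizer ({z} : Set G)).subtype)) := by
  rcases exists_formMap hJ 4 (by norm_num) hJc with h | h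
  · obtain ⟨Fm⟩ := h
    exact exists_two_of_form hz hF hJ hJc hCJ Fm
      (by rw [Nat.card_eq_fintype_card]; simp) e
  · obtain ⟨Fm⟩ := h
    exact exists_two_of_form hz hF hJ hJc hCJ Fm
      (by rw [Nat.card_eq_fintype_card]; simp) e

end Build

end Cfsg.Agent.H49.UChar
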