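import Cfsg.Agent.H49.UChar.Two
import Cfsg.Agent.H49.UChar.Perp
import Cfsg.Agent.H49.UChar.Stab
import Cfsg.Agent.H49.UChar.Weak

/-!
Basic facts about the centraliser with an outer half; an outer element centralising an element of
order five.
-/

set_option autoImplicit false
set_option maxRecDepth 20000
set_option linter.unusedSectionVars false
set_option linter.unusedFintypeInType false
set_option linter.style.haveILetI false

namespace Cfsg.Agent.H49.UChar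

open Cfsg Cfsg.Agent.Compute
open Cfsg.Agent.H92.ExtraForm (zp zp_inj)
open Cfsg.Agent.H49.USix
open H76.LocallyS3 (cj cj_cj cj_injective)

/-- A two-element commuting with a nontrivial element of order five is trivial. -/
theorem two_five {b : SU4} (hb : b ^ 5 = 1) (hb1 : b ≠ 1) :
    ∀ (k : ℕ) (s : SU4), s ^ (2 ^ k) = 1 → Commute s b → s = 1 := by
  intro k
  induction k with
  | zero => intro s hs _; simpa using hs
  | succ k ih =>
    intro s hs hc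
    have h2 : s ^ 2 = 1 := ih _ (by rw [← pow_mul, ← pow_succ']; exact hs) (hc.pow_left 2)
    exact five_four (by rw [show s ^ 4 = (s ^ 2) ^ 2 from (pow_mul s 2 2), h2, one_pow]) hb hb1 hc

theorem five_word_ok : allN 256 (fun w =>
    Nat.beq (tC 31 (tC 1 (tC 0 (tC 26 (tC 15 (tC 1 (tC 0 w)))))))
      (tC 26 (tC 15 (tC 1 (tC 0 (tC 26 (tC 15 (tC 1 (tC 0 (tC 31 (tC 1 (tC 0 w))))))))))) &&
    Nat.beq (tC 26 (tC 15 (tC 1 (tC 0 (tC 26 (tC 15 (tC 1 (tC 0 (tC 26 (tC 15 (tC 1 (tC 0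
      (tC 26 (tC 15 (tC 1 (tC 0 (tC 26 (tC 15 (tC 1 (tC 0 w)))))))))))))))))))) w) = true := by
  decide +kernel

/-- An element of order five and one squaring it. -/
theorem exists_five_norm : ∃ b g : SU4, b ^ 5 = 1 ∧ b ≠ 1 ∧ g * b * g⁻¹ = b ^ 2 := by
  obtain ⟨b, hb⟩ := closure_le_range (mul_mem (mul_mem (mul_mem
    (Subgroup.subset_closure ⟨26, rfl⟩ : tp 26 ∈ Subgroup.closure (Set.range tp))
    (Subgroup.subset_closure ⟨15, rfl⟩)) (Subgroup.subset_closure ⟨1, rfl⟩))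
    (Subgroup.subset_closure ⟨0, rfl⟩))
  obtain ⟨g, hg⟩ := closure_le_range (mul_mem (mul_mem
    (Subgroup.subset_closure ⟨31, rfl⟩ : tp 31 ∈ Subgroup.closure (Set.range tp))
    (Subgroup.subset_closure ⟨1, rfl⟩)) (Subgroup.subset_closure ⟨0, rfl⟩))
  have hB : ∀ n : ℕ, Ahom b (d4 n) = d4 (tC 26 (tC 15 (tC 1 (tC 0 n)))) := fun n => by
    rw [hb]; simp only [Equiv.Perm.mul_apply, ← d4_tC]; rfl
  have hG : ∀ n : ℕ, Ahom g (d4 n) = d4 (tC 31 (tC 1 (tC 0 n))) := fun n => by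
    rw [hg]; simp only [Equiv.Perm.mul_apply, ← d4_tC]; rfl
  have hok : ∀ v : Fin 256, Ahom (g * b) (d4 v.1) = Ahom (b * b * g) (d4 v.1) ∧
      Ahom (b ^ 5) (d4 v.1) = d4 v.1 := fun v => by
    have h := (allN_iff _ _).1 five_word_ok v.1 v.2
    simp only [Bool.and_eq_true, Nat.beq_eq] at h
    constructor
    · simp only [map_mul, Equiv.Perm.mul_apply, hB, hG]
      rw [h.1]
    · simp only [pow_succ, pow_zero, one_mul, map_mul, Equiv.Perm.mul_apply, hB]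
      rw [h.2]
  have h5 : b ^ 5 = 1 := Ahom_inj (Equiv.ext fun w => by
    obtain ⟨v, rfl⟩ := d4_surj w
    rw [(hok v).2, map_one, Equiv.Perm.one_apply])
  have hgb : g * b = b * b * g := Ahom_inj (Equiv.ext fun w => by
    obtain ⟨v, rfl⟩ := d4_surj w
    exact (hok v).1)
  refine ⟨b, g, h5, fun e => ?_, by rw [hgb, pow_two, mul_inv_cancel_right]⟩
  have ok : H41.SUSix.anyN 256 (fun n => !Nat.beq (tC 26 (tC 15 (tC 1 (tC 0 n)))) n) = true := by decide +kernel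
  obtain ⟨n, hn, hne⟩ := (H41.SUSix.anyN_iff _ _).1 ok
  have h := hB n
  rw [e, map_one, Equiv.Perm.one_apply] at h
  have lt : allN 256 (fun n => Nat.blt (tC 26 (tC 15 (tC 1 (tC 0 n)))) 256) = true := by decide +kernel
  have e' := d4_inj hn (by simpa [Nat.blt_eq] using (allN_iff _ _).1 lt n hn) h
  rw [← e', Nat.beq_refl] at hne
  exact Bool.noConfusion hne

namespace Two

variable {G : Type*} [Group G] [Finite G] {z : G} {J : Subgroup G} (P : Two z J)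

/-- An element inducing an inner automorphism. -/
def Inn (c : G) : Prop := ∃ g, P.ρ c = P.R.φ g

include P

theorem cz_one : (1 : G) * z = z * 1 := by rw [one_mul, mul_one]

theorem cz_mul {c d : G} (hc : c * z = z * c) (hd : d * z = z * d) : c * d * z = z * (c * d) :=
  (Commute.mul_left hc hd).eq

theorem cz_inv {c : G} (hc : c * z = z * c) : c⁻¹ * z = z * c⁻¹ :=
  (Commute.inv_left (show Commute c z from hc)).eq

theorem cz_pow {c : G} (hc : c * z = z * c) (n : ℕ) : c ^ n * z = z * c ^ n :=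
  (Commute.pow_left (show Commute c z from hc) n).eq

theorem cz_J {q : G} (hq : q ∈ J) : q * z = z * q := P.le q hq

theorem cz_cj {c x : G} (hc : c * z = z * c) (hx : x * z = z * x) : cj c x * z = z * cj c x :=
  P.cz_mul (P.cz_mul hc hx) (P.cz_inv hc)

theorem cj_z {c : G} (hc : c * z = z * c) : cj c z = z := cj_fix_iff.2 hc

theorem π_one : P.π 1 = 0 := (P.π_zero 1 J.one_mem).2 (Or.inl rfl)

theorem π_z : P.π z = 0 := (P.π_zero z P.hzJ).2 (Or.inr rfl)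

theorem π_zmul {q : G} (hq : q ∈ J) : P.π (z * q) = P.π q := by
  rw [P.π_mul z P.hzJ q hq, P.π_z, zero_add]

theorem π_inv {q : G} (hq : q ∈ J) : P.π q⁻¹ = P.π q := by
  have h := P.π_mul q⁻¹ (inv_mem hq) q hq
  rw [inv_mul_cancel, P.π_one] at h
  rw [← ZModModule.sub_eq_add] at h
  exact sub_eq_zero.1 h.symm

theorem π_eq {q r : G} (hq : q ∈ J) (hr : r ∈ J) (h : P.π q = P.π r) : r = q ∨ r = z * q := by
  have h0 : P.π (r * q⁻¹) = 0 := by
    rw [P.π_mul r hr _ (inv_mem hq), P.π_inv hq, h]; exact P.R.vv _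
  rcases (P.π_zero _ (mul_mem hr (inv_mem hq))).1 h0 with e | e
  · exact Or.inl (mul_inv_eq_one.1 e)
  · exact Or.inr (mul_inv_eq_iff_eq_mul.1 e)

theorem comm_iff {q r : G} (hq : q ∈ J) (hr : r ∈ J) :
    q * r = r * q ↔ P.R.B (P.π q) (P.π r) = 0 := by
  have h := P.comm q hq r hr
  constructor
  · intro e
    rw [← e] at h
    have h1 : zp z (P.R.B (P.π q) (P.π r)) = zp z 0 := by simpa [zp] using h
    exact zp_inj P.z_ne h1
  · intro e
    rw [e] at h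
    simpa [zp] using h.symm

theorem zp_mem (t : ZMod 2) : zp z t ∈ J ∧ P.π (zp z t) = 0 := by
  unfold zp; split_ifs
  exacts [⟨one_mem _, P.π_one⟩, ⟨P.hzJ, P.π_z⟩]

theorem pow_four {q : G} (hq : q ∈ J) : q ^ 4 = 1 := by
  have h := P.sq q hq
  have h2 : zp z (P.R.q (P.π q)) * zp z (P.R.q (P.π q)) = 1 := by
    unfold zp; split_ifs <;> simp [P.z_sq]
  rw [← h] at h2
  simpa [pow_succ, mul_assoc] using h2

theorem cj_mem {c q : G} (hc : c * z = z * c) (hq : q ∈ J) : cj c q ∈ J := P.norm c hc q hq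

theorem π_cj {c q : G} (hc : c * z = z * c) (hq : q ∈ J) : P.π (cj c q) = P.ρ c (P.π q) :=
  P.ρ_π c hc q hq

theorem ρ_one : P.ρ 1 = 1 := (P.ρ_ker 1 P.cz_one).2 J.one_mem

theorem ρ_of_J {q : G} (hq : q ∈ J) : P.ρ q = 1 := (P.ρ_ker q (P.cz_J hq)).2 hq

theorem ρ_inv {c : G} (hc : c * z = z * c) : P.ρ c⁻¹ = (P.ρ c)⁻¹ := by
  refine eq_inv_of_mul_eq_one_left ?_
  rw [← P.ρ_mul _ _ (P.cz_inv hc) hc, inv_mul_cancel, P.ρ_one]

theorem ρ_pow {c : G} (hc : c * z = z * c) (n : ℕ) : P.ρ (c ^ n) = P.ρ c ^ n := by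
  induction n with
  | zero => rw [pow_zero, pow_zero, P.ρ_one]
  | succ n ih => rw [pow_succ, pow_succ, P.ρ_mul _ _ (P.cz_pow hc n) hc, ih]

theorem ρ_cj {c x : G} (hc : c * z = z * c) (hx : x * z = z * x) :
    P.ρ (cj c x) = P.ρ c * P.ρ x * (P.ρ c)⁻¹ := by
  rw [cj, P.ρ_mul _ _ (P.cz_mul hc hx) (P.cz_inv hc), P.ρ_mul _ _ hc hx, P.ρ_inv hc]

theorem ρ_add {c : G} (hc : c * z = z * c) (u v : P.V) : P.ρ c (u + v) = P.ρ c u + P.ρ c v := by
  obtain ⟨q, hq, rfl⟩ := P.π_surj u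
  obtain ⟨r, hr, rfl⟩ := P.π_surj v
  rw [← P.π_mul q hq r hr, ← P.π_cj hc (mul_mem hq hr), cj_mul', P.π_mul _ (P.cj_mem hc hq) _
    (P.cj_mem hc hr), P.π_cj hc hq, P.π_cj hc hr]

theorem ρ_zero {c : G} (hc : c * z = z * c) : P.ρ c 0 = 0 := by
  have h := P.ρ_add hc 0 0
  rw [add_zero] at h
  exact left_eq_add.1 h

theorem ρ_B {c : G} (hc : c * z = z * c) (u v : P.V) :
    P.R.B (P.ρ c u) (P.ρ c v) = P.R.B u v := by
  obtain ⟨q, hq, rfl⟩ := P.π_surj u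
  obtain ⟨r, hr, rfl⟩ := P.π_surj v
  have h := congrArg (cj c) (P.comm q hq r hr)
  rw [cj_mul' c r q, cj_mul' c (q * r) _, cj_mul' c q r,
    P.comm _ (P.cj_mem hc hq) _ (P.cj_mem hc hr), P.π_cj hc hq, P.π_cj hc hr] at h
  refine zp_inj P.z_ne ((mul_left_cancel h).trans ?_)
  unfold zp
  split_ifs
  · simp [cj]
  · exact P.cj_z hc

theorem ρ_q {c : G} (hc : c * z = z * c) (u : P.V) : P.R.q (P.ρ c u) = P.R.q u := by
  obtain ⟨q, hq, rfl⟩ := P.π_surj u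
  have h := congrArg (cj c) (P.sq q hq)
  rw [cj_mul' c q q, P.sq _ (P.cj_mem hc hq), P.π_cj hc hq] at h
  refine zp_inj P.z_ne (h.trans ?_)
  unfold zp
  split_ifs
  · simp [cj]
  · exact P.cj_z hc

/-- The induced map as a homomorphism. -/
noncomputable def hom {c : G} (hc : c * z = z * c) : P.V →+ P.V :=
  AddMonoidHom.mk' (P.ρ c) (P.ρ_add hc)

theorem hom_apply {c : G} (hc : c * z = z * c) (v : P.V) : P.hom hc v = P.ρ c v := rfl

theorem fix_perp {c : G} (hc : c * z = z * c) (u : P.V) {v : P.V} (hv : P.ρ c v = v) :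
    P.R.B (u + P.ρ c u) v = 0 := by
  rw [P.R.B_add_left]
  nth_rw 2 [← hv]
  rw [P.ρ_B hc]
  exact ZModModule.add_self _

/-- What is orthogonal to the fixed space is a displacement. -/
theorem exists_disp {c : G} (hc : c * z = z * c) {u : P.V}
    (hu : ∀ k, P.ρ c k = k → P.R.B u k = 0) : ∃ w, w + P.ρ c w = u :=
  P.R.perp_fixed (f := P.hom hc) (fun a b => or_iff_not_imp_right.2 fun h =>
    P.fix_perp hc a (not_not.1 h)) hu

theorem cj_of_fix {c q : G} (hc : c * z = z * c) (hq : q ∈ J) (h : P.ρ c (P.π q) = P.π q) :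
    cj c q = q ∨ cj c q = z * q :=
  P.π_eq hq (P.cj_mem hc hq) ((P.π_cj hc hq).trans h).symm

theorem odd_comm {c q : G} (hc : c * z = z * c) {n : ℕ} (hn : Odd n) (hcn : c ^ n = 1) (hq : q ∈ J)
    (h : P.ρ c (P.π q) = P.π q) : c * q = q * c :=
  cj_fix_iff.1 (odd_fix P.z_sq hc hn hcn (P.cj_of_fix hc hq h))

/-- The commutator with an element of the core. -/
theorem π_move {x q : G} (hx : x * z = z * x) (hq : q ∈ J) :
    q * cj x q⁻¹ ∈ J ∧ P.π (q * cj x q⁻¹) = P.π q + P.ρ x (P.π q) := by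
  refine ⟨mul_mem hq (P.cj_mem hx (inv_mem hq)), ?_⟩
  rw [P.π_mul _ hq _ (P.cj_mem hx (inv_mem hq)), P.π_cj hx (inv_mem hq), P.π_inv hq]

theorem card_J : Nat.card ↥J = 512 := by
  choose L hL hLπ using P.π_surj
  have h : Nat.card (P.V × ZMod 2) = Nat.card ↥J := by
    refine Nat.card_eq_of_bijective
      (fun p => (⟨zp z p.2 * L p.1, mul_mem (P.zp_mem p.2).1 (hL _)⟩ : ↥J)) ⟨?_, ?_⟩
    · rintro ⟨v, s⟩ ⟨v', s'⟩ e
      have e' : zp z s * L v = zp z s' * L v' := congrArg Subtype.val e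
      have hv : v = v' := by
        have h := congrArg P.π e'
        rwa [P.π_mul _ (P.zp_mem s).1 _ (hL v), P.π_mul _ (P.zp_mem s').1 _ (hL v'), hLπ, hLπ,
          (P.zp_mem s).2, (P.zp_mem s').2, zero_add, zero_add] at h
      subst hv
      exact Prod.ext rfl (zp_inj P.z_ne (mul_right_cancel e'))
    · rintro ⟨q, hq⟩
      rcases P.π_eq (hL (P.π q)) hq (hLπ _) with e | e
      · exact ⟨(P.π q, 0), Subtype.ext (by
          show zp z (0 : ZMod 2) * L (P.π q) = q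
          rw [show zp z (0 : ZMod 2) = 1 by simp [zp], one_mul]; exact e.symm)⟩
      · exact ⟨(P.π q, 1), Subtype.ext (by
          show zp z (1 : ZMod 2) * L (P.π q) = q
          rw [show zp z (1 : ZMod 2) = z by simp [zp]]; exact e.symm)⟩
  rw [← h, Nat.card_prod, P.R.card, Nat.card_zmod]

theorem inn_J {q : G} (hq : q ∈ J) : P.Inn q := ⟨1, by rw [P.ρ_of_J hq, map_one]⟩

theorem inn_mul {c d : G} (hc : c * z = z * c) (hd : d * z = z * d) (h : P.Inn c) (h' : P.Inn d) :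
    P.Inn (c * d) := by
  obtain ⟨g, hg⟩ := h
  obtain ⟨g', hg'⟩ := h'
  exact ⟨g * g', by rw [P.ρ_mul c d hc hd, hg, hg', map_mul]⟩

theorem inn_inv {c : G} (hc : c * z = z * c) (h : P.Inn c) : P.Inn c⁻¹ := by
  obtain ⟨g, hg⟩ := h
  exact ⟨g⁻¹, by rw [P.ρ_inv hc, hg, map_inv]⟩

theorem inn_mul_iff {c d : G} (hc : c * z = z * c) (hd : d * z = z * d) :
    P.Inn (c * d) ↔ (P.Inn c ↔ P.Inn d) := by
  constructor
  · intro h
    constructor
    · intro h'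
      have := P.inn_mul (P.cz_inv hc) (P.cz_mul hc hd) (P.inn_inv hc h') h
      rwa [inv_mul_cancel_left] at this
    · intro h'
      have := P.inn_mul (P.cz_mul hc hd) (P.cz_inv hd) h (P.inn_inv hd h')
      rwa [mul_inv_cancel_right] at this
  · intro h
    by_cases h' : P.Inn c
    · exact P.inn_mul hc hd h' (h.1 h')
    · exact P.out_mul c d hc hd h' fun h'' => h' (h.2 h'')

theorem inn_inv_iff {c : G} (hc : c * z = z * c) : P.Inn c⁻¹ ↔ P.Inn c :=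
  ⟨fun h => by have := P.inn_inv (P.cz_inv hc) h; rwa [inv_inv] at this, P.inn_inv hc⟩

theorem inn_sq {c : G} (hc : c * z = z * c) : P.Inn (c * c) := (P.inn_mul_iff hc hc).2 Iff.rfl

theorem inn_comm {c d : G} (hc : c * z = z * c) (hd : d * z = z * d) :
    P.Inn (c * d * c⁻¹ * d⁻¹) := by
  rw [P.inn_mul_iff (P.cz_mul (P.cz_mul hc hd) (P.cz_inv hc)) (P.cz_inv hd),
    P.inn_mul_iff (P.cz_mul hc hd) (P.cz_inv hc), P.inn_mul_iff hc hd, P.inn_inv_iff hc,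
    P.inn_inv_iff hd]
  tauto

theorem inn_odd_pow {c : G} (hc : c * z = z * c) {n : ℕ} (hn : Odd n) : P.Inn (c ^ n) ↔ P.Inn c := by
  obtain ⟨m, rfl⟩ := hn
  rw [pow_succ, pow_mul, P.inn_mul_iff (P.cz_pow (P.cz_pow hc 2) m) hc]
  have : P.Inn ((c ^ 2) ^ m) := by
    induction m with
    | zero => rw [pow_zero]; exact P.inn_J J.one_mem
    | succ m ih => rw [pow_succ]; exact P.inn_mul (P.cz_pow (P.cz_pow hc 2) m) (P.cz_pow hc 2) ih
                     (pow_two c ▸ P.inn_sq hc)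
  tauto

theorem inn_of_odd_order {c : G} (hc : c * z = z * c) {n : ℕ} (hn : Odd n) (hcn : c ^ n = 1) :
    P.Inn c := (P.inn_odd_pow hc hn).1 (hcn ▸ P.inn_J J.one_mem)

theorem exists_lift {g : SU4} {k m : ℕ} (hg : g ^ k = 1) (hm : g ^ m = g) (h4 : 4 ∣ m) :
    ∃ c : G, c * z = z * c ∧ P.ρ c = P.R.φ g ∧ c ^ k = 1 := by
  obtain ⟨c, hc, hρ⟩ := P.ρ_range g
  refine ⟨c ^ m, P.cz_pow hc m, by rw [P.ρ_pow hc, hρ, ← map_pow, hm], ?_⟩
  obtain ⟨l, rfl⟩ := h4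
  have hJ : c ^ k ∈ J := (P.ρ_ker _ (P.cz_pow hc k)).1 (by rw [P.ρ_pow hc, hρ, ← map_pow, hg, map_one])
  rw [← pow_mul, show 4 * l * k = k * 4 * l by ring, pow_mul, pow_mul, P.pow_four hJ, one_pow]

/-- The elements inducing powers of a given one of order five. -/
theorem conj_in_five {b : SU4} (hb : b ^ 5 = 1) (hb1 : b ≠ 1) {a d : G} (ha : a * z = z * a)
    (hd : d * z = z * d) (hρa : P.ρ a = P.R.φ b) (hρd : P.ρ d = P.R.φ b) (ha5 : a ^ 5 = 1)
    (hd5 : d ^ 5 = 1) : ∃ x : G, x * z = z * x ∧ P.Inn x ∧ cj x a = d := by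
  classical
  haveI : Fact (Nat.Prime 5) := ⟨by norm_num⟩
  let K : Subgroup G :=
    { carrier := {x | x * z = z * x ∧ P.ρ x ∈ Subgroup.zpowers (P.R.φ b)}
      one_mem' := ⟨P.cz_one, by rw [P.ρ_one]; exact one_mem _⟩
      mul_mem' := fun {x y} hx hy => ⟨P.cz_mul hx.1 hy.1, by
        rw [P.ρ_mul x y hx.1 hy.1]; exact mul_mem hx.2 hy.2⟩
      inv_mem' := fun {x} hx => ⟨P.cz_inv hx.1, by rw [P.ρ_inv hx.1]; exact inv_mem hx.2⟩ }
  have haK : a ∈ K := ⟨ha, hρa ▸ Subgroup.mem_zpowers _⟩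
  have hdK : d ∈ K := ⟨hd, hρd ▸ Subgroup.mem_zpowers _⟩
  let f : ↥K →* Equiv.Perm P.V := MonoidHom.mk' (fun x => P.ρ x.1) fun x y => P.ρ_mul _ _ x.2.1 y.2.1
  have hbo : orderOf (P.R.φ b) = 5 :=
    orderOf_eq_prime (by rw [← map_pow, hb, map_one]) fun e => hb1 (P.R.inj (e.trans (map_one _).symm))
  have hr : f.range = Subgroup.zpowers (P.R.φ b) := by
    refine le_antisymm ?_ ((Subgroup.zpowers_le).2 ⟨⟨d, hdK⟩, hρd⟩)
    rintro _ ⟨x, rfl⟩
    exact x.2.2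
  have hk : Nat.card ↥f.ker = 512 := by
    rw [← P.card_J]
    exact Nat.card_congr
      { toFun := fun x => ⟨x.1.1, (P.ρ_ker _ x.1.2.1).1 x.2⟩
        invFun := fun q => ⟨⟨q.1, P.cz_J q.2, by rw [P.ρ_of_J q.2]; exact one_mem _⟩, P.ρ_of_J q.2⟩
        left_inv := fun x => rfl
        right_inv := fun q => rfl }
  have hK : Nat.card ↥K = 512 * 5 := by
    rw [← f.ker.card_mul_index, Subgroup.index_ker, hr, Nat.card_zpowers, hbo, hk]
  have hsyl : ∀ y : ↥K, P.ρ y.1 = P.R.φ b → y ^ 5 = 1 →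
      Nat.card ↥(Subgroup.zpowers y) = 5 ^ (Nat.card ↥K).factorization 5 := by
    intro y hy hy5
    rw [hK, show ((512 * 5 : ℕ)).factorization 5 = 1 by
      rw [Nat.factorization_mul (by norm_num) (by norm_num)]
      simp [Nat.Prime.factorization_self (show Nat.Prime 5 by norm_num),
        Nat.factorization_eq_zero_of_not_dvd (show ¬ 5 ∣ 512 by norm_num)], pow_one, Nat.card_zpowers]
    refine orderOf_eq_prime hy5 ?_
    intro e
    refine hb1 (P.R.inj ?_)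
    rw [← hy, map_one, e]; exact P.ρ_one
  let S1 := Sylow.ofCard _ (hsyl ⟨a, haK⟩ hρa (Subtype.ext (by simpa using ha5)))
  let S2 := Sylow.ofCard _ (hsyl ⟨d, hdK⟩ hρd (Subtype.ext (by simpa using hd5)))
  obtain ⟨x, hx⟩ := MulAction.exists_smul_eq ↥K S1 S2
  have hmem : x * ⟨a, haK⟩ * x⁻¹ ∈ Subgroup.zpowers (⟨d, hdK⟩ : ↥K) := by
    have : x * ⟨a, haK⟩ * x⁻¹ ∈ ((x • S1 : Sylow 5 ↥K) : Subgroup ↥K) := by
      rw [Sylow.coe_subgroup_smul]
      exact ⟨⟨a, haK⟩, Subgroup.mem_zpowers _, rfl⟩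
    rw [hx] at this
    exact this
  refine ⟨x.1, x.2.1, ?_, ?_⟩
  · obtain ⟨i, hi⟩ := x.2.2
    exact ⟨b ^ i, by rw [map_zpow]; exact hi.symm⟩
  · obtain ⟨i, hi⟩ := hmem
    have e : d ^ i = cj x.1 a := by
      have := congrArg Subtype.val hi
      simpa [cj] using this
    have hd1 : d ≠ 1 := fun e' => hb1 (P.R.inj (by rw [← hρd, e', map_one]; exact P.ρ_one))
    have hdo : orderOf d = 5 := orderOf_eq_prime hd5 hd1
    obtain ⟨j, hj⟩ := x.2.2
    have h2 : P.ρ (cj x.1 a) = P.R.φ b := by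
      rw [P.ρ_cj x.2.1 ha, hρa, ← show P.R.φ b ^ j = P.ρ x.1 from hj,
        ((Commute.refl (P.R.φ b)).zpow_left j).eq, mul_inv_cancel_right]
    have h3 : P.R.φ b ^ i = P.R.φ b ^ (1 : ℤ) := by
      rw [zpow_one]
      refine Eq.trans ?_ h2
      have hpow : ∀ n : ℕ, P.ρ (d ^ n) = P.R.φ b ^ n := fun n => by rw [P.ρ_pow hd, hρd]
      obtain ⟨n, rfl | rfl⟩ := i.eq_nat_or_neg
      · rw [← e, zpow_natCast, zpow_natCast, hpow]
      · rw [← e, zpow_neg, zpow_neg, zpow_natCast, zpow_natCast, P.ρ_inv (P.cz_pow hd n), hpow]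
    rw [zpow_eq_zpow_iff_modEq, hbo, ← hdo, ← zpow_eq_zpow_iff_modEq, zpow_one] at h3
    rw [← e, h3]

/-- An outer element centralising an element of order five, squaring into the centre of the core. -/
theorem exists_outer : ∃ (b : SU4) (d c : G), b ^ 5 = 1 ∧ b ≠ 1 ∧ d * z = z * d ∧ P.ρ d = P.R.φ b ∧
    d ^ 5 = 1 ∧ c * z = z * c ∧ ¬ P.Inn c ∧ c * d = d * c ∧ (c * c = 1 ∨ c * c = z) := by
  classical
  haveI : Fact (Nat.Prime 5) := ⟨by norm_num⟩
  obtain ⟨b, g, hb5, hb1, hgb⟩ := exists_five_norm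
  obtain ⟨d, hd, hdb, hd5⟩ := P.exists_lift (m := 16) hb5
    (by rw [show (16 : ℕ) = 5 * 3 + 1 from rfl, pow_succ, pow_mul, hb5, one_pow, one_mul])
    (by norm_num)
  obtain ⟨c₀, hc₀, hout⟩ := P.out_exists
  obtain ⟨b', hb'⟩ := P.ρ_norm c₀ hc₀ b
  have hb'e : P.R.φ b' = P.ρ c₀ * P.R.φ b * (P.ρ c₀)⁻¹ := by rw [hb', mul_inv_cancel_right]
  have hb'5 : b' ^ 5 = 1 := P.R.inj (by
    rw [map_pow, hb'e, conj_pow, ← map_pow, hb5, map_one, mul_one, mul_inv_cancel])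
  have hb'1 : b' ≠ 1 := fun e => hb1 (P.R.inj (by
    rw [e, map_one, eq_comm, mul_inv_eq_one, mul_eq_left] at hb'e
    rw [hb'e, map_one]))
  -- conjugate it back
  obtain ⟨h, hh⟩ : ∃ h : SU4, h * b' * h⁻¹ = b := by
    have hcard : ∀ y : SU4, y ^ 5 = 1 → y ≠ 1 →
        Nat.card ↥(Subgroup.zpowers y) = 5 ^ (Nat.card SU4).factorization 5 := by
      intro y hy hy1
      rw [su4_card, show (25920 : ℕ) = 5184 * 5 from rfl,
        show ((5184 * 5 : ℕ)).factorization 5 = 1 by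
          rw [Nat.factorization_mul (by norm_num) (by norm_num)]
          simp [Nat.Prime.factorization_self (show Nat.Prime 5 by norm_num),
            Nat.factorization_eq_zero_of_not_dvd (show ¬ 5 ∣ 5184 by norm_num)],
        pow_one, Nat.card_zpowers, orderOf_eq_prime hy hy1]
    obtain ⟨x, hx⟩ := MulAction.exists_smul_eq SU4 (Sylow.ofCard _ (hcard b' hb'5 hb'1))
      (Sylow.ofCard _ (hcard b hb5 hb1))
    have hmem : x * b' * x⁻¹ ∈ ((x • Sylow.ofCard _ (hcard b' hb'5 hb'1) : Sylow 5 SU4) : Subgroup SU4) := by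
      rw [Sylow.coe_subgroup_smul]
      exact ⟨b', Subgroup.mem_zpowers _, rfl⟩
    rw [hx] at hmem
    obtain ⟨k, hk5, hk⟩ : ∃ k < 5, b ^ k = x * b' * x⁻¹ := by
      obtain ⟨k, hk, e⟩ := Finset.mem_image.1 (mem_zpowers_iff_mem_range_orderOf.1 hmem)
      exact ⟨k, orderOf_eq_prime hb5 hb1 ▸ Finset.mem_range.1 hk, e⟩
    have hpow : ∀ (j : ℕ), g ^ j * b * (g ^ j)⁻¹ = b ^ 2 ^ j := by
      intro j
      induction j with
      | zero => simp
      | succ j ih =>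
        calc g ^ (j + 1) * b * (g ^ (j + 1))⁻¹ = g * (g ^ j * b * (g ^ j)⁻¹) * g⁻¹ := by
              rw [pow_succ']; group
          _ = (g * b * g⁻¹) ^ 2 ^ j := by rw [ih, conj_pow]
          _ = b ^ 2 ^ (j + 1) := by rw [hgb, ← pow_mul, ← pow_succ']
    have hk' : ∀ j, b ^ (2 ^ j * k) = b → ∃ h : SU4, h * b' * h⁻¹ = b := fun j e =>
      ⟨g ^ j * x, by
        rw [show g ^ j * x * b' * (g ^ j * x)⁻¹ = g ^ j * (x * b' * x⁻¹) * (g ^ j)⁻¹ by group, ← hk,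
          ← conj_pow, hpow, ← pow_mul, e]⟩
    have hred : ∀ n m, n = 5 * m + 1 → b ^ n = b := fun n m e => by
      rw [e, pow_succ, pow_mul, hb5, one_pow, one_mul]
    interval_cases k
    · exfalso
      rw [pow_zero, eq_comm, mul_inv_eq_one, mul_eq_left] at hk
      exact hb'1 hk
    · exact hk' 0 (hred _ 0 rfl)
    · exact hk' 3 (hred _ 3 rfl)
    · exact hk' 1 (hred _ 1 rfl)
    · exact hk' 2 (hred _ 3 rfl)
  obtain ⟨l, hl, hlρ⟩ := P.ρ_range h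
  set c₁ := l * c₀ with hc₁def
  have hc₁ : c₁ * z = z * c₁ := P.cz_mul hl hc₀
  have hc₁out : ¬ P.Inn c₁ := fun hi => hout (((P.inn_mul_iff hl hc₀).1 hi).1 ⟨h, hlρ⟩)
  have hρc₁ : P.ρ (cj c₁ d) = P.R.φ b := by
    rw [P.ρ_cj hc₁ hd, hdb, hc₁def, P.ρ_mul l c₀ hl hc₀, hlρ,
      show P.R.φ h * P.ρ c₀ * P.R.φ b * (P.R.φ h * P.ρ c₀)⁻¹ =
        P.R.φ h * (P.ρ c₀ * P.R.φ b * (P.ρ c₀)⁻¹) * (P.R.φ h)⁻¹ by group,
      ← hb'e, ← map_inv, ← map_mul, ← map_mul, hh]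
  obtain ⟨x, hx, hxi, hxe⟩ := P.conj_in_five hb5 hb1 (P.cz_cj hc₁ hd) hd hρc₁ hdb
    (by rw [cj, conj_pow, hd5]; group) hd5
  set c₂ := x * c₁ with hc₂def
  have hc₂ : c₂ * z = z * c₂ := P.cz_mul hx hc₁
  have hc₂out : ¬ P.Inn c₂ := fun hi => hc₁out (((P.inn_mul_iff hx hc₁).1 hi).1 hxi)
  have hc₂d : c₂ * d = d * c₂ := cj_fix_iff.1 (by rw [hc₂def, ← cj_cj, hxe])
  obtain ⟨k, m, hm, hord⟩ := Nat.exists_eq_two_pow_mul_odd (orderOf_pos c₂).ne'
  set c := c₂ ^ m with hcdef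
  have hc : c * z = z * c := P.cz_pow hc₂ m
  have hcout : ¬ P.Inn c := fun hi => hc₂out ((P.inn_odd_pow hc₂ hm).1 hi)
  have hcd : c * d = d * c := ((show Commute c₂ d from hc₂d).pow_left m).eq
  have hc2k : c ^ (2 ^ k) = 1 := by rw [hcdef, ← pow_mul, mul_comm, ← hord, pow_orderOf_eq_one]
  -- the square
  set j := c * c with hjdef
  have hjz : j * z = z * j := P.cz_mul hc hc
  obtain ⟨s, hs⟩ : P.Inn j := P.inn_sq hc
  have hsb : Commute s b := P.R.inj (by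
    rw [map_mul, map_mul, ← hs, ← hdb, ← P.ρ_mul _ _ hjz hd, ← P.ρ_mul _ _ hd hjz,
      show j * d = d * j from ((show Commute c d from hcd).mul_left hcd).eq])
  have hs2 : s ^ (2 ^ k) = 1 := P.R.inj (by
    rw [map_pow, ← hs, ← P.ρ_pow hjz, hjdef, ← pow_two, ← pow_mul, mul_comm, pow_mul, hc2k, one_pow,
      P.ρ_one, map_one])
  have hjJ : j ∈ J := (P.ρ_ker _ hjz).1 (by rw [hs, two_five hb5 hb1 k s hs2 hsb, map_one])
  have hσ2 : ∀ v, P.ρ c (P.ρ c v) = v := fun v => by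
    rw [← Equiv.Perm.mul_apply, ← P.ρ_mul _ _ hc hc, P.ρ_of_J hjJ]; rfl
  obtain ⟨w, hw⟩ := P.exists_disp hc (u := P.π j) fun v hv => by
    obtain ⟨q, hq, rfl⟩ := P.π_surj v
    refine (P.comm_iff hjJ hq).1 (cj_fix_iff.1 ?_)
    rw [hjdef, ← cj_cj]
    rcases P.cj_of_fix hc hq hv with e | e <;> rw [e]
    · exact e
    · rw [cj_mul' c z q, e, P.cj_z hc, ← mul_assoc, P.z_sq, one_mul]
  set w' := w + P.R.φ b w + P.R.φ (b ^ 2) w + P.R.φ (b ^ 3) w + P.R.φ (b ^ 4) w with hw'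
  have hcb : ∀ n : ℕ, ∀ v, P.ρ c (P.R.φ (b ^ n) v) = P.R.φ (b ^ n) (P.ρ c v) := fun n v => by
    rw [map_pow, ← hdb, ← P.ρ_pow hd, ← Equiv.Perm.mul_apply, ← P.ρ_mul _ _ hc (P.cz_pow hd n),
      ((show Commute c d from hcd).pow_right n).eq, P.ρ_mul _ _ (P.cz_pow hd n) hc,
      Equiv.Perm.mul_apply]
  have hjfix : ∀ n : ℕ, P.R.φ (b ^ n) (P.π j) = P.π j := fun n => by
    rw [map_pow, ← hdb, ← P.ρ_pow hd, ← P.π_cj (P.cz_pow hd n) hjJ, cj_fix_iff.2
      ((((show Commute c d from hcd).mul_left hcd).pow_right n).eq).symm]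
  have hwd : w' + P.ρ c w' = P.π j := by
    have h1 : ∀ n : ℕ, P.R.φ (b ^ n) w + P.ρ c (P.R.φ (b ^ n) w) = P.π j := fun n => by
      rw [hcb, ← P.R.add, hw, hjfix]
    have hcb1 : P.R.φ b w + P.ρ c (P.R.φ b w) = P.π j := by simpa using h1 1
    calc w' + P.ρ c w' = (w + P.ρ c w) + (P.R.φ b w + P.ρ c (P.R.φ b w)) +
          (P.R.φ (b ^ 2) w + P.ρ c (P.R.φ (b ^ 2) w)) + (P.R.φ (b ^ 3) w + P.ρ c (P.R.φ (b ^ 3) w)) +
          (P.R.φ (b ^ 4) w + P.ρ c (P.R.φ (b ^ 4) w)) := by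
            simp only [hw', P.ρ_add hc]; abel
      _ = P.π j + P.π j + (P.π j + P.π j) + P.π j := by rw [hw, hcb1, h1, h1, h1]; abel
      _ = P.π j := by simp only [P.R.vv, zero_add]
  obtain ⟨q, hq, hqw⟩ := P.π_surj w'
  have hqd : d * q = q * d := P.odd_comm hd (by decide) hd5 hq (by
    rw [hdb, hqw, hw']; exact P.R.avg_fix hb5 w)
  have hqz := P.cz_J hq
  refine ⟨b, d, c * q, hb5, hb1, hd, hdb, hd5, P.cz_mul hc hqz,
    fun hi => hcout (((P.inn_mul_iff hc hqz).1 hi).2 (P.inn_J hq)),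
    ((show Commute c d from hcd).mul_left hqd.symm).eq, ?_⟩
  have hq' := P.cj_mem (P.cz_inv hc) hq
  have hprod : c * q * (c * q) = j * cj c⁻¹ q * q := by simp only [hjdef, cj]; group
  have hmem : j * cj c⁻¹ q * q ∈ J := mul_mem (mul_mem hjJ hq') hq
  have hσi : P.ρ c⁻¹ w' = P.ρ c w' := by
    apply (P.ρ c).injective
    rw [hσ2, P.ρ_inv hc]; exact (P.ρ c).apply_symm_apply w'
  rw [hprod]
  refine (P.π_zero _ hmem).1 ?_
  rw [P.π_mul _ (mul_mem hjJ hq') _ hq, P.π_mul _ hjJ _ hq', P.π_cj (P.cz_inv hc) hq, hqw, hσi,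
    add_assoc, add_comm (P.ρ c w') w', hwd, P.R.vv]

end Two

end Cfsg.Agent.H49.UChar
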