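import Cfsg.Agent.H49.UChar.TwoNoQ

/-!
No conjugate of `z` centralising `z` induces a semilinear map: the two cores would meet in too few
elements for the centraliser of the pair.
-/

set_option autoImplicit false
set_option maxRecDepth 20000
set_option maxHeartbeats 1000000
set_option linter.unusedSectionVars false
set_option linter.style.haveILetI false

namespace Cfsg.Agent.H49.UChar

open Cfsg
open Cfsg.Agent.H41.SUSix (K4 ω₄)
open Cfsg.Agent.H92.ExtraForm (zp zp_inj)
open Cfsg.Agent.H49.USix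
open H76.LocallyS3 (cj cj_cj cj_injective)

/-- A type in which the nontrivial elements coincide has at most two elements. -/
theorem card_le_two_of {α : Type*} (a : α) (h : ∀ x y : α, x ≠ a → y ≠ a → x = y) :
    Nat.card α ≤ 2 := by
  classical
  refine le_trans (Nat.card_le_card_of_injective (fun x => decide (x = a)) fun x y e => ?_)
    (le_of_eq (by rw [Nat.card_eq_fintype_card, Fintype.card_bool]))
  simp only [decide_eq_decide] at e
  by_cases hx : x = a
  · exact hx.trans (e.1 hx).symm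
  · exact h x y hx fun hy => hx (e.2 hy)

/-- A type inside four given elements has at most four elements. -/
theorem card_le_four_of {α : Type*} (a b c d : α) (h : ∀ x : α, x = a ∨ x = b ∨ x = c ∨ x = d) :
    Nat.card α ≤ 4 := by
  refine le_trans (Nat.card_le_card_of_surjective ![a, b, c, d] fun x => ?_) (le_of_eq (by simp))
  rcases h x with e | e | e | e
  exacts [⟨0, e.symm⟩, ⟨1, e.symm⟩, ⟨2, e.symm⟩, ⟨3, e.symm⟩]

namespace Sem

variable {K : Type*} [Group K] [Finite K] {z : K} {Q : Subgroup K} (S : Sem z Q)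
include S

/-- The centraliser in the core of an involution of the centraliser. -/
theorem fix_core_large {y : K} (hy : y * z = z * y) (hy2 : y * y = 1) :
    16 ≤ Nat.card ↥(Q ⊓ Subgroup.centralizer ({y} : Set K)) := by
  classical
  have hsemi := S.ρ_semi y hy
  let D : W4 →+ W4 := AddMonoidHom.mk' (fun v => v + S.ρ y v) fun u v => by
    show u + v + S.ρ y (u + v) = _
    rw [hsemi.add, add_add_add_comm]
  have h2 : ∀ v, S.ρ y (S.ρ y v) = v := fun v => by
    rw [← Equiv.Perm.mul_apply, ← S.ρ_mul y y hy hy, hy2, S.ρ_one]; rfl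
  have hle : D.range ≤ D.ker := by
    rintro _ ⟨v, rfl⟩
    show v + S.ρ y v + S.ρ y (v + S.ρ y v) = 0
    rw [hsemi.add, h2, add_comm (S.ρ y v) v, vec_add_self]
  have hk : 16 ≤ Nat.card ↥D.ker := by
    have h := D.ker.card_mul_index
    have hW : Nat.card W4 = 256 := by
      rw [Nat.card_eq_fintype_card, Fintype.card_fun, Fintype.card_fin, H41.SUSix.hK]; norm_num
    rw [AddSubgroup.index_ker, hW] at h
    have := AddSubgroup.card_le_of_le hle
    nlinarith
  have hfix : ∀ v, v ∈ D.ker → S.ρ y v = v := fun v hv => by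
    have h : v + S.ρ y v = 0 := hv
    have key : ∀ a b : K4, a + b = 0 → b = a := by decide +kernel
    funext i
    exact key _ _ (congrFun h i)
  choose L hL hLπ using S.π_surj
  let F : Subgroup K := Q ⊓ Subgroup.centralizer ({y} : Set K)
  have hflip : ∀ p : ↥D.ker × Bool, (if p.2 then L p.1.1 else z * L p.1.1) ∈ Q ∧
      (cj y (if p.2 then L p.1.1 else z * L p.1.1) = (if p.2 then L p.1.1 else z * L p.1.1) ∨
        cj y (if p.2 then L p.1.1 else z * L p.1.1) = z * (if p.2 then L p.1.1 else z * L p.1.1)) := by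
    rintro ⟨⟨v, hv⟩, t⟩
    have hm : (if t then L v else z * L v) ∈ Q := by
      split_ifs
      exacts [hL v, mul_mem S.hzQ (hL v)]
    refine ⟨hm, S.π_eq hm (S.cj_mem hy hm) ?_⟩
    have hπ : S.π (if t then L v else z * L v) = v := by
      split_ifs
      · exact hLπ v
      · rw [S.π_zmul (hL v), hLπ]
    rw [S.π_cj hy hm, hπ, hfix v hv]
  set e : ↥D.ker × Bool → K := fun p => if p.2 then L p.1.1 else z * L p.1.1 with he
  have hinj : Function.Injective e := by
    rintro ⟨v, s⟩ ⟨w, t⟩ h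
    have hπ : ∀ p : ↥D.ker × Bool, S.π (e p) = p.1.1 := fun p => by
      simp only [he]; split_ifs
      · exact hLπ _
      · rw [S.π_zmul (hL _), hLπ]
    have hvw : v = w := Subtype.ext (by rw [← hπ (v, s), h, hπ])
    subst hvw
    cases s <;> cases t <;> simp [he, S.z_ne] at h ⊢
  by_cases hall : ∀ p, cj y (e p) = e p
  · have h := Nat.card_le_card_of_injective (fun p => (⟨e p, (hflip p).1,
      Subgroup.mem_centralizer_singleton_iff.2 (cj_fix_iff.1 (hall p)).symm⟩ : ↥F))
      fun p q h => hinj (congrArg Subtype.val h)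
    rw [Nat.card_prod, Nat.card_eq_fintype_card (α := Bool), Fintype.card_bool] at h
    show 16 ≤ Nat.card ↥F
    omega
  · push Not at hall
    obtain ⟨p₁, hp₁⟩ := hall
    have hz' : ∀ p, cj y (e p) ≠ e p → cj y (e p) = z * e p := fun p h => (hflip p).2.resolve_left h
    have hmem : ∀ p, cj y (e p) ≠ e p → (e p₁)⁻¹ * e p ∈ F := fun p hp => by
      refine ⟨Q.mul_mem (Q.inv_mem (hflip p₁).1) (hflip p).1,
        Subgroup.mem_centralizer_singleton_iff.2 (cj_fix_iff.1 ?_).symm⟩
      rw [cj_mul' y, show cj y (e p₁)⁻¹ = (cj y (e p₁))⁻¹ by simp [cj, mul_assoc], hz' p₁ hp₁, hz' p hp,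
        _root_.mul_inv_rev, mul_assoc, inv_mul_cancel_left]
    have h := Nat.card_le_card_of_injective (fun p => if h : cj y (e p) = e p
      then (true, (⟨e p, (hflip p).1,
        Subgroup.mem_centralizer_singleton_iff.2 (cj_fix_iff.1 h).symm⟩ : ↥F))
      else (false, ⟨(e p₁)⁻¹ * e p, hmem p h⟩)) fun p q h => by
        dsimp only at h
        by_cases hp : cj y (e p) = e p <;> by_cases hq : cj y (e q) = e q
        all_goals (first | rw [dif_pos hp] at h | rw [dif_neg hp] at h)
        all_goals (first | rw [dif_pos hq] at h | rw [dif_neg hq] at h)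
        all_goals obtain ⟨hb, hv⟩ := Prod.ext_iff.1 h
        all_goals have hv := congrArg Subtype.val hv
        · exact hinj hv
        · exact Bool.noConfusion hb
        · exact Bool.noConfusion hb
        · exact hinj (mul_left_cancel hv)
    rw [Nat.card_prod, Nat.card_prod, Nat.card_eq_fintype_card (α := Bool), Fintype.card_bool] at h
    show 16 ≤ Nat.card ↥F
    omega

variable (hE : Cfsg.IsExtraspecial 2 ↥Q)
include hE

/-- No conjugate of `z` commuting with `z` is semilinear. -/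
theorem no_outer {g : K} (hxz : cj g z * z = z * cj g z) : Iso (S.ρ (cj g z)) := by
  classical
  by_contra hout
  set x := cj g z with hxdef
  set σ := S.ρ x with hσdef
  have hσ : Anti σ := (S.ρ_semi x hxz).resolve_left hout
  have hx2 : x * x = 1 := cj_self_sq S.z_sq
  have hσ2 : ∀ v, σ (σ v) = v := fun v => by
    rw [hσdef, ← Equiv.Perm.mul_apply, ← S.ρ_mul x x hxz hxz, hx2, S.ρ_one]; rfl
  have hxQ : x ∉ Q := fun h => hout (by rw [hσdef, S.ρ_of_Q h]; exact Iso.one)
  -- the partner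
  set y := cj g⁻¹ z with hydef
  have hyz : y * z = z * y := cj_back hxz.symm
  have hy2 : y * y = 1 := cj_self_sq S.z_sq
  -- the other core
  set R := Q.map (MulAut.conj g).toMonoidHom with hR
  have memR : ∀ {r : K}, r ∈ R ↔ cj g⁻¹ r ∈ Q := by
    intro r
    constructor
    · rintro ⟨q, hq, rfl⟩
      show cj g⁻¹ (cj g q) ∈ Q
      rwa [cj_inv_cj']
    · exact fun h => ⟨_, h, cj_cj_inv' g r⟩
  have onlyx : ∀ k, cj k z ∈ R → cj k z = x := by
    intro k h
    rw [memR, cj_cj] at h
    have e := congrArg (cj g) (S.no_conj_Q hE h)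
    rwa [cj_cj, mul_inv_cancel_left] at e
  have hxR : x ∈ R := ⟨z, S.hzQ, rfl⟩
  have Rx : ∀ {r : K}, r ∈ R → r * x = x * r := by
    rintro _ ⟨q, hq, rfl⟩
    show cj g q * cj g z = cj g z * cj g q
    rw [← cj_mul', ← cj_mul', S.le q hq]
  have hzR : z ∉ R := fun h => hxQ (by
    have e := onlyx 1 (by rwa [cj_one'])
    rw [cj_one'] at e
    rw [← e]; exact S.hzQ)
  have normR : ∀ {c : K}, c * x = x * c → ∀ {r : K}, r ∈ R → cj c r ∈ R := by
    intro c hc r hr
    rw [memR] at hr ⊢
    have h := S.cj_mem (cj_back hc) hr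
    rwa [cj_cj, show cj g⁻¹ c * g⁻¹ = g⁻¹ * c by simp [cj], ← cj_cj] at h
  have sqR : ∀ {r : K}, r ∈ R → r * r = 1 ∨ r * r = x := by
    rintro r ⟨q, hq, rfl⟩
    show cj g q * cj g q = 1 ∨ cj g q * cj g q = x
    rw [← cj_mul']
    rcases S.core_sq hq with e | e <;> rw [e]
    · exact Or.inl (by simp [cj])
    · exact Or.inr rfl
  have commR : ∀ {r s : K}, r ∈ R → s ∈ R → cj r s = s ∨ cj r s = x * s := by
    rintro r s ⟨p, hp, rfl⟩ ⟨q, hq, rfl⟩
    show cj (cj g p) (cj g q) = cj g q ∨ cj (cj g p) (cj g q) = x * cj g q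
    rcases S.π_eq hq (S.cj_mem (S.cz_Q hp) hq) (by
      rw [S.π_cj (S.cz_Q hp) hq, S.ρ_of_Q hp]; rfl) with e | e
    · left
      rw [cj_cj, show cj g p * g = g * p by simp [cj], ← cj_cj, e]
    · right
      rw [cj_cj, show cj g p * g = g * p by simp [cj], ← cj_cj, e, cj_mul']
  -- the meet of the cores
  set I := Q ⊓ R with hI
  have Ifix : ∀ {i : K}, i ∈ I → σ (S.π i) = S.π i := fun {i} hi => by
    rw [hσdef, ← S.π_cj hxz hi.1, cj_fix_iff.2 (Rx hi.2).symm]
  have Iinj : ∀ {i j : K}, i ∈ I → j ∈ I → S.π i = S.π j → i = j := by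
    intro i j hi hj h
    rcases S.π_eq hj.1 hi.1 h.symm with e | e
    · exact e
    · refine absurd ?_ hzR
      rw [show z = i * j⁻¹ by rw [e, mul_inv_cancel_right]]
      exact mul_mem hi.2 (inv_mem hj.2)
  have Isq : ∀ {i : K}, i ∈ I → i * i = 1 := fun {i} hi => (sqR hi.2).resolve_right fun h =>
    hxQ (h ▸ mul_mem hi.1 hi.1)
  have Iwt : ∀ {i : K}, i ∈ I → hh (S.π i) (S.π i) = 0 := fun {i} hi =>
    (iso_iff _).2 ((S.sq_iff hi.1).1 (Isq hi))
  have Icomm : ∀ {r i : K}, r ∈ R → r * z = z * r → i ∈ I → cj r i = i := by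
    intro r i hr hrz hi
    refine (commR hr hi.2).resolve_right fun h => hxQ ?_
    rw [show x = cj r i * i⁻¹ by rw [h, mul_inv_cancel_right]]
    exact mul_mem (S.cj_mem hrz hi.1) (inv_mem hi.1)
  have hperp : ∀ δ, (∀ u, σ u = u → hh u δ = 0) → δ = 0 := fun δ h => hh_nondeg fun w => by
    obtain ⟨e1, e2⟩ := anti_split hσ hσ2 w
    have hw : w = (w + ω₄ • (w + σ w)) + ω₄ • (w + σ w) := by
      rw [add_assoc, vec_add_self, add_zero]
    rw [hw, hh_add_left, hh_smul_left, h _ e1, h _ e2, mul_zero, add_zero]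
  have hflipx : ∀ u, u ∈ Q → cj x u = z * u → cj u x = z * x := by
    intro u hu h
    have h1 : x * u * x⁻¹ = z * u := h
    rw [mul_inv_eq_iff_eq_mul] at h1
    show u * x * u⁻¹ = z * x
    rw [mul_inv_eq_iff_eq_mul, mul_assoc z x u, h1]
    generalize x = w
    rw [← mul_assoc z, ← mul_assoc z z, S.z_sq, one_mul]
  have key1 : ∀ i ∈ I, i ≠ 1 → ∀ r ∈ Q, S.π r + σ (S.π r) = S.π i →
      cj r x = z * i * x ∧ ∀ u ∈ Q, σ (S.π u) = S.π u → cj x u = u := by
    intro i hi hi1 r hr hπ
    have hm : r * cj x r⁻¹ ∈ Q := mul_mem hr (S.cj_mem hxz (inv_mem hr))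
    have hπm : S.π (r * cj x r⁻¹) = S.π i := by
      rw [S.π_mul _ hr _ (S.cj_mem hxz (inv_mem hr)), S.π_cj hxz (inv_mem hr), S.π_inv hr, ← hσdef, hπ]
    have hcj : cj r x = r * cj x r⁻¹ * x := by simp only [cj]; group
    have hne : ∀ k, cj k z = i * x → False := fun k e => hi1 (by
      have h := onlyx k (by rw [e]; exact mul_mem hi.2 hxR)
      rw [e] at h
      exact mul_eq_right.1 h)
    have hres : cj r x = z * i * x := by
      rcases S.π_eq hi.1 hm hπm.symm with e | e <;> rw [hcj, e]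
      exact (hne (r * g) (by rw [← cj_cj, ← hxdef, hcj, e])).elim
    refine ⟨hres, fun u hu huU => (S.π_eq hu (S.cj_mem hxz hu) (by
      rw [S.π_cj hxz hu, ← hσdef, huU])).resolve_right fun h => ?_⟩
    have hcomm : cj u i = i := cj_fix_iff.2 ((S.comm_iff hu hi.1).2 (anti_pol hσ huU (Ifix hi)))
    refine hne (u * r * g) ?_
    rw [← cj_cj, ← cj_cj, ← hxdef, hres, cj_mul' u, cj_mul' u, S.cj_z (S.cz_Q hu), hcomm, hflipx u hu h,
      ← mul_assoc (z * i), mul_assoc z i z, S.cz_Q hi.1, ← mul_assoc z z, S.z_sq, one_mul]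
  have half : ∀ w, σ w = w → ω₄ • w + σ (ω₄ • w) = w := fun w hw => by
    rw [hσ.smul, hw, ← add_smul, show (ω₄ : K4) + ω₄ ^ 2 = 1 by decide +kernel, one_smul]
  have noflip : (∃ i ∈ I, i ≠ 1) → ∀ u ∈ Q, σ (S.π u) = S.π u → cj x u = u := by
    rintro ⟨i, hi, hi1⟩
    obtain ⟨r, hr, hπ⟩ := S.π_surj (ω₄ • S.π i)
    exact (key1 i hi hi1 r hr (by rw [hπ]; exact half _ (Ifix hi))).2
  have key2 : ∀ i ∈ I, ∀ j ∈ I, i ≠ 1 → j ≠ 1 → i ≠ j → hh (S.π i) (S.π j) = 1 := by
    intro i hi j hj hi1 hj1 hij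
    obtain ⟨r, hr, hπ⟩ := S.π_surj (ω₄ • S.π i)
    obtain ⟨s, hs, hπs⟩ := S.π_surj (ω₄ • S.π j)
    have hr' := (key1 i hi hi1 r hr (by rw [hπ]; exact half _ (Ifix hi))).1
    have hs' := (key1 j hj hj1 s hs (by rw [hπs]; exact half _ (Ifix hj))).1
    have hij1 : i * j ≠ 1 := fun e => hij (by
      rw [eq_inv_of_mul_eq_one_left e, inv_eq_of_mul_eq_one_right (Isq hj)])
    have hrs := (key1 (i * j) (mul_mem hi hj) hij1 (r * s) (mul_mem hr hs) (by
      rw [S.π_mul _ hr _ hs, S.π_mul _ hi.1 _ hj.1, hσ.add, hπ, hπs, add_add_add_comm,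
        half _ (Ifix hi), half _ (Ifix hj)])).1
    rw [← cj_cj, hs', cj_mul' r, cj_mul' r, S.cj_z (S.cz_Q hr), hr'] at hrs
    refine (anti_val hσ (Ifix hi) (Ifix hj)).resolve_left fun h0 => ?_
    have hc : cj r j = j := cj_fix_iff.2 ((S.comm_iff hr hj.1).2 (by
      rw [hπ, pol4_eq, hh_smul_left, h0, mul_zero]; decide +kernel))
    have hji : j * i = i * j := by
      have h := Icomm hj.2 (S.cz_Q hj.1) hi
      exact cj_fix_iff.1 h
    rw [hc, show z * j * (z * i * x) = z * z * (j * i) * x by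
      rw [mul_assoc z j, ← mul_assoc j (z * i), ← mul_assoc j z, S.cz_Q hj.1]; group,
      S.z_sq, one_mul, hji, mul_left_inj, eq_comm, mul_eq_right] at hrs
    exact S.z_ne hrs
  -- the linear elements of the other core commuting with `z`
  let P : Subgroup K :=
    { carrier := {r | r ∈ R ∧ r * z = z * r ∧ Iso (S.ρ r)}
      one_mem' := ⟨one_mem _, S.cz_one, by rw [S.ρ_one]; exact Iso.one⟩
      mul_mem' := fun {r s} hr hs => ⟨mul_mem hr.1 hs.1, S.cz_mul hr.2.1 hs.2.1, by
        rw [S.ρ_mul _ _ hr.2.1 hs.2.1]; exact hr.2.2.mul hs.2.2⟩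
      inv_mem' := fun {r} hr => ⟨inv_mem hr.1, S.cz_inv hr.2.1, by
        rw [S.ρ_inv hr.2.1]; exact hr.2.2.inv⟩ }
  let ψ : ↥P →* Equiv.Perm W4 :=
    MonoidHom.mk' (fun r => S.ρ r) fun a b => S.ρ_mul _ _ a.2.2.1 b.2.2.1
  set E := ψ.range with hEdef
  have hEiso : ∀ f ∈ E, Iso f := by rintro _ ⟨r, rfl⟩; exact r.2.2.2
  have hEI : ∀ f ∈ E, ∀ i ∈ I, f (S.π i) = S.π i := by
    rintro _ ⟨r, rfl⟩ i hi
    show S.ρ r.1 (S.π i) = S.π i
    rw [← S.π_cj r.2.2.1 hi.1, Icomm r.2.1 r.2.2.1 hi]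
  have hEmove : ∀ f ∈ E, ∀ u ∈ Q, cj x u = u → ∃ i ∈ I, f (S.π u) + S.π u = S.π i := by
    rintro _ ⟨r, rfl⟩ u hu hux
    refine ⟨cj r.1 u * u⁻¹, ⟨Q.mul_mem (S.cj_mem r.2.2.1 hu) (Q.inv_mem hu), ?_⟩, ?_⟩
    · rw [show cj r.1 u * u⁻¹ = r.1 * cj u r.1⁻¹ by simp only [cj]; group]
      exact mul_mem r.2.1 (normR (cj_fix_iff.1 hux).symm (inv_mem r.2.1))
    · show S.ρ r.1 (S.π u) + S.π u = _
      rw [S.π_mul _ (S.cj_mem r.2.2.1 hu) _ (inv_mem hu), S.π_inv hu, S.π_cj r.2.2.1 hu]
  have hEfix1 : ∀ f ∈ E, (∀ u, σ u = u → f u = u) → f = 1 := fun f hf h =>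
    anti_spans hσ hσ2 (hEiso f hf) h
  have hEeq : ∀ f ∈ E, ∀ f' ∈ E, (∀ u, σ u = u → f u = f' u) → f = f' := fun f hf f' hf' h =>
    (inv_mul_eq_one.1 (hEfix1 _ (mul_mem (inv_mem hf) hf') fun u hu => by
      rw [Equiv.Perm.mul_apply, ← h u hu]; exact f.symm_apply_apply u))
  have hEσ : ∀ f ∈ E, ∀ u, σ u = u → σ (f u) = f u := by
    rintro _ ⟨r, rfl⟩ u hu
    show σ (S.ρ r.1 u) = S.ρ r.1 u
    rw [hσdef, ← Equiv.Perm.mul_apply, ← S.ρ_mul _ _ hxz r.2.2.1, (Rx r.2.1).symm,
      S.ρ_mul _ _ r.2.2.1 hxz, Equiv.Perm.mul_apply, ← hσdef, hu]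
  have hkerI : Nat.card ↥ψ.ker ≤ Nat.card ↥I := Nat.card_le_card_of_injective
    (fun r : ↥ψ.ker => (⟨r.1.1, (S.ρ_ker _ r.1.2.2.1).1 r.2, r.1.2.1⟩ : ↥I))
    fun a b e => Subtype.ext (Subtype.ext (congrArg Subtype.val e :))
  have hPle : Nat.card ↥I * Nat.card ↥E ≤ 4 := by
    by_cases htriv : ∀ i ∈ I, i = 1
    · have h1 : Nat.card ↥I ≤ 1 := Finite.card_le_one_iff_subsingleton.2
        ⟨fun a b => Subtype.ext ((htriv a.1 a.2).trans (htriv b.1 b.2).symm)⟩
      have hfix0 : ∀ f ∈ E, ∀ u ∈ Q, cj x u = u → f (S.π u) = S.π u := fun f hf u hu hux => by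
        obtain ⟨i, hi, e⟩ := hEmove f hf u hu hux
        rw [htriv i hi, S.π_one, add_eq_zero_iff_eq_neg] at e
        rw [e]
        funext k
        exact (show ∀ a : K4, -a = a by decide +kernel) _
      have h2 : Nat.card ↥E ≤ 2 := by
        refine card_le_two_of 1 fun a b ha hb => Subtype.ext ?_
        by_cases hfl : ∀ u ∈ Q, σ (S.π u) = S.π u → cj x u = u
        · refine absurd (Subtype.ext (hEfix1 a.1 a.2 fun w hw => ?_)) ha
          obtain ⟨u, hu, rfl⟩ := S.π_surj w
          exact hfix0 _ a.2 u hu (hfl u hu hw)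
        · push Not at hfl
          obtain ⟨u₁, hu₁, hu₁U, hu₁x⟩ := hfl
          have hcz : cj x u₁ = z * u₁ := (S.π_eq hu₁ (S.cj_mem hxz hu₁) (by
            rw [S.π_cj hxz hu₁, ← hσdef, hu₁U])).resolve_left hu₁x
          have hsplit : ∀ u ∈ Q, σ (S.π u) = S.π u → cj x u = u ∨
              ∃ v ∈ Q, cj x v = v ∧ S.π u = S.π u₁ + S.π v := by
            intro u hu hU
            refine (S.π_eq hu (S.cj_mem hxz hu) (by rw [S.π_cj hxz hu, ← hσdef, hU])).imp id fun h =>
              ⟨u₁ * u, mul_mem hu₁ hu, ?_, by rw [S.π_mul _ hu₁ _ hu, ← add_assoc, vec_add_self, zero_add]⟩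
            rw [cj_mul' x, hcz, h, mul_assoc z u₁, ← mul_assoc u₁ z, S.cz_Q hu₁, mul_assoc z u₁,
              ← mul_assoc z z, S.z_sq, one_mul]
          have hdet : ∀ c : ↥E, c ≠ 1 → ∀ u, σ u = u →
              hh (c.1 (S.π u₁) + S.π u₁) u = if hh (c.1 (S.π u₁) + S.π u₁) (S.π u₁) = 0 then 0
                else hh (c.1 (S.π u₁) + S.π u₁) u := by
            intro c _ u hu
            split_ifs with h
            · obtain ⟨w, hw, rfl⟩ := S.π_surj u
              have hperp0 : ∀ v ∈ Q, cj x v = v → hh (c.1 (S.π u₁) + S.π u₁) (S.π v) = 0 := fun v hv hvx => by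
                have e := (hEiso c.1 c.2).herm (S.π u₁) (S.π v)
                rw [hfix0 _ c.2 v hv hvx] at e
                rw [hh_add_left, e, k4_add_self]
              rcases hsplit w hw hu with hx' | ⟨v, hv, hvx, e⟩
              · exact hperp0 w hw hx'
              · rw [e, hh_add_right, h, hperp0 v hv hvx, add_zero]
            · rfl
          have hone : ∀ c : ↥E, c ≠ 1 → hh (c.1 (S.π u₁) + S.π u₁) (S.π u₁) = 1 := by
            intro c hc
            refine (anti_val hσ ?_ hu₁U).resolve_left fun h0 => hc (Subtype.ext (hEfix1 c.1 c.2 ?_))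
            · rw [hσ.add, hEσ _ c.2 _ hu₁U, hu₁U]
            · have hz : c.1 (S.π u₁) + S.π u₁ = 0 := hperp _ fun u hu => by
                have h := hdet c hc u hu
                rw [if_pos h0] at h
                exact hh_zero_symm.1 h
              intro w hw
              obtain ⟨u, hu, rfl⟩ := S.π_surj w
              rcases hsplit u hu hw with hx' | ⟨v, hv, hvx, e⟩
              · exact hfix0 _ c.2 u hu hx'
              · rw [e, (hEiso c.1 c.2).add, hfix0 _ c.2 v hv hvx]
                congr 1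
                funext k
                exact (show ∀ a b : K4, a + b = 0 → a = b by decide +kernel) _ _ (congrFun hz k)
          refine hEeq a.1 a.2 b.1 b.2 fun w hw => ?_
          have hsame : a.1 (S.π u₁) = b.1 (S.π u₁) := by
            have hsum : (a.1 (S.π u₁) + S.π u₁) + (b.1 (S.π u₁) + S.π u₁) = 0 := hperp _ fun u hu => by
              refine hh_zero_symm.1 ?_
              obtain ⟨t, ht, rfl⟩ := S.π_surj u
              have hperp0 : ∀ c : ↥E, ∀ v ∈ Q, cj x v = v →
                  hh (c.1 (S.π u₁) + S.π u₁) (S.π v) = 0 := fun c v hv hvx => by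
                have e := (hEiso c.1 c.2).herm (S.π u₁) (S.π v)
                rw [hfix0 _ c.2 v hv hvx] at e
                rw [hh_add_left, e, k4_add_self]
              rw [hh_add_left]
              rcases hsplit t ht hu with hx' | ⟨v, hv, hvx, e⟩
              · rw [hperp0 a t ht hx', hperp0 b t ht hx', add_zero]
              · rw [e, hh_add_right, hh_add_right _ (S.π u₁), hone a ha, hone b hb, hperp0 a v hv hvx,
                  hperp0 b v hv hvx]
                decide +kernel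
            funext k
            exact (show ∀ a b c : K4, a + c + (b + c) = 0 → a = b by decide +kernel) _ _ _
              (congrFun hsum k)
          obtain ⟨u, hu, rfl⟩ := S.π_surj w
          rcases hsplit u hu hw with hx' | ⟨v, hv, hvx, e⟩
          · rw [hfix0 _ a.2 u hu hx', hfix0 _ b.2 u hu hx']
          · rw [e, (hEiso a.1 a.2).add, (hEiso b.1 b.2).add, hsame, hfix0 _ a.2 v hv hvx,
              hfix0 _ b.2 v hv hvx]
      exact le_trans (Nat.mul_le_mul h1 h2) (by norm_num)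
    push Not at htriv
    obtain ⟨i, hi, hi1⟩ := htriv
    have hcov : ∀ f ∈ E, ∀ w, σ w = w → ∃ k ∈ I, f w = w + S.π k ∧ hh (S.π k) (S.π k) = 0 := by
      intro f hf w hw
      obtain ⟨u, hu, rfl⟩ := S.π_surj w
      obtain ⟨k, hk, e⟩ := hEmove f hf u hu (noflip ⟨i, hi, hi1⟩ u hu hw)
      refine ⟨k, hk, ?_, Iwt hk⟩
      rw [← e, add_comm (f _), ← add_assoc, vec_add_self, zero_add]
    by_cases hall : ∀ j ∈ I, j = 1 ∨ j = i
    · have h1 : Nat.card ↥I ≤ 2 := card_le_two_of (⟨1, one_mem _⟩ : ↥I) fun a b ha hb =>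
        Subtype.ext (((hall a.1 a.2).resolve_left fun e => ha (Subtype.ext e)).trans
          ((hall b.1 b.2).resolve_left fun e => hb (Subtype.ext e)).symm)
      set p := S.π i with hp
      have hval : ∀ c : ↥E, c ≠ 1 → ∀ w, σ w = w → c.1 w = w + hh w p • p := by
        intro c hc
        have hcases : ∀ w, σ w = w → c.1 w = w ∨ c.1 w = w + p := fun w hw => by
          obtain ⟨k, hk, e, -⟩ := hcov c.1 c.2 w hw
          rcases hall k hk with rfl | rfl
          · left; rw [e, S.π_one, add_zero]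
          · exact Or.inr e
        obtain ⟨u, hu, hcu⟩ : ∃ u, σ u = u ∧ c.1 u = u + p := by
          by_contra hcon
          push Not at hcon
          exact hc (Subtype.ext (hEfix1 c.1 c.2 fun w hw => (hcases w hw).resolve_right (hcon w hw)))
        have hpp : hh p p = 0 := Iwt hi
        have hrel : ∀ w, σ w = w → (c.1 w = w → hh p w = 0) ∧ (c.1 w = w + p → hh p w = hh u p) := by
          intro w hw
          have h := (hEiso c.1 c.2).herm u w
          constructor <;> intro e <;> rw [hcu, e] at h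
          · rw [hh_add_left] at h
            exact (show ∀ a b : K4, a + b = a → b = 0 by decide +kernel) _ _ h
          · rw [hh_add_left, hh_add_right, hh_add_right, hpp, add_zero] at h
            exact (show ∀ a b d : K4, a + b + d = a → d = b by decide +kernel) _ _ _ h
        have hup : hh u p = 1 := by
          refine (anti_val hσ hu (Ifix hi)).resolve_left fun h0 => ?_
          have hpz : p = 0 := hperp p fun w hw => hh_zero_symm.1 (by
            rcases hcases w hw with e | e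
            · exact (hrel w hw).1 e
            · rw [(hrel w hw).2 e, h0])
          exact hi1 (Iinj hi (one_mem _) (by rw [← hp, hpz, S.π_one]))
        intro w hw
        rcases hcases w hw with e | e
        · rw [e, hh_zero_symm.1 ((hrel w hw).1 e), zero_smul, add_zero]
        · rw [e, hh_swap p w, (hrel w hw).2 e, hup, one_pow, one_smul]
      have h2 : Nat.card ↥E ≤ 2 := card_le_two_of 1 fun a b ha hb => Subtype.ext
        (hEeq a.1 a.2 b.1 b.2 fun w hw => by rw [hval a ha w hw, hval b hb w hw])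
      exact le_trans (Nat.mul_le_mul h1 h2) (by norm_num)
    push Not at hall
    obtain ⟨j, hj, hj1, hji⟩ := hall
    have hij := key2 i hi j hj hi1 hj1 (Ne.symm hji)
    have hfour : ∀ k ∈ I, k = 1 ∨ k = i ∨ k = j ∨ k = i * j := by
      intro k hk
      by_contra hcon
      push Not at hcon
      obtain ⟨c1, c2, c3, c4⟩ := hcon
      have h1 := key2 i hi k hk hi1 c1 (Ne.symm c2)
      have hjk1 : j * k ≠ 1 := fun e => c3 (by
        rw [← inv_eq_of_mul_eq_one_right e, inv_eq_of_mul_eq_one_right (Isq hj)])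
      have hjki : i ≠ j * k := fun e => c4 (by
        rw [e, show j * k * j = k by
          rw [mul_assoc, show k * j = j * k from cj_fix_iff.1 (Icomm hk.2 (S.cz_Q hk.1) hj),
            ← mul_assoc, Isq hj, one_mul]])
      have h2 := key2 i hi (j * k) (mul_mem hj hk) hi1 hjk1 hjki
      rw [S.π_mul _ hj.1 _ hk.1, hh_add_right, hij, h1] at h2
      exact (show (1 : K4) + 1 ≠ 1 by decide +kernel) h2
    have h1 : Nat.card ↥I ≤ 4 := card_le_four_of (⟨1, one_mem _⟩ : ↥I) ⟨i, hi⟩ ⟨j, hj⟩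
      ⟨i * j, mul_mem hi hj⟩ fun k => by
        rcases hfour k.1 k.2 with e | e | e | e
        exacts [Or.inl (Subtype.ext e), Or.inr (Or.inl (Subtype.ext e)),
          Or.inr (Or.inr (Or.inl (Subtype.ext e))), Or.inr (Or.inr (Or.inr (Subtype.ext e)))]
    have h2 : Nat.card ↥E ≤ 1 := Finite.card_le_one_iff_subsingleton.2 ⟨fun a b => by
      suffices h : ∀ c : ↥E, c = 1 by rw [h a, h b]
      intro c
      refine Subtype.ext (hEfix1 c.1 c.2 fun w hw => ?_)
      obtain ⟨k, hk, e, -⟩ := hcov c.1 c.2 w hw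
      have hperpI : ∀ l ∈ I, hh (S.π k) (S.π l) = 0 := fun l hl => by
        have h := (hEiso c.1 c.2).herm w (S.π l)
        rw [hEI _ c.2 l hl, e, hh_add_left] at h
        exact (show ∀ a b : K4, a + b = a → b = 0 by decide +kernel) _ _ h
      have hk1 : k = 1 := by
        by_contra hne
        have hi' := hperpI i hi
        have hj' := hperpI j hj
        by_cases hki : k = i
        · rw [hki, hij] at hj'
          exact one_ne_zero hj'
        · rw [key2 k hk i hi hne hi1 hki] at hi'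
          exact one_ne_zero hi'
      rw [e, hk1, S.π_one, add_zero]⟩
    exact le_trans (Nat.mul_le_mul h1 h2) (by norm_num)
  have hP4 : Nat.card ↥P ≤ 4 := by
    rw [← Subgroup.card_mul_index ψ.ker, Subgroup.index_ker]
    exact le_trans (Nat.mul_le_mul_right _ hkerI) hPle
  -- counting
  set P2 := R ⊓ Subgroup.centralizer ({z} : Set K) with hP2
  have hP16 : 16 ≤ Nat.card ↥P2 := by
    refine le_trans (S.fix_core_large hyz hy2) (Nat.card_le_card_of_injective
      (fun q : ↥(Q ⊓ Subgroup.centralizer ({y} : Set K)) => (⟨cj g q.1, ⟨q.1, q.2.1, rfl⟩,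
        Subgroup.mem_centralizer_singleton_iff.2
          (cj_fwd (Subgroup.mem_centralizer_singleton_iff.1 q.2.2))⟩ : ↥P2))
      fun a b e => Subtype.ext (cj_injective g (congrArg Subtype.val e :)))
  have hP2z : ∀ r : ↥P2, r.1 * z = z * r.1 := fun r =>
    Subgroup.mem_centralizer_singleton_iff.1 r.2.2
  have hx' : x ∈ P2 := ⟨hxR, Subgroup.mem_centralizer_singleton_iff.2 hxz⟩
  have hle : Nat.card ↥P2 ≤ Nat.card (Bool × ↥P) := by
    refine Nat.card_le_card_of_injective (fun r : ↥P2 =>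
      if h : Iso (S.ρ r.1) then (true, (⟨r.1, r.2.1, hP2z r, h⟩ : ↥P))
      else (false, ⟨x * r.1, mul_mem hxR r.2.1, S.cz_mul hxz (hP2z r),
        (S.lin_iff hxz (hP2z r)).2 (iff_of_false hout h)⟩)) fun a b e => ?_
    dsimp only at e
    split_ifs at e <;> simp at e
    · exact e
    · exact e
  rw [Nat.card_prod, Nat.card_eq_fintype_card (α := Bool), Fintype.card_bool] at hle
  omega

end Sem

end Cfsg.Agent.H49.UChar
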