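import Cfsg.Agent.H49.UChar.Transfer
import Cfsg.Agent.H49.UChar.TwoNoOuter

/-!
The transfer of the outer half in the natural shape.
-/

set_option autoImplicit false
set_option maxRecDepth 20000
set_option linter.unusedSectionVars false
set_option linter.style.haveILetI false

namespace Cfsg.Agent.H49.UChar

open Cfsg
open Cfsg.Agent.H41.SUSix (K4 ω₄)
open Cfsg.Agent.H49.USix
open H76.LocallyS3 (cj cj_cj cj_injective)

namespace Sem

variable {K : Type*} [Group K] [Finite K] {z : K} {Q : Subgroup K} (S : Sem z Q)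
include S

/-- A semilinear involution centralising an element of order five centralises the lifts of its fixed
vectors. -/
theorem lift_comm {a d : K} (ha : a * z = z * a) (hanti : Anti (S.ρ a))
    (h2 : ∀ v, S.ρ a (S.ρ a v) = v) (hd : d * z = z * d) (hiso : Iso (S.ρ d))
    (h5 : S.ρ d ^ 5 = 1) (h1 : S.ρ d ≠ 1) (had : a * d = d * a) {r : K} (hr : r ∈ Q)
    (hu : S.ρ a (S.π r) = S.π r) : a * r = r * a := by
  classical
  set σ := S.ρ a with hσ
  let U : AddSubgroup W4 :=
    { carrier := {u | σ u = u}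
      zero_mem' := Semi.map_zero (Or.inr hanti : Semi σ)
      add_mem' := fun {u v} hu hv => show σ (u + v) = u + v by
        rw [hanti.add, show σ u = u from hu, show σ v = v from hv]
      neg_mem' := fun {u} hu => by
        have : -u = u := funext fun i => (show ∀ a : K4, -a = a by decide +kernel) _
        rw [this]; exact hu }
  have hU : Nat.card ↥U = 16 := anti_card hanti h2 fun u => Iff.rfl
  let F : AddSubgroup W4 :=
    { carrier := {v | σ v = v ∧ ∀ r ∈ Q, S.π r = v → a * r = r * a}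
      zero_mem' := ⟨Semi.map_zero (Or.inr hanti : Semi σ), fun r hr e => by
        rcases (S.π_zero r hr).1 e with rfl | rfl
        · rw [one_mul, mul_one]
        · exact ha⟩
      add_mem' := fun {u v} hu hv => ⟨by rw [hanti.add, hu.1, hv.1], fun r hr e => by
        obtain ⟨p, hp, rfl⟩ := S.π_surj u
        have h2 : S.π (p⁻¹ * r) = v := by
          rw [S.π_mul _ (inv_mem hp) _ hr, S.π_inv hp, e, ← add_assoc, vec_add_self, zero_add]
        have hA : Commute a p := hu.2 p hp rfl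
        have hB : Commute a (p⁻¹ * r) := hv.2 _ (mul_mem (inv_mem hp) hr) h2
        simpa using (hA.mul_right hB).eq⟩
      neg_mem' := fun {u} hu => by
        have : -u = u := funext fun i => (show ∀ a : K4, -a = a by decide +kernel) _
        rw [this]; exact hu }
  have flip : ∀ r ∈ Q, σ (S.π r) = S.π r → ¬ S.π r ∈ F → cj a r = z * r := by
    intro r hr hrU hn
    refine (S.π_eq hr (S.cj_mem ha hr) (by rw [S.π_cj ha hr, ← hσ, hrU])).resolve_left fun e =>
      hn ⟨hrU, fun r' hr' e' => ?_⟩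
    rcases S.π_eq hr hr' e'.symm with rfl | rfl
    · exact cj_fix_iff.1 e
    · exact ((show Commute a z from ha).mul_right (cj_fix_iff.1 e)).eq
  obtain ⟨v, hv, hv0⟩ : ∃ v ∈ F, v ≠ (0 : W4) := by
    by_contra hcon
    push Not at hcon
    have hle : Nat.card ↥U ≤ 2 := by
      refine card_le_two_of 0 fun u v hu hv => Subtype.ext ?_
      obtain ⟨p, hp, hpπ⟩ := S.π_surj u.1
      obtain ⟨p', hp', hpπ'⟩ := S.π_surj v.1
      have k1 := flip p hp (hpπ ▸ u.2) fun h => hu (Subtype.ext (hpπ ▸ hcon _ h))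
      have k2 := flip p' hp' (hpπ' ▸ v.2) fun h => hv (Subtype.ext (hpπ' ▸ hcon _ h))
      have hsum : u.1 + v.1 = 0 := by
        refine hcon _ ⟨(U.add_mem u.2 v.2 : u.1 + v.1 ∈ U), fun r' hr' e' => cj_fix_iff.1 ?_⟩
        have hpr : S.π (p * p') = u.1 + v.1 := by rw [S.π_mul _ hp _ hp', hpπ, hpπ']
        have k3 : cj a (p * p') = p * p' := by
          rw [cj_mul' a p p', k1, k2, mul_assoc z p, ← mul_assoc p z, S.cz_Q hp, mul_assoc z p,
            ← mul_assoc z z, S.z_sq, one_mul]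
        rcases S.π_eq (mul_mem hp hp') hr' (hpr.trans e'.symm) with rfl | rfl
        · exact k3
        · rw [cj_mul' a z _, S.cj_z ha, k3]
      funext i
      exact (show ∀ a b : K4, a + b = 0 → a = b by decide +kernel) _ _ (congrFun hsum i)
    omega
  have hda : ∀ w, σ (S.ρ d w) = S.ρ d (σ w) := fun w => by
    rw [hσ, ← Equiv.Perm.mul_apply, ← Equiv.Perm.mul_apply, ← S.ρ_mul _ _ ha hd, ← S.ρ_mul _ _ hd ha, had]
  have hinv : ∀ w ∈ F, S.ρ d w ∈ F := fun w hw => ⟨by rw [hda, hw.1], fun r hr e => by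
    have hr' := S.cj_mem (S.cz_inv hd) hr
    have h := hw.2 _ hr' (by
      rw [S.π_cj (S.cz_inv hd) hr, e, S.ρ_inv hd]
      exact (S.ρ d).symm_apply_apply w)
    have h' := congrArg (cj d) h
    rwa [cj_mul' d a (cj d⁻¹ r), cj_mul' d (cj d⁻¹ r) a, cj_fix_iff.2 had.symm, cj_cj d d⁻¹ r,
      mul_inv_cancel, cj_one'] at h'⟩
  have hFU := five_subgroup (AddMonoidHom.mk' (S.ρ d) hiso.add) (S := F) (T := U) (fun v hv => hv.1)
    hU (fun w => by
      have h := Equiv.congr_fun h5 w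
      simp only [pow_succ, pow_zero, one_mul, Equiv.Perm.mul_apply, Equiv.Perm.one_apply] at h
      exact h) hinv (fun v _ h => five_fix_free hiso h5 h1 h) hv hv0
  exact (hFU ▸ (show S.π r ∈ U from hu) : S.π r ∈ F).2 r hr rfl

end Sem

/-- The transfer at an outer element in the natural shape. -/
theorem Two.nat_value {G : Type*} [Group G] [Finite G] {z : G} {J : Subgroup G} (P : Two z J)
    (h0 : Nat.card ↥P.R.P0 = 1) (h4 : ∀ k : Fin 13, (k : ℕ) < 4 → Nat.card ↥(P.R.P k) = 4)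
    (h1 : ∀ k : Fin 13, 4 ≤ (k : ℕ) → Nat.card ↥(P.R.P k) = 1)
    (hE : Cfsg.IsExtraspecial 2 ↥J) {b : SU4} {d a : G} (hb1 : b ≠ 1) (hd : d * z = z * d)
    (hdb : P.ρ d = P.R.φ b) (hd5 : d ^ 5 = 1) (ha : a * z = z * a) (hout : ¬ P.Inn a)
    (had : a * d = d * a) (h2 : a * a = 1 ∨ a * a = z) :
    MonoidHom.transfer P.chi a = P.chi ⟨a, Subgroup.mem_centralizer_singleton_iff.2 ha⟩ := by
  classical
  obtain ⟨S, hS⟩ := P.sem h0 h4 h1
  have hanti : Anti (S.ρ a) := (S.ρ_semi a ha).resolve_left fun h => hout ((hS a ha).2 h)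
  have haQ : a * a ∈ J := by
    rcases h2 with e | e <;> rw [e]
    exacts [one_mem _, P.hzJ]
  have ha2 : ∀ v, S.ρ a (S.ρ a v) = v := fun v => by
    rw [← Equiv.Perm.mul_apply, ← S.ρ_mul a a ha ha, S.ρ_of_Q haQ]; rfl
  have hdiso : Iso (S.ρ d) := (hS d hd).1 (P.inn_of_odd_order hd (by decide) hd5)
  have hd5' : S.ρ d ^ 5 = 1 := by
    simp only [pow_succ, pow_zero, one_mul]
    rw [← S.ρ_mul _ _ hd hd, ← S.ρ_mul _ _ (P.cz_mul hd hd) hd,
      ← S.ρ_mul _ _ (P.cz_mul (P.cz_mul hd hd) hd) hd,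
      ← S.ρ_mul _ _ (P.cz_mul (P.cz_mul (P.cz_mul hd hd) hd) hd) hd,
      show d * d * d * d * d = d ^ 5 by simp [pow_succ], hd5, S.ρ_one]
  have hd1' : S.ρ d ≠ 1 := fun h => hb1 (P.R.inj (by
    rw [← hdb, P.ρ_of_J ((S.ρ_ker d hd).1 h), map_one]))
  refine P.transfer_value ha h2 (fun g hxz hxa hD => ?_) (fun _ g hxz _ => ?_)
  · have hxiso : Iso (S.ρ (cj g z)) := S.no_outer hE hxz
    refine S.no_conj_Q hE ((S.ρ_ker _ hxz).1 (anti_spans hanti ha2 hxiso fun u hu => ?_))
    obtain ⟨r, hr, rfl⟩ := S.π_surj u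
    have hra := S.lift_comm ha hanti ha2 hd hdiso hd5' hd1' had hr hu
    rw [← S.π_cj hxz hr, cj_fix_iff.2 (hD r hr hra.symm).symm]
  · have hyz : cj g⁻¹ z * z = z * cj g⁻¹ z := cj_back hxz.symm
    exact (hS _ hyz).2 (S.no_outer hE hyz)

end Cfsg.Agent.H49.UChar
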