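import Cfsg.Agent.H49.UChar.TwoSplit
import Cfsg.Agent.H49.UChar.TwoNat
import Cfsg.Agent.H49.UChar.Split
import Cfsg.Agent.H49.UChar.CoreMain
import Cfsg.Agent.H49.UChar.Transport
import Cfsg.Agent.H41.LFi.Pair

/-!
With an outer half the transfer gives a subgroup of index two meeting the centraliser in its inner
half.
-/

set_option autoImplicit false
set_option maxRecDepth 20000
set_option linter.unusedSectionVars false
set_option linter.style.haveILetI false

namespace Cfsg.Agent.H49.UChar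

open Cfsg
open Cfsg.Agent.H92.ExtraForm (zp zp_inj)
open Cfsg.Agent.H49.USix
open H76.LocallyS3 (cj cj_cj cj_injective)

theorem mult_two_eq : ∀ a b : Multiplicative (ZMod 2), a ≠ 1 → b ≠ 1 → a * b = 1 := by decide

theorem mult_two_cancel : ∀ a b : Multiplicative (ZMod 2), a * b = 1 → b = a := by decide

namespace Two

variable {G : Type*} [Group G] [Finite G] {z : G} {J : Subgroup G} (P : Two z J)
include P

/-- The transfer kills the core, in either shape. -/
theorem transfer_J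
    (hP0 : ∀ u ∈ P.R.P0, (∀ v, (∃ q ∈ J, P.π q = v ∧ MonoidHom.transfer P.chi q = 1) →
      P.R.B u v = 0) → u = 0) {q : G} (hq : q ∈ J) :
    MonoidHom.transfer P.chi q = 1 := by
  classical
  set V := MonoidHom.transfer P.chi with hV
  have vcomm : ∀ a b : G, V (a * b * a⁻¹ * b⁻¹) = 1 := fun a b => by
    rw [map_mul, map_mul, map_mul, map_inv, map_inv, mul_comm (V a) (V b), mul_inv_cancel_right,
      mul_inv_cancel]
  let K0 : AddSubgroup P.V :=
    { carrier := {v | ∃ q ∈ J, P.π q = v ∧ V q = 1}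
      zero_mem' := ⟨1, one_mem _, P.π_one, map_one _⟩
      add_mem' := by
        rintro _ _ ⟨r, hr, rfl, hr1⟩ ⟨s, hs, rfl, hs1⟩
        exact ⟨r * s, mul_mem hr hs, P.π_mul _ hr _ hs, by rw [map_mul, hr1, hs1, one_mul]⟩
      neg_mem' := by
        rintro _ ⟨r, hr, rfl, hr1⟩
        exact ⟨r, hr, (ZModModule.neg_eq_self _).symm, hr1⟩ }
  have hmove : ∀ g v, v + P.R.φ g v ∈ K0 := by
    intro g v
    obtain ⟨c, hc, hρ⟩ := P.ρ_range g
    obtain ⟨r, hr, rfl⟩ := P.π_surj v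
    refine ⟨r * cj c r⁻¹, (P.π_move hc hr).1, by rw [(P.π_move hc hr).2, hρ], ?_⟩
    rw [show r * cj c r⁻¹ = r * c * r⁻¹ * c⁻¹ by simp only [cj]; group]
    exact vcomm r c
  have hall : ∀ v, v ∈ K0 := by
    intro v
    by_contra hv
    obtain ⟨u, hu0, hu⟩ := P.R.exists_perp hv
    refine hu0 (hP0 u (P.R.fixed_P0 fun g => ?_) hu)
    have h : u + P.R.φ g u = 0 := P.R.nondeg _ fun w => by
      show P.R.B (u + P.R.φ g u) w = 0
      obtain ⟨w', rfl⟩ := (P.R.φ g).surjective w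
      have h1 := hu _ (hmove g w')
      rw [P.R.B_add_right] at h1
      rw [P.R.B_add_left, P.R.B_inv, add_comm]
      exact h1
    rwa [add_eq_zero_iff_eq_neg, ZModModule.neg_eq_self, eq_comm] at h
  have hVz : V z = 1 := by
    obtain ⟨u, hu⟩ : ∃ u : P.V, u ≠ 0 := by
      haveI : Nontrivial P.V := Finite.one_lt_card_iff_nontrivial.1 (by rw [P.R.card]; norm_num)
      exact exists_ne 0
    obtain ⟨w, hw⟩ : ∃ w, P.R.B u w = 1 := by
      by_contra hcon
      push Not at hcon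
      exact hu (P.R.nondeg u fun w =>
        (Cfsg.Agent.H92.ExtraForm.two_cases _).resolve_right (hcon w))
    obtain ⟨r, hr, rfl⟩ := P.π_surj u
    obtain ⟨s, hs, rfl⟩ := P.π_surj w
    have e := congrArg V (P.comm r hr s hs)
    rw [hw, show zp z (1 : ZMod 2) = z by simp [zp], map_mul, map_mul, map_mul, mul_comm (V s)] at e
    exact mul_eq_left.1 e.symm
  obtain ⟨r, hr, hπ, hr1⟩ := hall (P.π q)
  rcases P.π_eq hr hq hπ with e | e <;> rw [e]
  · exact hr1
  · rw [map_mul, hVz, hr1, one_mul]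

/-- A homomorphism killing the core is the transfer's sign on the centraliser once it is nontrivial
at an outer element. -/
theorem transfer_iff (hJ : ∀ q ∈ J, MonoidHom.transfer P.chi q = 1) {a : G} (ha : a * z = z * a)
    (hout : ¬ P.Inn a) (hVa : MonoidHom.transfer P.chi a ≠ 1) {c : G} (hc : c * z = z * c) :
    MonoidHom.transfer P.chi c = 1 ↔ P.Inn c := by
  classical
  set V := MonoidHom.transfer P.chi with hV
  choose L hLz hLρ using P.ρ_range
  have key : ∀ {c d : G}, c * z = z * c → d * z = z * d → P.ρ c = P.ρ d → V c = V d := by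
    intro c d hc hd h
    have hcd : c⁻¹ * d ∈ J := (P.ρ_ker _ (P.cz_mul (P.cz_inv hc) hd)).1 (by
      rw [P.ρ_mul _ _ (P.cz_inv hc) hd, P.ρ_inv hc, h, inv_mul_cancel])
    have h' := hJ _ hcd
    rwa [map_mul, map_inv, inv_mul_eq_one] at h'
  let θ : SU4 →* Multiplicative (ZMod 2) := MonoidHom.mk' (fun g => V (L g)) fun g h => by
    rw [← map_mul]
    exact key (hLz _) (P.cz_mul (hLz g) (hLz h))
      (by rw [hLρ, P.ρ_mul _ _ (hLz g) (hLz h), hLρ, hLρ, map_mul])
  have hinn : ∀ {c : G}, c * z = z * c → P.Inn c → V c = 1 := by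
    rintro c hc ⟨g, hg⟩
    rw [key hc (hLz g) (hg.trans (hLρ g).symm)]
    exact hom_comm θ g
  refine ⟨fun h => by_contra fun hn => hVa ?_, hinn hc⟩
  have hac := hinn (P.cz_mul ha hc) ((P.inn_mul_iff ha hc).2 (iff_of_false hout hn))
  rwa [map_mul, h, mul_one] at hac

/-- The order of the inner half. -/
theorem card_inn {W : Subgroup G} (hW : ∀ c, c ∈ W ↔ c * z = z * c ∧ P.Inn c) :
    Nat.card ↥W = 13271040 := by
  classical
  let f : ↥W →* Equiv.Perm P.V :=
    MonoidHom.mk' (fun c => P.ρ c) fun c d => P.ρ_mul _ _ ((hW _).1 c.2).1 ((hW _).1 d.2).1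
  have hr : f.range = P.R.φ.range := by
    apply le_antisymm
    · rintro _ ⟨c, rfl⟩
      obtain ⟨g, hg⟩ := ((hW _).1 c.2).2
      exact ⟨g, hg.symm⟩
    · rintro _ ⟨g, rfl⟩
      obtain ⟨c, hc, hρ⟩ := P.ρ_range g
      exact ⟨⟨c, (hW c).2 ⟨hc, g, hρ⟩⟩, hρ⟩
  have hk : Nat.card ↥f.ker = 512 := by
    rw [← P.card_J]
    exact Nat.card_congr
      { toFun := fun x => ⟨x.1.1, (P.ρ_ker _ ((hW _).1 x.1.2).1).1 x.2⟩
        invFun := fun q => ⟨⟨q.1, (hW _).2 ⟨P.cz_J q.2, P.inn_J q.2⟩⟩, P.ρ_of_J q.2⟩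
        left_inv := fun x => rfl
        right_inv := fun q => rfl }
  rw [← f.ker.card_mul_index, Subgroup.index_ker, hk, hr,
    ← Nat.card_congr (MonoidHom.ofInjective P.R.inj).toEquiv, su4_card]

end Two

/-- The conclusion with an outer half. -/
theorem two_main {G : Type*} [Group G] [Finite G] {z : G} {J : Subgroup G} (P : Two z J)
    (hE : Cfsg.IsExtraspecial 2 ↥J) :
    (∃ (F : Type) (_ : Field F) (_ : Fintype F), Fintype.card F = 4 ∧
      ∃ G₀ : Subgroup G, G₀.index = 2 ∧ Nonempty (↥G₀ ≃* Cfsg.PSU 6 F 2) ∧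
        Subgroup.centralizer (G₀ : Set G) = ⊥) ∨
    Subgroup.centralizer ({z} : Set G) ⊔ Cfsg.oddCore G = ⊤ := by
  classical
  obtain ⟨b, d, a, hb5, hb1, hd, hdb, hd5, ha, hout, had, h2⟩ := P.exists_outer
  set V := MonoidHom.transfer P.chi with hVdef
  have hval : V a ≠ 1 ∧ ∀ q ∈ J, V q = 1 := by
    have hne : ∀ (h : V a = P.chi ⟨a, Subgroup.mem_centralizer_singleton_iff.2 ha⟩), V a ≠ 1 :=
      fun h e => hout (P.chi_one.1 (h.symm.trans e))
    rcases P.R.shape with ⟨h0, h4, h1⟩ | ⟨h0, h3, h1⟩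
    · exact ⟨hne (P.nat_value h0 h4 h1 hE hb1 hd hdb hd5 ha hout had h2),
        fun q hq => P.transfer_J (fun u hu _ => P.R.mem0_one h0 hu) hq⟩
    · refine ⟨hne (P.split_value h0 h3 h1 hb5 hb1 hd hdb hd5 ha hout had h2),
        fun q hq => P.transfer_J (fun u hu hperp => P.R.nondeg u fun w => ?_) hq⟩
      show P.R.B u w = 0
      have hw : w = P.R.pr0 w + (P.R.pr0 w + w) := by rw [← add_assoc, P.R.vv, zero_add]
      obtain ⟨r, hr, hπ⟩ := P.π_surj (P.R.pr0 w)
      rw [hw, P.R.B_add_right, hperp _ ⟨r, hr, hπ,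
        P.split_plane h0 h3 h1 hb5 hb1 hr (hπ ▸ P.R.pr0_mem w)⟩, zero_add]
      refine P.R.W_perp h3 h1 ?_ hu
      rw [Rep.pr0, P.R.op_add]
      show P.R.pr0 (P.R.pr0 w) + P.R.pr0 w = 0
      rw [P.R.pr0_pr0, P.R.vv]
  obtain ⟨hVa, hVJ⟩ := hval
  set G₀ := V.ker with hG₀
  have hiff : ∀ {c : G}, c * z = z * c → (c ∈ G₀ ↔ P.Inn c) := fun hc =>
    MonoidHom.mem_ker.trans (P.transfer_iff hVJ ha hout hVa hc)
  have hidx : G₀.index = 2 := by
    rw [hG₀, Subgroup.index_ker]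
    have htop : V.range = ⊤ := by
      refine eq_top_iff.2 fun s _ => ?_
      by_cases hs : s = 1
      · exact ⟨1, by rw [map_one, hs]⟩
      · exact ⟨a, (mult_two_cancel _ _ (mult_two_eq _ _ hVa hs)).symm⟩
    rw [htop, Subgroup.card_top, Nat.card_congr Multiplicative.toAdd, Nat.card_zmod]
  have hzG : z ∈ G₀ := hVJ z P.hzJ
  have hJG : J ≤ G₀ := fun q hq => hVJ q hq
  set z' : ↥G₀ := ⟨z, hzG⟩ with hz'
  set J' : Subgroup ↥G₀ := J.subgroupOf G₀ with hJ'
  have hcz : ∀ {c : ↥G₀}, c * z' = z' * c ↔ (c : G) * z = z * (c : G) := fun {c} =>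
    ⟨fun h => congrArg Subtype.val h, fun h => Subtype.ext h⟩
  have hzp : ∀ t : ZMod 2, ((zp z' t : ↥G₀) : G) = zp z t := fun t => by
    unfold zp; split_ifs <;> rfl
  let P₀ : Pre z' J' :=
    { z_sq := Subtype.ext P.z_sq
      z_ne := fun h => P.z_ne (congrArg Subtype.val h)
      hzJ := P.hzJ
      le := fun q hq => Subtype.ext (P.le q.1 hq)
      norm := fun c hc q hq => P.norm c.1 (hcz.1 hc) q.1 hq
      V := P.V
      R := P.R
      π := fun x => P.π x.1
      π_mul := fun a ha b hb => P.π_mul a.1 ha b.1 hb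
      π_surj := fun v => by
        obtain ⟨q, hq, e⟩ := P.π_surj v
        exact ⟨⟨q, hJG hq⟩, hq, e⟩
      π_zero := fun q hq => (P.π_zero q.1 hq).trans
        (or_congr ⟨fun h => Subtype.ext h, fun h => congrArg Subtype.val h⟩
          ⟨fun h => Subtype.ext h, fun h => congrArg Subtype.val h⟩)
      sq := fun q hq => Subtype.ext ((P.sq q.1 hq).trans (hzp _).symm)
      comm := fun q hq r hr => Subtype.ext ((P.comm q.1 hq r.1 hr).trans
        (congrArg (q.1 * r.1 * ·) (hzp _).symm))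
      ρ := fun c => P.ρ c.1
      ρ_mul := fun c d hc hd => P.ρ_mul c.1 d.1 (hcz.1 hc) (hcz.1 hd)
      ρ_π := fun c hc q hq => P.ρ_π c.1 (hcz.1 hc) q.1 hq
      ρ_ker := fun c hc => P.ρ_ker c.1 (hcz.1 hc)
      ρ_range := fun g => by
        obtain ⟨c, hc, hρ⟩ := P.ρ_range g
        exact ⟨⟨c, (hiff hc).2 ⟨g, hρ⟩⟩, hcz.2 hc, hρ⟩
      ρ_mem := fun c hc => (hiff (hcz.1 hc)).1 c.2
      card_C := by
        rw [Nat.card_congr (Subgroup.equivMapOfInjective _ G₀.subtype G₀.subtype_injective).toEquiv]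
        refine P.card_inn fun c => ⟨?_, fun h => ?_⟩
        · rintro ⟨c', hc', rfl⟩
          have h := hcz.1 (Subgroup.mem_centralizer_singleton_iff.1 hc')
          exact ⟨h, (hiff h).1 c'.2⟩
        · exact ⟨⟨c, (hiff h.1).2 h.2⟩, Subgroup.mem_centralizer_singleton_iff.2 (hcz.2 h.1), rfl⟩ }
  have hE' : Cfsg.IsExtraspecial 2 ↥J' :=
    Cfsg.Agent.H41.LFi.isExtraspecial_of_equiv (Subgroup.subgroupOfEquivOfLe hJG).symm hE
  -- isolation passes to the whole group
  have lift : (∀ g : ↥G₀, g * z' * g⁻¹ * z' = z' * (g * z' * g⁻¹) → g * z' * g⁻¹ = z') →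
      Subgroup.centralizer ({z} : Set G) ⊔ Cfsg.oddCore G = ⊤ := fun hiso =>
    sup_oddCore_top P.z_sq P.z_ne fun g hg => by
      obtain ⟨g₀, hg₀⟩ : ∃ g₀ : ↥G₀, cj g z = cj (g₀ : G) z := by
        by_cases h : g ∈ G₀
        · exact ⟨⟨g, h⟩, rfl⟩
        · refine ⟨⟨g * a, MonoidHom.mem_ker.2 ?_⟩, ?_⟩
          · rw [map_mul]
            exact mult_two_eq _ _ (fun e => h (MonoidHom.mem_ker.2 e)) hVa
          · rw [← cj_cj, cj_fix_iff.2 ha]
      have hg' : cj g z * z = z * cj g z := hg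
      rw [hg₀] at hg'
      have e := congrArg Subtype.val (hiso g₀ (Subtype.ext hg'))
      exact hg₀.trans e
  rcases P.R.shape with ⟨h0, h4, h1⟩ | ⟨h0, h3, h1⟩
  · obtain ⟨S⟩ := P₀.core h0 h4 h1
    rcases eps_dichotomy S with h | h
    · rcases untwisted S hE' h with h' | ⟨⟨F⟩⟩
      · exact Or.inr (lift h')
      · obtain ⟨seed⟩ := F.seed
        obtain ⟨E, fE, ftE, hcard, hiso⟩ := seed.recognise
        by_cases hcen : ∀ g ∈ G₀, g * z = z * g
        · exact Or.inr (lift fun g _ => Subtype.ext (by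
            show (g : G) * z * (g : G)⁻¹ = z
            rw [hcen g g.2, mul_inv_cancel_right]))
        refine Or.inl ⟨E, fE, ftE, hcard, G₀, hidx, hiso, (Subgroup.eq_bot_iff_forall _).2 fun x hx => ?_⟩
        have hxc : ∀ g ∈ G₀, g * x = x * g := Subgroup.mem_centralizer_iff.1 hx
        have hxz : x * z = z * x := (hxc z hzG).symm
        have hxJ : x ∈ J := (P.ρ_ker x hxz).1 (Equiv.ext fun v => by
          obtain ⟨q, hq, rfl⟩ := P.π_surj v
          rw [← P.π_cj hxz hq, cj_fix_iff.2 (hxc q (hJG hq)).symm, Equiv.Perm.one_apply])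
        have h0' : P.π x = 0 := P.R.nondeg _ fun w => by
          obtain ⟨q, hq, rfl⟩ := P.π_surj w
          exact (P.comm_iff hxJ hq).1 (hxc q (hJG hq)).symm
        rcases (P.π_zero x hxJ).1 h0' with e | e
        · exact e
        · exact absurd (fun g hg => e ▸ hxc g hg) hcen
    · exact Or.inr (lift fun g => twisted_isolated S hE' h)
  · exact Or.inr (lift fun g hg => P₀.split_isolated h0 h3 h1 hg)

end Cfsg.Agent.H49.UChar
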