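import Cfsg.Agent.H49.UChar.TwoSemi

/-!
With an outer half too, no conjugate of `z` other than `z` lies in the core.
-/

set_option autoImplicit false
set_option maxRecDepth 20000
set_option linter.unusedSectionVars false

namespace Cfsg.Agent.H49.UChar

open Cfsg
open Cfsg.Agent.H41.SUSix (K4)
open Cfsg.Agent.H92.ExtraForm (zp zp_inj)
open Cfsg.Agent.H49.USix
open H76.LocallyS3 (cj cj_cj cj_injective)

namespace Sem

variable {K : Type*} [Group K] [Finite K] {z : K} {Q : Subgroup K} (S : Sem z Q)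
include S

theorem cz_one : (1 : K) * z = z * 1 := by rw [one_mul, mul_one]

theorem cz_mul {c d : K} (hc : c * z = z * c) (hd : d * z = z * d) : c * d * z = z * (c * d) := by
  rw [mul_assoc, hd, ← mul_assoc, hc, mul_assoc]

theorem cz_inv {c : K} (hc : c * z = z * c) : c⁻¹ * z = z * c⁻¹ :=
  (Commute.inv_left (show Commute c z from hc)).eq

theorem cz_Q {q : K} (hq : q ∈ Q) : q * z = z * q := S.le q hq

theorem cz_cj {c x : K} (hc : c * z = z * c) (hx : x * z = z * x) : cj c x * z = z * cj c x := by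
  rw [cj]
  exact S.cz_mul (S.cz_mul hc hx) (S.cz_inv hc)

theorem cj_z {c : K} (hc : c * z = z * c) : cj c z = z := cj_fix_iff.2 hc

theorem z_inv : z⁻¹ = z := inv_eq_of_mul_eq_one_right S.z_sq

theorem π_one : S.π 1 = 0 := (S.π_zero 1 Q.one_mem).2 (Or.inl rfl)

theorem π_z : S.π z = 0 := (S.π_zero z S.hzQ).2 (Or.inr rfl)

theorem π_zmul {q : K} (hq : q ∈ Q) : S.π (z * q) = S.π q := by
  rw [S.π_mul z S.hzQ q hq, S.π_z, zero_add]

theorem π_inv {q : K} (hq : q ∈ Q) : S.π q⁻¹ = S.π q := by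
  have h := S.π_mul q⁻¹ (inv_mem hq) q hq
  rw [inv_mul_cancel, S.π_one] at h
  have key : ∀ a b : K4, 0 = a + b → a = b := by decide +kernel
  funext i
  exact key _ _ (congrFun h i)

theorem π_eq {q r : K} (hq : q ∈ Q) (hr : r ∈ Q) (h : S.π q = S.π r) : r = q ∨ r = z * q := by
  have h0 : S.π (r * q⁻¹) = 0 := by
    rw [S.π_mul r hr _ (inv_mem hq), S.π_inv hq, h, vec_add_self]
  rcases (S.π_zero _ (mul_mem hr (inv_mem hq))).1 h0 with e | e
  · exact Or.inl (mul_inv_eq_one.1 e)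
  · exact Or.inr (mul_inv_eq_iff_eq_mul.1 e)

theorem comm_iff {q r : K} (hq : q ∈ Q) (hr : r ∈ Q) :
    q * r = r * q ↔ pol4 (S.π q) (S.π r) = 0 := by
  have h := S.comm q hq r hr
  constructor
  · intro e
    rw [← e] at h
    have h1 : zp z (pol4 (S.π q) (S.π r)) = zp z 0 := by simpa [zp] using h
    exact zp_inj S.z_ne h1
  · intro e
    rw [e] at h
    simpa [zp] using h.symm

theorem sq_iff {q : K} (hq : q ∈ Q) : q * q = 1 ↔ wt4 (S.π q) = 0 := by
  rw [S.sq q hq]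
  exact ⟨fun h => zp_inj S.z_ne (h.trans (by simp [zp])), fun h => by rw [h]; simp [zp]⟩

theorem pow_four {q : K} (hq : q ∈ Q) : q ^ 4 = 1 := by
  have h := S.sq q hq
  have h2 : zp z (wt4 (S.π q)) * zp z (wt4 (S.π q)) = 1 := by
    unfold zp; split_ifs <;> simp [S.z_sq]
  rw [← h] at h2
  simpa [pow_succ, mul_assoc] using h2

theorem ρ_one : S.ρ 1 = 1 := (S.ρ_ker 1 S.cz_one).2 Q.one_mem

theorem ρ_of_Q {q : K} (hq : q ∈ Q) : S.ρ q = 1 := (S.ρ_ker q (S.cz_Q hq)).2 hq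

theorem ρ_inv {c : K} (hc : c * z = z * c) : S.ρ c⁻¹ = (S.ρ c)⁻¹ := by
  refine eq_inv_of_mul_eq_one_left ?_
  rw [← S.ρ_mul _ _ (S.cz_inv hc) hc, inv_mul_cancel, S.ρ_one]

theorem ρ_cj {c x : K} (hc : c * z = z * c) (hx : x * z = z * x) :
    S.ρ (cj c x) = S.ρ c * S.ρ x * (S.ρ c)⁻¹ := by
  rw [cj, S.ρ_mul _ _ (S.cz_mul hc hx) (S.cz_inv hc), S.ρ_mul _ _ hc hx, S.ρ_inv hc]


theorem mem_Q_of_ρ {c d : K} (hc : c * z = z * c) (hd : d * z = z * d) (h : S.ρ c = S.ρ d) :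
    c⁻¹ * d ∈ Q := by
  rw [← S.ρ_ker _ (S.cz_mul (S.cz_inv hc) hd), S.ρ_mul _ _ (S.cz_inv hc) hd, S.ρ_inv hc, h,
    inv_mul_cancel]

theorem cj_mem {c q : K} (hc : c * z = z * c) (hq : q ∈ Q) : cj c q ∈ Q := S.norm c hc q hq

theorem π_cj {c q : K} (hc : c * z = z * c) (hq : q ∈ Q) : S.π (cj c q) = S.ρ c (S.π q) :=
  S.ρ_π c hc q hq

/-- Every transvection is induced. -/
theorem exists_tp (i : Fin 45) : ∃ c : K, c * z = z * c ∧ S.ρ c = tp i := by
  obtain ⟨g, hg⟩ := closure_le_range (Subgroup.subset_closure ⟨i, rfl⟩ :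
    tp i ∈ Subgroup.closure (Set.range tp))
  obtain ⟨c, hc, h⟩ := S.ρ_surj g
  exact ⟨c, hc, h.trans hg⟩

theorem exists_of_closure {g : Equiv.Perm W4} (hg : g ∈ Subgroup.closure (Set.range tp)) :
    ∃ c : K, c * z = z * c ∧ S.ρ c = g := by
  refine Subgroup.closure_induction ?_ ?_ ?_ ?_ hg
  · rintro _ ⟨i, rfl⟩; exact S.exists_tp i
  · exact ⟨1, S.cz_one, S.ρ_one⟩
  · rintro _ _ _ _ ⟨a, ha, rfl⟩ ⟨b, hb, rfl⟩
    exact ⟨a * b, S.cz_mul ha hb, S.ρ_mul a b ha hb⟩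
  · rintro _ _ ⟨a, ha, rfl⟩
    exact ⟨a⁻¹, S.cz_inv ha, S.ρ_inv ha⟩

theorem exists_point_map (i : Fin 45) :
    ∃ c : K, c * z = z * c ∧ Iso (S.ρ c) ∧ act (S.ρ c) i₀ = i := by
  obtain ⟨g, hg, hgi, hi⟩ := point_trans i
  obtain ⟨c, hc, rfl⟩ := S.exists_of_closure hg
  refine ⟨c⁻¹, S.cz_inv hc, ?_, ?_⟩
  · rw [S.ρ_inv hc]; exact hgi.inv
  · rw [S.ρ_inv hc, ← hi, ← act_mul hgi.inv hgi, inv_mul_cancel, act_one]

/-- An element of the centraliser inducing a linear map. -/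
def Lin (c : K) : Prop := Iso (S.ρ c)

theorem lin_iff {c d : K} (hc : c * z = z * c) (hd : d * z = z * d) :
    Iso (S.ρ (c * d)) ↔ (Iso (S.ρ c) ↔ Iso (S.ρ d)) := by
  rw [S.ρ_mul c d hc hd]
  rcases S.ρ_semi c hc with a | a <;> rcases S.ρ_semi d hd with b | b
  · exact iff_of_true (a.mul b) (iff_of_true a b)
  · refine iff_of_false (fun h => not_iso_anti ?_ b) fun h => not_iso_anti (h.1 a) b
    simpa using a.inv.mul h
  · refine iff_of_false (fun h => not_iso_anti ?_ a) fun h => not_iso_anti (h.2 b) a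
    simpa using h.mul b.inv
  · exact iff_of_true (anti_mul a b) (iff_of_false (not_iso_anti · a) (not_iso_anti · b))

theorem card_core : Nat.card ↥Q = 512 := by
  classical
  let f : ↥Q → W4 := fun q => S.π q
  have hf : ∀ v : W4, Nat.card {q : ↥Q // f q = v} = 2 := by
    intro v
    obtain ⟨q, hq, rfl⟩ := S.π_surj v
    rw [Nat.card_eq_two_iff' (⟨⟨q, hq⟩, rfl⟩ : {r : ↥Q // f r = S.π q})]
    refine ⟨⟨⟨z * q, mul_mem S.hzQ hq⟩, S.π_zmul hq⟩, fun e => S.z_ne ?_, ?_⟩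
    · exact mul_eq_right.1 (congrArg (fun r : {r : ↥Q // f r = S.π q} => ((r.1 : ↥Q) : K)) e)
    · rintro ⟨⟨r, hr⟩, hrq⟩ hne
      rcases S.π_eq hq hr hrq.symm with e | e
      · exact absurd (Subtype.ext (Subtype.ext e)) hne
      · exact Subtype.ext (Subtype.ext e)
  rw [← Nat.card_congr (Equiv.sigmaFiberEquiv f), Nat.card_sigma,
    Finset.sum_congr rfl fun v _ => hf v, Finset.sum_const, Finset.card_univ, Fintype.card_fun,
    Fintype.card_fin, H41.SUSix.hK]
  norm_num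

theorem core_sq {q : K} (hq : q ∈ Q) : q * q = 1 ∨ q * q = z := by
  rw [S.sq q hq]
  unfold zp
  split_ifs <;> simp

variable (hE : Cfsg.IsExtraspecial 2 ↥Q)
include hE

/-- The setting of a pair. -/
theorem pair_setting {g : K} (hy : cj g z ∈ Q) (hne : cj g z ≠ z) : H92.PairSetting Q z g := by
  have hzZ : z ∈ (Subgroup.center ↥Q).map Q.subtype := by
    rw [H92.center_map_eq_inf]
    exact ⟨S.hzQ, Subgroup.mem_centralizer_iff.2 fun q hq => S.le q hq⟩
  refine ⟨hE, le_antisymm (fun c hc => ?_) H92.center_map_le_centralizer, fun c hc => ?_, hzZ, S.z_ne,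
    hy, hne, ?_⟩
  · rw [H92.center_map_eq_inf]
    refine ⟨?_, hc⟩
    have hcz : c * z = z * c := (Subgroup.mem_centralizer_iff.1 hc z S.hzQ).symm
    refine (S.ρ_ker c hcz).1 (Equiv.ext fun w => ?_)
    obtain ⟨q, hq, rfl⟩ := S.π_surj w
    rw [← S.π_cj hcz hq, cj_fix_iff.2 (Subgroup.mem_centralizer_iff.1 hc q hq).symm]
    rfl
  · have hcz : c * z = z * c := (Subgroup.mem_centralizer_iff.1 hc z hzZ).symm
    refine Subgroup.mem_normalizer_iff.2 fun q => ⟨fun hq => S.norm c hcz q hq, fun hq => ?_⟩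
    have h := S.norm _ (S.cz_inv hcz) _ hq
    rwa [show c⁻¹ * (c * q * c⁻¹) * c⁻¹⁻¹ = q by group] at h
  · rw [card_core S]; norm_num

theorem no_conj_base {g : K} (hy : cj g z ∈ Q) (hne : cj g z ≠ z) {d : K4} (hd : d ≠ 0)
    (hπ : S.π (cj g z) = d • pv i₀) : False := by
  classical
  have hp := pair_setting S hE hy hne
  set y := cj g z with hydef
  have hyg : g * z * g⁻¹ = y := rfl
  set R := Q.map (MulAut.conj g).toMonoidHom with hR
  have hzR : z ∈ R := hp.z_mem_R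
  have hy2 : y * y = 1 := cj_self_sq S.z_sq
  have hyR : y ∈ R := ⟨z, S.hzQ, rfl⟩
  have hRy : ∀ {r : K}, r ∈ R → r * y = y * r := fun hr => hp.R_comm hr
  have normR : ∀ {c : K}, c * y = y * c → ∀ {r : K}, r ∈ R → cj c r ∈ R := fun hc _ hr => hp.R_norm hc hr
  have sqR : ∀ {r : K}, r ∈ R → r * r = 1 ∨ r * r = y := by
    rintro r ⟨q, hq, rfl⟩
    rw [← map_mul]
    rcases core_sq S hq with e | e <;> rw [e]
    · exact Or.inl (map_one _)
    · exact Or.inr rfl
  -- the centraliser of the pair induces the transvections beside the point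
  have hN : ∀ k, Ort i₀ k → ∃ c, c * z = z * c ∧ c * y = y * c ∧ S.ρ c = tp k := by
    intro k hk
    obtain ⟨c, hc, hρ⟩ := S.exists_tp k
    have e : S.π (cj c y) = S.π y := by rw [S.π_cj hc hy, hρ, hπ, dif_smul_base hk]
    rcases S.π_eq hy (S.cj_mem hc hy) e.symm with e | e
    · exact ⟨c, hc, cj_fix_iff.1 e, hρ⟩
    · obtain ⟨x, hx, hxy⟩ := hp.exists_x
      rw [hyg] at hxy
      refine ⟨x * c, S.cz_mul (S.cz_Q hx) hc, cj_fix_iff.1 ?_,
        by rw [S.ρ_mul _ _ (S.cz_Q hx) hc, S.ρ_of_Q hx, one_mul, hρ]⟩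
      rw [← cj_cj, e, cj_mul', S.cj_z (S.cz_Q hx), show cj x y = z * y from hxy, ← mul_assoc, S.z_sq,
        one_mul]
  -- the intersection of the cores
  set L := Q ⊓ R with hL
  have sqL : ∀ {q : K}, q ∈ L → q * q = 1 := by
    intro q hq
    rcases core_sq S hq.1 with e | e
    · exact e
    · rcases sqR hq.2 with e' | e'
      · exact e'
      · exact absurd (e'.symm.trans e) hne
  have commL : ∀ {a b : K}, a ∈ L → b ∈ L → a * b = b * a := by
    intro a b ha hb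
    calc a * b = (a * b)⁻¹ := (inv_eq_of_mul_eq_one_right (sqL (mul_mem ha hb))).symm
      _ = b * a := by
        rw [_root_.mul_inv_rev, inv_eq_of_mul_eq_one_right (sqL ha),
          inv_eq_of_mul_eq_one_right (sqL hb)]
  let W : AddSubgroup W4 :=
    { carrier := {w | ∃ q ∈ L, S.π q = w}
      zero_mem' := ⟨1, one_mem _, S.π_one⟩
      add_mem' := by
        rintro _ _ ⟨a, ha, rfl⟩ ⟨b, hb, rfl⟩
        exact ⟨a * b, mul_mem ha hb, S.π_mul a ha.1 b hb.1⟩
      neg_mem' := by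
        rintro _ ⟨a, ha, rfl⟩
        exact ⟨a, ha, (neg_eq_of_add_eq_zero_left (vec_add_self _)).symm⟩ }
  have polW : ∀ u ∈ W, ∀ v ∈ W, pol4 u v = 0 := by
    rintro _ ⟨a, ha, rfl⟩ _ ⟨b, hb, rfl⟩
    exact (S.comm_iff ha.1 hb.1).1 (commL ha hb)
  have wtW : ∀ u ∈ W, wt4 u = 0 := by
    rintro _ ⟨a, ha, rfl⟩
    exact (S.sq_iff ha.1).1 (sqL ha)
  have difW : ∀ {k}, Ort i₀ k → ∀ {s}, s ∈ W → dif k s ∈ W := by
    rintro k hk _ ⟨q, hq, rfl⟩
    obtain ⟨c, hcz, hcy, hρ⟩ := hN k hk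
    rw [dif_eq]
    refine W.add_mem ⟨q, hq, rfl⟩ ⟨cj c q, ⟨S.cj_mem hcz hq.1, normR hcy hq.2⟩, ?_⟩
    rw [S.π_cj hcz hq.1, hρ]
  have perpW : ∀ s ∈ W, hh s (pv i₀) = 0 := by
    intro s hs
    by_contra hh0
    obtain ⟨k, l, hk, hl, e⟩ := stab_nonperp hh0
    rw [polW _ (difW hk hs) _ (difW hl hs)] at e
    exact zero_ne_one e
  have hW16 : Nat.card ↥W ≤ 16 := iso_bound perpW polW
  have hLW : Nat.card ↥L ≤ 2 * Nat.card ↥W := by
    choose lift hlQ hl using S.π_surj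
    refine le_trans (Nat.card_le_card_of_injective
      (fun q : ↥L => ((⟨S.π q, q, q.2, rfl⟩ : ↥W), decide ((q : K) = lift (S.π q)))) fun a b e => ?_) ?_
    · simp only [Prod.mk.injEq, Subtype.mk.injEq, decide_eq_decide] at e
      obtain ⟨e1, e2⟩ := e
      rw [← e1] at e2
      have ha := S.π_eq (hlQ (S.π a)) a.2.1 (hl _)
      have hb := S.π_eq (hlQ (S.π a)) b.2.1 ((hl _).trans e1)
      refine Subtype.ext ?_
      rcases ha with ha | ha
      · exact ha.trans (e2.1 ha).symm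
      · rcases hb with hb | hb
        · exact (e2.2 hb).trans hb.symm
        · exact ha.trans hb.symm
    · rw [Nat.card_prod, Nat.card_eq_fintype_card (α := Bool), Fintype.card_bool, mul_comm]
  -- the image of the other core
  set M := R ⊓ Subgroup.centralizer ({z} : Set K) with hM
  have hMz : ∀ {r : K}, r ∈ M → r * z = z * r := fun hr => Subgroup.mem_centralizer_singleton_iff.1 hr.2
  have hM256 : 256 ≤ Nat.card ↥M := by
    have h512 : Nat.card ↥R = 512 := by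
      rw [hR, ← Nat.card_congr (Q.equivMapOfInjective _ (MulAut.conj g).injective).toEquiv, card_core S]
    have out : ∀ {r : K}, r ∈ R → r ∉ M → cj r z = y * z := by
      intro r hr hn
      rcases hp.R_commutator hr hzR with e | e
      · exfalso
        rw [mul_inv_eq_one, mul_inv_eq_iff_eq_mul] at e
        exact hn ⟨hr, Subgroup.mem_centralizer_singleton_iff.2 e⟩
      · rw [mul_inv_eq_iff_eq_mul] at e
        exact e
    suffices h : Nat.card ↥R ≤ Nat.card ↥M * 2 by omega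
    by_cases hall : ∀ r ∈ R, r ∈ M
    · refine le_trans (Nat.card_le_card_of_injective (fun r : ↥R => (⟨r.1, hall r.1 r.2⟩ : ↥M))
        fun a b e => Subtype.ext (congrArg Subtype.val e :)) (Nat.le_mul_of_pos_right _ (by norm_num))
    · push Not at hall
      obtain ⟨r₁, hr₁, hn₁⟩ := hall
      have hmem : ∀ r : ↥R, r.1 ∉ M → r₁⁻¹ * r.1 ∈ M := fun r hn => by
        refine Subgroup.mem_inf.2 ⟨R.mul_mem (R.inv_mem hr₁) r.2,
          Subgroup.mem_centralizer_singleton_iff.2 (cj_fix_iff.1 ?_)⟩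
        rw [← cj_cj, out r.2 hn, ← out hr₁ hn₁, cj_inv_cj']
      rw [mul_comm]
      refine le_trans (Nat.card_le_card_of_injective (fun r : ↥R =>
        if h : r.1 ∈ M then (true, (⟨r.1, h⟩ : ↥M)) else (false, ⟨r₁⁻¹ * r.1, hmem r h⟩)) fun a b e => ?_) ?_
      · dsimp only at e
        split_ifs at e <;> simp at e
        · exact e
        · exact e
      · rw [Nat.card_prod, Nat.card_eq_fintype_card (α := Bool), Fintype.card_bool]
  -- the linear part of the image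
  let M₁ : Subgroup K :=
    { carrier := {r | r ∈ R ∧ r * z = z * r ∧ Iso (S.ρ r)}
      one_mem' := ⟨one_mem _, S.cz_one, by rw [S.ρ_one]; exact Iso.one⟩
      mul_mem' := fun {r s} hr hs => ⟨mul_mem hr.1 hs.1, S.cz_mul hr.2.1 hs.2.1, by
        rw [S.ρ_mul _ _ hr.2.1 hs.2.1]; exact hr.2.2.mul hs.2.2⟩
      inv_mem' := fun {r} hr => ⟨inv_mem hr.1, S.cz_inv hr.2.1, by
        rw [S.ρ_inv hr.2.1]; exact hr.2.2.inv⟩ }
  have hMz₁ : ∀ {r : K}, r ∈ M₁ → r * z = z * r := fun hr => hr.2.1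
  have hM128 : 128 ≤ Nat.card ↥M₁ := by
    suffices h : Nat.card ↥M ≤ Nat.card (Bool × ↥M₁) by
      rw [Nat.card_prod, Nat.card_eq_fintype_card (α := Bool), Fintype.card_bool] at h
      omega
    by_cases hall : ∀ r ∈ M, Iso (S.ρ r)
    · exact Nat.card_le_card_of_injective
        (fun r : ↥M => (true, (⟨r.1, r.2.1, hMz r.2, hall r.1 r.2⟩ : ↥M₁)))
        fun a b e => Subtype.ext (congrArg (fun p : Bool × ↥M₁ => (p.2 : K)) e :)
    · push Not at hall
      obtain ⟨r₁, hr₁, hn₁⟩ := hall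
      have hmem : ∀ r : ↥M, ¬ Iso (S.ρ r.1) → r₁ * r.1 ∈ M₁ := fun r hn =>
        ⟨mul_mem hr₁.1 r.2.1, S.cz_mul (hMz hr₁) (hMz r.2),
          (S.lin_iff (hMz hr₁) (hMz r.2)).2 (iff_of_false hn₁ hn)⟩
      refine Nat.card_le_card_of_injective (fun r : ↥M =>
        if h : Iso (S.ρ r.1) then (true, (⟨r.1, r.2.1, hMz r.2, h⟩ : ↥M₁))
        else (false, ⟨r₁ * r.1, hmem r h⟩)) fun a b e => ?_
      dsimp only at e
      split_ifs at e <;> simp at e
      · exact e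
      · exact e
  let ψ : ↥M₁ →* Equiv.Perm W4 :=
    MonoidHom.mk' (fun r => S.ρ r) fun a b => S.ρ_mul _ _ (hMz₁ a.2) (hMz₁ b.2)
  set E := ψ.range with hEdef
  have hEiso : ∀ f ∈ E, Iso f := by rintro _ ⟨r, rfl⟩; exact r.2.2.2
  have hE2 : ∀ f ∈ E, f * f = 1 := by
    rintro _ ⟨r, rfl⟩
    rw [← map_mul]
    show S.ρ (r.1 * r.1) = 1
    rcases sqR r.2.1 with e | e <;> rw [e]
    exacts [S.ρ_one, S.ρ_of_Q hy]
  have hEc : ∀ a ∈ E, ∀ b ∈ E, a * b = b * a := by
    intro a ha b hb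
    calc a * b = (a * b)⁻¹ := (inv_eq_of_mul_eq_one_right (hE2 _ (mul_mem ha hb))).symm
      _ = b * a := by
        rw [_root_.mul_inv_rev, inv_eq_of_mul_eq_one_right (hE2 a ha),
          inv_eq_of_mul_eq_one_right (hE2 b hb)]
  have hker : Nat.card ↥ψ.ker ≤ Nat.card ↥L := Nat.card_le_card_of_injective
    (fun r : ↥ψ.ker => (⟨r.1.1, (S.ρ_ker _ (hMz₁ r.1.2)).1 r.2, r.1.2.1⟩ : ↥L))
    fun a b e => Subtype.ext (Subtype.ext (congrArg Subtype.val e :))
  have hprod : Nat.card ↥ψ.ker * Nat.card ↥E = Nat.card ↥M₁ := by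
    rw [← Subgroup.card_mul_index ψ.ker, Subgroup.index_ker]
  have hE16 : Nat.card ↥E ≤ 16 := elem_le hEiso hE2 hEc
  have hE4 : 4 ≤ Nat.card ↥E := by
    have := Nat.mul_le_mul (le_trans hker (le_trans hLW (Nat.mul_le_mul le_rfl hW16))) (le_refl (Nat.card ↥E))
    omega
  have hW4 : 4 ≤ Nat.card ↥W := by
    have := Nat.mul_le_mul hker hE16
    omega
  have hEfix : ∀ f ∈ E, f (pv i₀) = pv i₀ := by
    rintro _ ⟨r, rfl⟩
    show S.ρ r.1 (pv i₀) = pv i₀
    have e := S.π_cj (hMz₁ r.2) hy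
    rw [cj_fix_iff.2 (hRy r.2.1), hπ, ((show Iso (S.ρ r.1) from r.2.2.2)).smul] at e
    exact (smul_right_injective W4 hd e).symm
  have hEn : ∀ k, Ort i₀ k → ∀ f ∈ E, tp k * f * (tp k)⁻¹ ∈ E := by
    rintro k hk _ ⟨r, rfl⟩
    obtain ⟨c, hcz, hcy, hρ⟩ := hN k hk
    exact ⟨⟨cj c r.1, normR hcy r.2.1, S.cz_cj hcz (hMz₁ r.2), by rw [S.ρ_cj hcz (hMz₁ r.2), hρ]; exact ((tp_iso k).mul r.2.2.2).mul (tp_iso k).inv⟩,
      by show S.ρ (cj c r.1) = _; rw [S.ρ_cj hcz (hMz₁ r.2), hρ]; rfl⟩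
  -- it contains the transvection of the point
  have htp : tp i₀ ∈ E := by
    obtain ⟨f, hf, hf1⟩ : ∃ f ∈ E, f ≠ 1 := by
      by_contra hall
      push Not at hall
      have : Nat.card ↥E ≤ 1 := Finite.card_le_one_iff_subsingleton.2
        ⟨fun a b => Subtype.ext ((hall a.1 a.2).trans (hall b.1 b.2).symm)⟩
      omega
    have hfix := hEfix f hf
    rcases invol_cases (hEiso f hf) (hE2 f hf) with e | ⟨l, e⟩ | ⟨a, b, hab, hneab, e⟩
    · exact absurd e hf1
    · subst e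
      rw [tp_apply, add_eq_left] at hfix
      have hl : Ort i₀ l := ort_iff.2 ((smul_eq_zero.1 hfix).resolve_right (pv_ne _))
      by_cases hli : l = i₀
      · rwa [← hli]
      · obtain ⟨k, hk, hkl⟩ := exists_sep (Ne.symm hli)
        have h := hEc _ hf _ (hEn k hk _ hf)
        rw [conj_tp (tp_iso k)] at h
        exact absurd (tp_commute_iff.1 h) (move_not_ort hkl)
    · subst e
      have hcab : Commute (tp a) (tp b) := tp_commute_iff.2 hab
      rw [Equiv.Perm.mul_apply, tp_apply, tp_apply, hh_add_left, hh_smul_left,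
        ort_iff.1 (ort_symm hab), mul_zero, add_zero, add_assoc, add_eq_left] at hfix
      obtain ⟨hb', ha'⟩ := span_indep hneab.symm (a' := 0) (b' := 0) (hfix.trans (by simp))
      have ha : Ort i₀ a := ort_iff.2 ha'
      have hb : Ort i₀ b := ort_iff.2 hb'
      have side : ∀ b, Ort i₀ b → b ≠ i₀ → tp i₀ * tp b ∈ E → False := by
        intro b hb hbi hmem
        obtain ⟨k, hk, hkb⟩ := exists_sep (Ne.symm hbi)
        have h := hEc _ hmem _ (hEn k hk _ hmem)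
        have hk0 : act (tp k) i₀ = i₀ := act_eq (tp_iso k) (c := 1)
          (by rw [one_smul, tp_apply, ort_iff.1 hk, zero_smul, add_zero])
        have ec : tp k * (tp i₀ * tp b) * (tp k)⁻¹ = tp i₀ * tp (act (tp k) b) := by
          conv_rhs => rw [← conj_tp (tp_iso k), ← hk0, ← conj_tp (tp_iso k)]
          group
        rw [ec] at h
        have hb2 : Ort i₀ (act (tp k) b) := by
          have := (ort_act (tp_iso k) (i := i₀) (j := b)).2 hb
          rwa [hk0] at this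
        refine move_not_ort hkb (tp_commute_iff.1 ?_)
        have c1 : tp b * tp i₀ = tp i₀ * tp b := (tp_commute_iff.2 hb).eq.symm
        have c2 : tp (act (tp k) b) * tp i₀ = tp i₀ * tp (act (tp k) b) := (tp_commute_iff.2 hb2).eq.symm
        have l1 : tp i₀ * tp b * (tp i₀ * tp (act (tp k) b)) = tp b * tp (act (tp k) b) := by
          rw [← mul_assoc, mul_assoc (tp i₀), c1, ← mul_assoc, tp_sq, one_mul]
        have l2 : tp i₀ * tp (act (tp k) b) * (tp i₀ * tp b) = tp (act (tp k) b) * tp b := by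
          rw [← mul_assoc, mul_assoc (tp i₀), c2, ← mul_assoc, tp_sq, one_mul]
        exact l1.symm.trans (h.trans l2)
      by_cases hai : a = i₀
      · subst hai; exact (side b hb hneab.symm hf).elim
      by_cases hbi : b = i₀
      · subst hbi; exact (side a ha hneab (hcab.eq ▸ hf)).elim
      obtain ⟨k, l, hk, hl, h⟩ := pair_central ha hb hab hneab hai hbi
      have hconj : (tp k * tp l) * (tp a * tp b) * (tp k * tp l)⁻¹ ∈ E := by
        have h1 := hEn k hk _ (hEn l hl _ hf)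
        convert h1 using 1
        group
      rcases h with h | h
      · exact absurd (hEc _ hf _ hconj) h
      · exact h ▸ mul_mem hf hconj
  obtain ⟨t, ht⟩ := htp
  have htρ : S.ρ t.1 = tp i₀ := ht
  -- every multiple of the point lies in the image
  have hpt : ∀ c : K4, c • pv i₀ ∈ W := by
    intro c
    by_cases hline : ∀ w : ↥W, ∃ c : K4, (w : W4) = c • pv i₀
    · choose f hf using hline
      have hinj : Function.Injective f := fun v w e => Subtype.ext (by rw [hf v, hf w, e])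
      obtain ⟨w, rfl⟩ := ((Nat.bijective_iff_injective_and_card f).2 ⟨hinj,
        le_antisymm (Nat.card_le_card_of_injective f hinj)
          (by rw [Nat.card_eq_fintype_card (α := K4), H41.SUSix.hK]; exact hW4)⟩).2 c
      exact hf w ▸ w.2
    · push Not at hline
      obtain ⟨⟨s, hs⟩, hsne⟩ := hline
      obtain ⟨k, l, hk, hl, e⟩ := stab_span (perpW s hs) (wtW s hs) hsne c
      exact e ▸ W.add_mem (difW hk hs) (difW hl hs)
  -- the swap
  have toQ : ∀ {κ : K}, cj κ y = z → ∀ {r : K}, r ∈ R → cj κ r ∈ Q := by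
    rintro κ hκ _ ⟨q, hq, rfl⟩
    show cj κ (cj g q) ∈ Q
    rw [cj_cj]
    refine S.cj_mem (cj_fix_iff.1 ?_) hq
    rw [← cj_cj, ← hydef, hκ]
  have toR : ∀ {κ : K}, cj κ z = y → ∀ {q : K}, q ∈ Q → cj κ q ∈ R := by
    intro κ hκ q hq
    refine H92.PairSetting.mem_R.2 ?_
    have h := S.cj_mem (c := g⁻¹ * κ) (cj_fix_iff.1 (by
      rw [← cj_cj, hκ, hydef, cj_inv_cj'])) hq
    rw [← cj_cj] at h
    rwa [cj, inv_inv] at h
  obtain ⟨κ, hκz, hκy⟩ := hp.exists_swap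
  replace hκz : cj κ z = y := hκz
  replace hκy : cj κ y = z := hκy
  set q := cj κ t.1 with hqdef
  have hqQ : q ∈ Q := toQ hκy t.2.1
  have hκy' : cj κ⁻¹ y = z := by rw [← hκz, cj_inv_cj']
  have hκz' : cj κ⁻¹ z = y := by rw [← hκy, cj_inv_cj']
  have hqR : q ∉ R := by
    intro hqR
    have h := toQ hκy' hqR
    rw [hqdef, cj_inv_cj'] at h
    exact tp_ne_one i₀ (htρ.symm.trans (S.ρ_of_Q h))
  have hdifq : ∀ {k}, Ort i₀ k → dif k (S.π q) ∈ W := by
    intro k hk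
    obtain ⟨c, hcz, hcy, hρ⟩ := hN k hk
    set c' := cj κ⁻¹ c with hc'
    have c'z : c' * z = z * c' := by
      have h := congrArg (cj κ⁻¹) hcy
      rwa [cj_mul' κ⁻¹ c y, cj_mul' κ⁻¹ y c, hκy'] at h
    have c'y : c' * y = y * c' := by
      have h := congrArg (cj κ⁻¹) hcz
      rwa [cj_mul' κ⁻¹ c z, cj_mul' κ⁻¹ z c, hκz'] at h
    have hfix : S.ρ c' (d • pv i₀) = d • pv i₀ := by
      have e := S.π_cj c'z hy
      rw [cj_fix_iff.2 c'y, hπ] at e
      exact e.symm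
    set u := cj c' t.1 * (t.1)⁻¹ with hu
    have htz := hMz₁ t.2
    have huz : cj c' t.1 * z = z * cj c' t.1 := S.cz_cj c'z htz
    have huQ : u ∈ Q := by
      refine (S.ρ_ker u (S.cz_mul huz (S.cz_inv htz))).1 ?_
      rw [S.ρ_mul _ _ huz (S.cz_inv htz), S.ρ_cj c'z htz, S.ρ_inv htz, htρ,
        show S.ρ c' * tp i₀ = tp i₀ * S.ρ c' from Equiv.ext fun w => by
          have h := (S.ρ_semi _ c'z).commute_trv hfix w
          rw [trv_smul d hd] at h
          exact h, mul_inv_cancel_right, mul_inv_cancel]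
    have huR : u ∈ R := mul_mem (normR c'y t.2.1) (inv_mem t.2.1)
    have hcu : cj κ u = cj c q * q⁻¹ := by
      rw [hu, hc', hqdef]
      simp only [cj]
      group
    have hmem : cj c q * q⁻¹ ∈ L := hcu ▸ ⟨toQ hκy huR, toR hκz huQ⟩
    refine ⟨_, hmem, ?_⟩
    rw [S.π_mul _ (S.cj_mem hcz hqQ) _ (inv_mem hqQ), S.π_cj hcz hqQ, S.π_inv hqQ, hρ, dif_eq,
      add_comm]
  by_cases hperp : hh (S.π q) (pv i₀) = 0
  · obtain ⟨a, b, c, ha, hb, hc, e, he⟩ := stab_three hperp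
    have hw : S.π q ∈ W := by
      have h := W.sub_mem (W.sub_mem (W.sub_mem (hpt e) (hdifq hc)) (hdifq hb)) (hdifq ha)
      rwa [← he, add_sub_cancel_right, add_sub_cancel_right, add_sub_cancel_right] at h
    obtain ⟨q₀, hq₀, hπ₀⟩ := hw
    rcases S.π_eq hq₀.1 hqQ hπ₀ with e | e
    · exact hqR (e ▸ hq₀.2)
    · exact hqR (e ▸ mul_mem hzR hq₀.2)
  · obtain ⟨k, l, hk, hl, e⟩ := stab_nonperp hperp
    rw [polW _ (hdifq hk) _ (hdifq hl)] at e
    exact zero_ne_one e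

/-- The only conjugate of `z` in the core is `z`. -/
theorem no_conj_Q {g : K} (hy : cj g z ∈ Q) : cj g z = z := by
  by_contra hne
  have hy2 : cj g z * cj g z = 1 := cj_self_sq S.z_sq
  have h0 : S.π (cj g z) ≠ 0 := fun e => by
    rcases (S.π_zero _ hy).1 e with e | e
    · exact S.z_ne (cj_injective g (e.trans (by simp [cj])))
    · exact hne e
  obtain ⟨i, c, hc, ei⟩ := exists_point h0 ((iso_iff _).2 ((S.sq_iff hy).1 hy2))
  obtain ⟨d, hd, hdl, hdi⟩ := S.exists_point_map i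
  have hd' := S.cz_inv hd
  have hdl' : Iso (S.ρ d⁻¹) := by rw [S.ρ_inv hd]; exact hdl.inv
  have hact : act (S.ρ d⁻¹) i = i₀ := by
    rw [← hdi, ← act_mul hdl' hdl, ← S.ρ_mul _ _ hd' hd,
      inv_mul_cancel, S.ρ_one, act_one]
  obtain ⟨s, hs, es⟩ := act_spec hdl' i
  rw [hact, ei, hdl'.smul] at es
  refine no_conj_base S hE (g := d⁻¹ * g) (d := c⁻¹ * s) (by rw [← cj_cj]; exact S.cj_mem hd' hy) ?_
    (mul_ne_zero (inv_ne_zero hc) hs) ?_
  · intro e
    rw [← cj_cj] at e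
    exact hne (cj_injective d⁻¹ (e.trans (S.cj_z hd').symm))
  · rw [← cj_cj, S.π_cj hd' hy, ← smul_smul, ← es, smul_smul, inv_mul_cancel₀ hc, one_smul]

end Sem

end Cfsg.Agent.H49.UChar
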