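import Cfsg.Agent.H49.UChar.TwoBasic
import Cfsg.Agent.H49.UChar.NoQ

/-!
The natural shape with an outer half: the centraliser acts on the four-dimensional unitary space by
semilinear isometries, the inner half being the linear ones.
-/

set_option autoImplicit false
set_option maxRecDepth 20000
set_option linter.unusedSectionVars false
set_option linter.style.haveILetI false

namespace Cfsg.Agent.H49.UChar

open Cfsg Cfsg.Agent.Compute Matrix
open Cfsg.Agent.H41.SUSix (K4 ω₄ fe)
open Cfsg.Agent.H92.ExtraForm (zp zp_inj)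
open Cfsg.Agent.H49.USix
open H76.LocallyS3 (cj cj_cj cj_injective)
open Cfsg.Agent.Unitary (ap Preserves toSU)

/-- A semilinear isometry with the involutory automorphism. -/
structure Anti (g : Equiv.Perm W4) : Prop where
  add : ∀ u v, g (u + v) = g u + g v
  smul : ∀ (c : K4) u, g (c • u) = c ^ 2 • g u
  herm : ∀ u v, hh (g u) (g v) = hh u v ^ 2

theorem k4_sq_sq : ∀ a : K4, (a ^ 2) ^ 2 = a := by decide +kernel

theorem k4_trK_sq : ∀ a : K4, H41.LFi.trK (a ^ 2) = H41.LFi.trK a := by decide +kernel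

theorem anti_mul {g h : Equiv.Perm W4} (hg : Anti g) (hh' : Anti h) : Iso (g * h) :=
  ⟨fun u v => by simp [hg.add, hh'.add], fun c u => by simp [hg.smul, hh'.smul, k4_sq_sq],
    fun u v => by simp only [Equiv.Perm.mul_apply, hg.herm, hh'.herm, k4_sq_sq]⟩

theorem anti_mul_iso {g h : Equiv.Perm W4} (hg : Anti g) (hh' : Iso h) : Anti (g * h) :=
  ⟨fun u v => by simp [hg.add, hh'.add], fun c u => by simp [hg.smul, hh'.smul],
    fun u v => by simp only [Equiv.Perm.mul_apply, hg.herm, hh'.herm]⟩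

theorem not_iso_anti {g : Equiv.Perm W4} (hg : Iso g) (hg' : Anti g) : False := by
  have h := (hg.smul ω₄ (pv i₀)).symm.trans (hg'.smul ω₄ (pv i₀))
  have h0 : g (pv i₀) ≠ 0 := fun e => pv_ne i₀ (g.injective (e.trans hg.map_zero.symm))
  exact (show (ω₄ : K4) ≠ ω₄ ^ 2 by decide +kernel) (smul_left_injective K4 h0 h)

theorem anti_inv {g : Equiv.Perm W4} (hg : Anti g) : Anti g⁻¹ := by
  refine ⟨fun u v => g.injective ?_, fun c u => g.injective ?_, fun u v => ?_⟩
  · rw [hg.add]; simp
  · rw [hg.smul, k4_sq_sq]; simp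
  · have h := hg.herm (g⁻¹ u) (g⁻¹ v)
    simp only [Equiv.Perm.inv_def, Equiv.apply_symm_apply] at h ⊢
    rw [h, k4_sq_sq]

/-- A linear or semilinear isometry. -/
def Semi (g : Equiv.Perm W4) : Prop := Iso g ∨ Anti g

theorem Semi.add {g : Equiv.Perm W4} (hg : Semi g) (u v : W4) : g (u + v) = g u + g v := by
  rcases hg with h | h <;> exact h.add u v

theorem Semi.pol {g : Equiv.Perm W4} (hg : Semi g) (u v : W4) : pol4 (g u) (g v) = pol4 u v := by
  rw [pol4_eq, pol4_eq]
  rcases hg with h | h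
  · rw [h.herm]
  · rw [h.herm, k4_trK_sq]

theorem Semi.map_zero {g : Equiv.Perm W4} (hg : Semi g) : g 0 = 0 := by
  have h := hg.add 0 0
  rw [add_zero] at h
  exact left_eq_add.1 h

/-- A semilinear isometry commutes with the transvection of a fixed vector. -/
theorem Semi.commute_trv {g : Equiv.Perm W4} (hg : Semi g) {u : W4} (hu : g u = u) (w : W4) :
    g (trv u w) = trv u (g w) := by
  have key : g (hh w u • u) = hh (g w) u • u := by
    conv_rhs => rw [← hu]
    rcases hg with h | h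
    · rw [h.smul, h.herm]
    · rw [h.smul, h.herm]
  simp only [trv, hg.add, key]

/-- The action on the fixed vectors of a semilinear involution. -/
theorem anti_split {f : Equiv.Perm W4} (hf : Anti f) (h2 : ∀ v, f (f v) = v) (v : W4) :
    f (v + ω₄ • (v + f v)) = v + ω₄ • (v + f v) ∧ f (v + f v) = v + f v := by
  have h : f (v + f v) = v + f v := by rw [hf.add, h2, add_comm]
  refine ⟨?_, h⟩
  rw [hf.add, hf.smul, h]
  have key : (ω₄ : K4) ^ 2 = 1 + ω₄ := by decide +kernel
  rw [key, add_smul, one_smul, ← add_assoc, show f v + (v + f v) = v + (f v + f v) by abel,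
    vec_add_self, add_zero]

/-- A linear map fixing the fixed vectors of a semilinear involution is trivial. -/
theorem anti_spans {f h : Equiv.Perm W4} (hf : Anti f) (h2 : ∀ v, f (f v) = v) (hi : Iso h)
    (hfix : ∀ u, f u = u → h u = u) : h = 1 := Equiv.ext fun v => by
  obtain ⟨e1, e2⟩ := anti_split hf h2 v
  have hv : v = (v + ω₄ • (v + f v)) + ω₄ • (v + f v) := by
    rw [add_assoc, vec_add_self, add_zero]
  rw [Equiv.Perm.one_apply]
  conv_lhs => rw [hv]
  rw [hi.add, hi.smul, hfix _ e1, hfix _ e2]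
  exact hv.symm

/-- The fixed subgroup of a semilinear involution has sixteen elements. -/
theorem anti_card {f : Equiv.Perm W4} (hf : Anti f) (h2 : ∀ v, f (f v) = v)
    {U : AddSubgroup W4} (hU : ∀ u, u ∈ U ↔ f u = u) : Nat.card ↥U = 16 := by
  classical
  have hb : Function.Bijective fun p : ↥U × ↥U => p.1.1 + ω₄ • p.2.1 := by
    refine ⟨fun p q e => ?_, fun v => ?_⟩
    · have h1 : ∀ p : ↥U × ↥U, f (p.1.1 + ω₄ • p.2.1) + (p.1.1 + ω₄ • p.2.1) = p.2.1 := fun p => by
        rw [hf.add, hf.smul, (hU _).1 p.1.2, (hU _).1 p.2.2, add_add_add_comm, vec_add_self, zero_add,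
          ← add_smul, show (ω₄ : K4) ^ 2 + ω₄ = 1 by decide +kernel, one_smul]
      have e2 : p.2.1 = q.2.1 := by
        have e' : p.1.1 + ω₄ • p.2.1 = q.1.1 + ω₄ • q.2.1 := e
        rw [← h1 p, ← h1 q, e']
      have e' : p.1.1 + ω₄ • p.2.1 = q.1.1 + ω₄ • q.2.1 := e
      rw [e2, add_left_inj] at e'
      exact Prod.ext (Subtype.ext e') (Subtype.ext e2)
    · obtain ⟨e1, e2⟩ := anti_split hf h2 v
      refine ⟨(⟨_, (hU _).2 e1⟩, ⟨_, (hU _).2 e2⟩), ?_⟩
      show v + ω₄ • (v + f v) + ω₄ • (v + f v) = v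
      rw [add_assoc, vec_add_self, add_zero]
  have h := Nat.card_eq_of_bijective _ hb
  rw [Nat.card_prod, Nat.card_eq_fintype_card (α := W4), Fintype.card_fun, Fintype.card_fin,
    H41.SUSix.hK] at h
  norm_num at h
  rw [← Nat.card_eq_fintype_card] at h
  nlinarith

/-- The pairing on the fixed vectors has values in the prime field. -/
theorem anti_val {f : Equiv.Perm W4} (hf : Anti f) {u v : W4} (hu : f u = u) (hv : f v = v) :
    hh u v = 0 ∨ hh u v = 1 := by
  have h := hf.herm u v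
  rw [hu, hv] at h
  have key : ∀ a : K4, a = a ^ 2 → a = 0 ∨ a = 1 := by decide +kernel
  exact key _ h

/-- The fixed vectors of a semilinear involution are pairwise orthogonal for the polar form. -/
theorem anti_pol {f : Equiv.Perm W4} (hf : Anti f) {u v : W4} (hu : f u = u) (hv : f v = v) :
    pol4 u v = 0 := by
  rw [pol4_eq]
  rcases anti_val hf hu hv with e | e <;> rw [e]
  · decide +kernel
  · decide +kernel

/-! ### Elements of order five -/

theorem perp_nine_ok : allN 256 (fun s => Nat.beq (h4C s s) 0 ||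
    Nat.beq (cntN 45 (fun i => Nat.beq (h4C (pc i) s) 0)) 9) = true := by
  decide +kernel

/-- An element of order five fixes no nonzero vector. -/
theorem five_fix_free {b : Equiv.Perm W4} (hb : Iso b) (h5 : b ^ 5 = 1) (hb1 : b ≠ 1) {v : W4}
    (hv : b v = v) : v = 0 := by
  classical
  by_contra hv0
  have conjfix : ∀ k, act b k = k → False := by
    intro k bk
    obtain ⟨g, -, hg, gk⟩ := point_trans k
    have hb' := (hg.mul hb).mul hg.inv
    have h := five_no_point hb' (by rw [conj_pow, h5, mul_one, mul_inv_cancel]) (by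
      conv_lhs => rw [← gk, ← act_mul hb' hg, inv_mul_cancel_right, act_mul hg hb, bk]
      exact gk)
    exact hb1 (by
      calc b = g⁻¹ * (g * b * g⁻¹) * g := by group
        _ = 1 := by rw [h, mul_one, inv_mul_cancel])
  by_cases hw : hh v v = 0
  · obtain ⟨i, c, hc, e⟩ := exists_point hv0 hw
    refine conjfix i (act_eq hb (c := 1) ?_)
    rw [one_smul, e, hb.smul, hv]
  · let s : Finset (Fin 45) := Finset.univ.filter fun i => hh (pv i) v = 0
    have hs : ∀ i ∈ s, act b i ∈ s := by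
      intro i hi
      simp only [s, Finset.mem_filter, Finset.mem_univ, true_and] at hi ⊢
      obtain ⟨c, hc, e⟩ := act_spec hb i
      have h := hb.herm (pv i) v
      rw [hv, e, hh_smul_left, hi] at h
      exact (mul_eq_zero.1 h).resolve_left hc
    have hcard : ¬ 5 ∣ s.card := by
      obtain ⟨n, rfl⟩ := d4_surj v
      have h := (allN_iff _ _).1 perp_nine_ok n.1 n.2
      have key : ∀ m < 4, (fe m = 0 ↔ m = 0) := by decide
      have hn : ∀ i : Fin 45, hh (pv i) (d4 n.1) = 0 ↔ h4C (pc i) n.1 = 0 := fun i => by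
        rw [show hh (pv i) (d4 n.1) = fe (h4C (pc i) n.1) from ((h4C_spec _ _).2).symm]
        exact key _ (h4C_spec _ _).1
      simp only [Bool.or_eq_true, Nat.beq_eq] at h
      rcases h with h | h
      · exfalso
        refine hw ?_
        rw [← (h4C_spec _ _).2, h]; rfl
      · rw [cntN_eq] at h
        have e : s.card = 9 := by
          rw [← h]
          refine congrArg Finset.card (Finset.ext fun i => ?_)
          simp [s, hn, Nat.beq_eq]
        rw [e]; decide
    haveI : Fact (Nat.Prime 5) := ⟨by norm_num⟩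
    let p : Equiv.Perm ↥s := Equiv.ofBijective (fun i => ⟨act b i.1, hs i.1 i.2⟩)
      (Finite.injective_iff_bijective.1 fun i j e => Subtype.ext (act_inj hb (congrArg Subtype.val e :)))
    have hp : p ^ 5 ^ 1 = 1 := Equiv.ext fun i => Subtype.ext (by
      show act b (act b (act b (act b (act b i.1)))) = i.1
      rw [← act_mul hb hb, ← act_mul (hb.mul hb) hb, ← act_mul ((hb.mul hb).mul hb) hb,
        ← act_mul (((hb.mul hb).mul hb).mul hb) hb,
        show b * b * b * b * b = b ^ 5 by simp [pow_succ], h5, act_one])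
    obtain ⟨i, hi⟩ := Equiv.Perm.exists_fixed_point_of_prime
      (by rw [Fintype.card_coe]; exact hcard) hp
    exact conjfix i.1 (congrArg Subtype.val hi :)

/-! ### Maps commuting with the linear group -/

theorem k4_omega_linear : ∀ F : K4 → K4, (∀ a b, F (a + b) = F a + F b) →
    (∀ a, F (ω₄ * a) = ω₄ * F a) → ∀ a, F a = F 1 * a := by
  decide +kernel

/-- An additive map commuting with the special unitary group is a scalar. -/
theorem commutant_scalar {T : W4 → W4} (hadd : ∀ u v, T (u + v) = T u + T v)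
    (hc : ∀ (g : SU4) w, T (ap g w) = ap g (T w)) : ∃ l : K4, ∀ w, T w = l • w := by
  classical
  have fixl : ∀ (l : Fin 4) (u : W4), ap (dg (tl l)) u = u → u = Pi.single l (u l) := fun l u hu => by
    funext i
    by_cases h : i = l
    · subst h; rw [Pi.single_eq_same]
    · rw [Pi.single_eq_of_ne h]
      have := congrFun hu i
      rw [ap_dg, ext4_tl, if_neg h] at this
      have key : ∀ a : K4, wp 1 * a = a → a = 0 := by decide +kernel
      exact key _ this
  have tsingle : ∀ (l : Fin 4) (a : K4) (s : T3),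
      ap (dg s) (Pi.single l a) = Pi.single l (wp (ext4 s l) * a) := fun l a s => by
    funext i
    rw [ap_dg]
    by_cases h : i = l
    · subst h; rw [Pi.single_eq_same, Pi.single_eq_same]
    · rw [Pi.single_eq_of_ne h, Pi.single_eq_of_ne h, mul_zero]
  let F : Fin 4 → K4 → K4 := fun l a => T (Pi.single l a) l
  have hF : ∀ l a, T (Pi.single l a) = Pi.single l (F l a) := fun l a => fixl l _ (by
    rw [← hc, tsingle, ext4_tl, if_pos rfl, show wp 0 = (1 : K4) from if_pos rfl, one_mul])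
  have hFm : ∀ l a, F l a = F l 1 * a := fun l => k4_omega_linear (F l)
    (fun a b => by
      show T (Pi.single l (a + b)) l = _
      rw [Pi.single_add, hadd]; rfl)
    (fun a => by
      obtain ⟨s, hs⟩ : ∃ s : T3, wp (ext4 s l) = ω₄ := by
        have key : ∀ l : Fin 4, ∃ s : T3, wp (ext4 s l) = ω₄ := by decide +kernel
        exact key l
      have h := hc (dg s) (Pi.single l a)
      rw [tsingle, hs, hF, hF, tsingle, hs] at h
      exact Pi.single_injective l h)
  have hperm : ∀ (l : Fin 4) a, F l a = F 0 a := by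
    intro l a
    have hσ : ∀ b : K4, ap (pm (Equiv.swap 0 l)) (Pi.single 0 b) = Pi.single l b := fun b => by
      rw [ap_pm]
      funext i
      rw [Function.comp_apply]
      by_cases h : i = l
      · subst h; rw [Equiv.swap_apply_right, Pi.single_eq_same, Pi.single_eq_same]
      · rw [Pi.single_eq_of_ne h, Pi.single_eq_of_ne]
        intro e
        exact h ((Equiv.swap 0 l).injective (e.trans (Equiv.swap_apply_right 0 l).symm))
    have h := hc (pm (Equiv.swap 0 l)) (Pi.single 0 a)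
    rw [hσ, hF, hF, hσ] at h
    exact Pi.single_injective l h
  refine ⟨F 0 1, fun w => ?_⟩
  let Th : W4 →+ W4 := AddMonoidHom.mk' T hadd
  conv_lhs => rw [← Finset.univ_sum_single w]
  show Th _ = _
  rw [map_sum]
  show ∑ i, T (Pi.single i (w i)) = _
  rw [Finset.sum_congr rfl fun i _ => show T (Pi.single i (w i)) = Pi.single i (F 0 1 * w i) by
    rw [hF, hperm i, ← hFm 0]]
  funext i
  rw [Finset.sum_apply, Finset.sum_eq_single i, Pi.single_eq_same]
  · rfl
  · intro j _ hj; exact Pi.single_eq_of_ne (Ne.symm hj) _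
  · exact fun h => absurd (Finset.mem_univ i) h

/-- The centraliser with its semilinear action. -/
structure Sem {K : Type*} [Group K] (z : K) (Q : Subgroup K) where
  z_sq : z * z = 1
  z_ne : z ≠ 1
  hzQ : z ∈ Q
  le : ∀ q ∈ Q, q * z = z * q
  norm : ∀ c : K, c * z = z * c → ∀ q ∈ Q, c * q * c⁻¹ ∈ Q
  π : K → W4
  π_mul : ∀ a ∈ Q, ∀ b ∈ Q, π (a * b) = π a + π b
  π_surj : ∀ v, ∃ q ∈ Q, π q = v
  π_zero : ∀ q ∈ Q, π q = 0 ↔ (q = 1 ∨ q = z)
  sq : ∀ q ∈ Q, q * q = zp z (wt4 (π q))
  comm : ∀ q ∈ Q, ∀ r ∈ Q, r * q = q * r * zp z (pol4 (π q) (π r))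
  ρ : K → Equiv.Perm W4
  ρ_mul : ∀ c d : K, c * z = z * c → d * z = z * d → ρ (c * d) = ρ c * ρ d
  ρ_π : ∀ c : K, c * z = z * c → ∀ q ∈ Q, π (c * q * c⁻¹) = ρ c (π q)
  ρ_ker : ∀ c : K, c * z = z * c → (ρ c = 1 ↔ c ∈ Q)
  ρ_semi : ∀ c : K, c * z = z * c → Semi (ρ c)
  ρ_surj : ∀ g : SU4, ∃ c : K, c * z = z * c ∧ ρ c = Ahom g
  cent : ∀ c : K, c * z = z * c → (∀ g : SU4, ρ c * Ahom g = Ahom g * ρ c) → c ∈ Q

/-- The semilinear structure of the natural shape, the inner half being linear. -/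
theorem Two.sem {G : Type*} [Group G] [Finite G] {z : G} {J : Subgroup G} (P : Two z J)
    (h0 : Nat.card ↥P.R.P0 = 1) (h4 : ∀ k : Fin 13, (k : ℕ) < 4 → Nat.card ↥(P.R.P k) = 4)
    (h1 : ∀ k : Fin 13, 4 ≤ (k : ℕ) → Nat.card ↥(P.R.P k) = 1) :
    ∃ S : Sem z J, ∀ c : G, c * z = z * c → (P.Inn c ↔ Iso (S.ρ c)) := by
  classical
  obtain ⟨ψ, hq, hto, hfrom⟩ := P.R.natural h0 h4 h1
  let ρ : G → Equiv.Perm W4 := fun c => (ψ.toEquiv.trans (P.ρ c)).trans ψ.symm.toEquiv
  have hρ : ∀ c w, ψ (ρ c w) = P.ρ c (ψ w) := fun c w => ψ.apply_symm_apply _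
  have hinner : ∀ c g g', P.ρ c = P.R.φ g → (∀ w, P.R.φ g (ψ w) = ψ (ap g' w)) → ρ c = Ahom g' :=
    fun c g g' hg hg' => Equiv.ext fun w => ψ.injective (by rw [hρ, hg, hg', Ahom_apply])
  have hmul : ∀ c d, c * z = z * c → d * z = z * d → ρ (c * d) = ρ c * ρ d := fun c d hc hd =>
    Equiv.ext fun w => ψ.injective (by
      rw [hρ, P.ρ_mul c d hc hd, Equiv.Perm.mul_apply, Equiv.Perm.mul_apply, hρ, hρ])
  have hsurj : ∀ g : SU4, ∃ c : G, c * z = z * c ∧ P.Inn c ∧ ρ c = Ahom g := fun g' => by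
    obtain ⟨g, hg⟩ := hfrom g'
    obtain ⟨c, hc, hcg⟩ := P.ρ_range g
    exact ⟨c, hc, ⟨g, hcg⟩, hinner c g g' hcg hg⟩
  have hker : ∀ c, c * z = z * c → (ρ c = 1 ↔ c ∈ J) := fun c hc => by
    rw [← P.ρ_ker c hc]
    constructor
    · intro h
      refine Equiv.ext fun v => ?_
      obtain ⟨w, rfl⟩ := ψ.surjective v
      rw [← hρ, h]; rfl
    · intro h
      exact Equiv.ext fun w => ψ.injective (by rw [hρ, h]; rfl)
  have hadd : ∀ c, c * z = z * c → ∀ u v, ρ c (u + v) = ρ c u + ρ c v := fun c hc u v =>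
    ψ.injective (by rw [hρ, map_add, P.ρ_add hc, map_add, hρ, hρ])
  have hwt : ∀ c, c * z = z * c → ∀ w, wt4 (ρ c w) = wt4 w := fun c hc w => by
    rw [← hq, hρ, P.ρ_q hc, hq]
  have hcent : ∀ c, c * z = z * c → (∀ g : SU4, ρ c * Ahom g = Ahom g * ρ c) → c ∈ J := by
    intro c hc h
    refine P.cent c hc fun g => Equiv.ext fun v => ?_
    obtain ⟨w, rfl⟩ := ψ.surjective v
    obtain ⟨g', hg'⟩ := hto g
    have h' : ρ c (ap g' w) = ap g' (ρ c w) := Equiv.congr_fun (h g') w
    rw [Equiv.Perm.mul_apply, Equiv.Perm.mul_apply, hg', ← hρ, ← hρ, hg', h']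
  have hnorm : ∀ c, c * z = z * c → ∀ g : SU4, ∃ g' : SU4, ∀ w, ρ c (ap g w) = ap g' (ρ c w) := by
    intro c hc g
    obtain ⟨g₁, hg₁⟩ := hfrom g
    obtain ⟨g₂, hg₂⟩ := P.ρ_norm c hc g₁
    obtain ⟨g', hg'⟩ := hto g₂
    refine ⟨g', fun w => ψ.injective ?_⟩
    rw [hρ, ← hg₁, ← Equiv.Perm.mul_apply, hg₂, Equiv.Perm.mul_apply, ← hρ, hg']
  have hsemi : ∀ c, c * z = z * c → Semi (ρ c) := by
    intro c hc
    set f := ρ c with hf
    have fadd : ∀ u v, f (u + v) = f u + f v := hadd c hc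
    have hT : ∀ (g : SU4) w, f.symm (ω₄ • f (ap g w)) = ap g (f.symm (ω₄ • f w)) := by
      intro g w
      obtain ⟨g', hg'⟩ := hnorm c hc g
      apply f.injective
      rw [Equiv.apply_symm_apply, hg', hg', Equiv.apply_symm_apply, ← Unitary.ap_smul]
    obtain ⟨l, hl⟩ := commutant_scalar (T := fun w => f.symm (ω₄ • f w)) (fun u v => f.injective (by
      rw [Equiv.apply_symm_apply, fadd u v, fadd (f.symm _), Equiv.apply_symm_apply,
        Equiv.apply_symm_apply, smul_add])) hT
    have hlf : ∀ w, f (l • w) = ω₄ • f w := fun w => by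
      rw [← hl w, Equiv.apply_symm_apply]
    have f0 : f 0 = 0 := by
      have h := fadd 0 0
      rw [add_zero] at h
      exact left_eq_add.1 h
    have hp : f (pv i₀) ≠ 0 := fun e => pv_ne i₀ (f.injective (e.trans f0.symm))
    have hl2 : l = ω₄ ∨ l = ω₄ ^ 2 := by
      have key : ∀ a : K4, a ≠ 0 → a ≠ 1 → a = ω₄ ∨ a = ω₄ ^ 2 := by decide +kernel
      refine key l (fun e => ?_) fun e => ?_
      · have h := hlf (pv i₀)
        rw [e, zero_smul, f0, eq_comm, smul_eq_zero] at h
        exact h.elim (show (ω₄ : K4) ≠ 0 by decide +kernel) hp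
      · have h := hlf (pv i₀)
        rw [e, one_smul] at h
        exact (show (1 : K4) ≠ ω₄ by decide +kernel)
          (smul_left_injective K4 hp ((one_smul K4 (f (pv i₀))).trans h))
    have fω2 : ∀ {m : K4}, (∀ w, f (l • w) = m • f w) → ∀ w, f (l ^ 2 • w) = m ^ 2 • f w :=
      fun {m} hm w => by rw [pow_two, mul_smul, hm, hm, smul_smul, ← pow_two]
    have hsq := fω2 hlf
    have hsm : (∀ (a : K4) w, f (a • w) = a • f w) ∨ ∀ (a : K4) w, f (a • w) = a ^ 2 • f w := by
      have kc : ∀ a : K4, a = 0 ∨ a = 1 ∨ a = ω₄ ∨ a = ω₄ ^ 2 := by decide +kernel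
      rcases hl2 with rfl | rfl
      · refine Or.inl fun a w => ?_
        rcases kc a with rfl | rfl | rfl | rfl
        · rw [zero_smul, zero_smul, f0]
        · rw [one_smul, one_smul]
        · exact hlf w
        · exact hsq w
      · refine Or.inr fun a w => ?_
        rcases kc a with rfl | rfl | rfl | rfl
        · rw [zero_smul, zero_pow two_ne_zero, zero_smul, f0]
        · rw [one_smul, one_pow, one_smul]
        · have h := hsq w
          rwa [k4_sq_sq] at h
        · rw [k4_sq_sq]; exact hlf w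
    have hpol : ∀ u v, pol4 (f u) (f v) = pol4 u v := fun u v => by
      simp only [pol4, hf, ← hadd c hc, hwt c hc]
    rcases hsm with h | h
    · refine Or.inl ⟨fadd, h, fun u v => ?_⟩
      have key : ∀ x y : K4, (∀ a : K4, H41.LFi.trK (a * x) = H41.LFi.trK (a * y)) → x = y := by
        decide +kernel
      refine key _ _ fun a => ?_
      rw [← hh_smul_left, ← hh_smul_left, ← pol4_eq, ← pol4_eq, ← h, hpol]
    · refine Or.inr ⟨fadd, h, fun u v => ?_⟩
      have key : ∀ x y : K4, (∀ a : K4, H41.LFi.trK (a * x) = H41.LFi.trK (a ^ 2 * y)) → x = y ^ 2 := by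
        decide +kernel
      refine key _ _ fun a => ?_
      rw [← hh_smul_left, ← hh_smul_left, ← pol4_eq, ← pol4_eq, ← hpol (a ^ 2 • u) v, h, k4_sq_sq]
  refine ⟨{
    z_sq := P.z_sq, z_ne := P.z_ne, hzQ := P.hzJ, le := P.le, norm := P.norm
    π := fun x => ψ.symm (P.π x)
    π_mul := fun a ha b hb => by rw [P.π_mul a ha b hb, map_add]
    π_surj := fun v => by
      obtain ⟨q, hq', e⟩ := P.π_surj (ψ v)
      exact ⟨q, hq', by rw [e, ψ.symm_apply_apply]⟩
    π_zero := fun q hq' => by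
      rw [← P.π_zero q hq', ← ψ.symm.map_eq_zero_iff]
    sq := fun q hq' => by rw [P.sq q hq', ← hq, ψ.apply_symm_apply]
    comm := fun q hq' r hr => by
      rw [P.comm q hq' r hr, Rep.B, pol4, ← hq, ← hq, ← hq, map_add, ψ.apply_symm_apply,
        ψ.apply_symm_apply]
    ρ := ρ
    ρ_mul := hmul
    ρ_π := fun c hc q hq' => ψ.injective (by
      rw [hρ, ψ.apply_symm_apply, ψ.apply_symm_apply, P.ρ_π c hc q hq'])
    ρ_ker := hker
    ρ_semi := hsemi
    ρ_surj := fun g => by obtain ⟨c, hc, -, e⟩ := hsurj g; exact ⟨c, hc, e⟩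
    cent := hcent }, fun c hc => ⟨?_, fun hiso => ?_⟩⟩
  · rintro ⟨g, hg⟩
    obtain ⟨g', hg'⟩ := hto g
    show Iso (ρ c)
    rw [hinner c g g' hg hg']
    exact Ahom_iso g'
  · -- a linear isometry is a scalar multiple of a special one
    let L : W4 →ₗ[K4] W4 := { toFun := ρ c, map_add' := hiso.add, map_smul' := hiso.smul }
    set M := LinearMap.toMatrix' L with hM
    have hMv : ∀ w, M *ᵥ w = ρ c w := fun w => LinearMap.toMatrix'_mulVec L w
    set d := M.det with hd
    have hd0 : d ≠ 0 := by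
      intro e
      obtain ⟨v, hv, e'⟩ := Matrix.exists_mulVec_eq_zero_iff.2 e
      rw [hMv] at e'
      exact hv ((ρ c).injective (e'.trans hiso.map_zero.symm))
    have key : ∀ a : K4, a ≠ 0 → (a ^ 2) ^ 4 * a = 1 ∧ a ^ 2 * (a ^ 2) ^ 2 = 1 := by decide +kernel
    obtain ⟨k1, k2⟩ := key d hd0
    let M' : Matrix (Fin 4) (Fin 4) K4 := d ^ 2 • M
    have hM' : ∀ w, M' *ᵥ w = d ^ 2 • ρ c w := fun w => by
      rw [Matrix.smul_mulVec, hMv]
    have hdet : M'.det = 1 := by rw [Matrix.det_smul, Fintype.card_fin, ← hd]; exact k1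
    have hpres : Preserves 2 M' := fun x y => by
      rw [hM', hM']
      show hh (d ^ 2 • ρ c x) (d ^ 2 • ρ c y) = hh x y
      rw [hh_smul_left, hh_smul_right, hiso.herm, ← mul_assoc, k2, one_mul]
    obtain ⟨l, hl, hli, hlρ⟩ := hsurj (toSU hpres hdet)
    have hl' := P.cz_inv hl
    have hJ : l⁻¹ * c ∈ J := by
      refine hcent _ (P.cz_mul hl' hc) fun g => ?_
      have hscal : ∀ w, ρ (l⁻¹ * c) w = d • w := fun w => by
        have e2 : ρ l (ρ l⁻¹ (ρ c w)) = ρ c w := by
          rw [← Equiv.Perm.mul_apply, ← hmul _ _ hl hl', mul_inv_cancel, (hker 1 P.cz_one).2 J.one_mem,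
            Equiv.Perm.one_apply]
        have e : ρ l (d • w) = ρ c w := by
          rw [hlρ, Ahom_apply, Unitary.ap_smul]
          show d • (M' *ᵥ w) = ρ c w
          rw [hM', smul_smul, show d * d ^ 2 = 1 by rw [mul_comm]; exact k4_cube d hd0, one_smul]
        rw [hmul _ _ hl' hc, Equiv.Perm.mul_apply]
        exact (ρ l).injective (e2.trans e.symm)
      exact Equiv.ext fun w => by
        rw [Equiv.Perm.mul_apply, Equiv.Perm.mul_apply, hscal, hscal, Ahom_apply, Ahom_apply,
          Unitary.ap_smul]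
    have := P.inn_mul hl (P.cz_J hJ) hli (P.inn_J hJ)
    rwa [mul_inv_cancel_left] at this

end Cfsg.Agent.H49.UChar
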