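import Cfsg.Agent.H49.UChar.Transfer

/-!
The transfer of the outer half when the core quotient has a fixed plane.
-/

set_option autoImplicit false
set_option maxRecDepth 20000
set_option maxHeartbeats 1000000
set_option linter.unusedSectionVars false
set_option linter.style.haveILetI false

namespace Cfsg.Agent.H49.UChar

open Cfsg
open Cfsg.Agent.H92.ExtraForm (zp zp_inj)
open Cfsg.Agent.H49.USix
open H76.LocallyS3 (cj cj_cj cj_injective)

theorem not_sum_two : ∀ a b : ZMod 2, a ≠ 0 → b ≠ 0 → a + b = 0 := by decide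

theorem flip_val : ∀ a c : ZMod 2, a + c + 1 = a → c = 1 := by decide

namespace Rep

variable {V : Type*} [AddCommGroup V] [Module (ZMod 2) V] [Finite V] (R : Rep V)
  (h0 : Nat.card ↥R.P0 = 4)
  (h3 : ∀ k : Fin 13, 4 ≤ (k : ℕ) → (k : ℕ) < 7 → Nat.card ↥(R.P k) = 4)
  (h1 : ∀ k : Fin 13, (k : ℕ) < 4 ∨ 7 ≤ (k : ℕ) → Nat.card ↥(R.P k) = 1)
  {b : SU4} (hb : b ^ 5 = 1) (hb1 : b ≠ 1)

include h3 h1 in
theorem E_W {v : V} (hv : v ∈ (R.disp b).range) : R.pr0 v = 0 := by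
  obtain ⟨u, rfl⟩ := hv
  rw [disp_apply, pr0, R.op_add]
  show R.pr0 u + R.pr0 _ = 0
  rw [R.pr0_phi h3 h1, R.vv]

include h3 h1 in
theorem W_perp {v : V} (hv : R.pr0 v = 0) {p : V} (hp : p ∈ R.P0) : R.B p v = 0 := by
  have h := R.B_split h3 h1 p v
  rwa [hv, R.B_zero_right, show R.pr0 p = p from hp, R.vv, R.B_zero_left, add_zero] at h

include h0 h3 h1 hb hb1

theorem E_card : Nat.card ↥(R.disp b).range = 16 := by
  classical
  set E := (R.disp b).range with hEdef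
  haveI : Fact (Nat.Prime 5) := ⟨by norm_num⟩
  haveI : Fact (Nat.Prime 2) := ⟨Nat.prime_two⟩
  let p : Equiv.Perm ↥E :=
    { toFun := fun x => ⟨R.φ b x.1, R.E_inv hb x.2⟩
      invFun := fun x => ⟨R.φ b (R.φ b (R.φ b (R.φ b x.1))),
        R.E_inv hb (R.E_inv hb (R.E_inv hb (R.E_inv hb x.2)))⟩
      left_inv := fun x => Subtype.ext (R.phi_five hb x.1)
      right_inv := fun x => Subtype.ext (R.phi_five hb x.1) }
  have hp : p ^ 5 ^ 1 = 1 := Equiv.ext fun x => Subtype.ext (R.phi_five hb x.1)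
  haveI := Fintype.ofFinite ↥E
  have hsupp : p.supportᶜ = {0} := by
    ext x
    simp only [Finset.mem_compl, Equiv.Perm.mem_support, not_not, Finset.mem_singleton]
    exact ⟨fun e => Subtype.ext (R.E_fix hb x.2 (congrArg Subtype.val e :)),
      fun e => Subtype.ext (by rw [e]; exact R.phi_zero b)⟩
  have hmod := Equiv.Perm.card_compl_support_modEq hp
  rw [hsupp, Finset.card_singleton, ← Nat.card_eq_fintype_card] at hmod
  have hne : Nat.card ↥E ≠ 1 := fun h => hb1 (R.inj (Equiv.ext fun v => by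
    haveI := (Nat.card_eq_one_iff_unique.1 h).1
    rw [map_one, Equiv.Perm.one_apply]
    exact R.fix_of_disp (congrArg Subtype.val
      (Subsingleton.elim (⟨R.disp b v, v, rfl⟩ : ↥E) 0))))
  have hdvd : Nat.card ↥E ∣ 2 ^ 8 := by
    rw [show 2 ^ 8 = Nat.card ↥(⊤ : AddSubgroup V) by rw [AddSubgroup.card_top, R.card]; norm_num]
    exact AddSubgroup.card_dvd_of_le le_top
  have h64 : Nat.card ↥E * 4 ≤ 256 := by
    rw [← h0, ← R.card, ← Nat.card_prod]
    refine Nat.card_le_card_of_injective (fun x : ↥E × ↥R.P0 => x.1.1 + x.2.1) fun x y e => ?_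
    have key : ∀ x : ↥E × ↥R.P0, R.pr0 (x.1.1 + x.2.1) = x.2.1 := fun x => by
      rw [pr0, R.op_add]
      show R.pr0 x.1.1 + R.pr0 x.2.1 = x.2.1
      rw [R.E_W h3 h1 x.1.2, zero_add]; exact x.2.2
    have e2 : x.2.1 = y.2.1 := by
      have h := congrArg R.pr0 e
      rwa [key, key] at h
    have e' : x.1.1 + x.2.1 = y.1.1 + y.2.1 := e
    rw [e2, add_left_inj] at e'
    exact Prod.ext (Subtype.ext e') (Subtype.ext e2)
  obtain ⟨k, hk, e⟩ := (Nat.dvd_prime_pow Nat.prime_two).1 hdvd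
  rw [e] at hmod hne h64 ⊢
  interval_cases k <;> simp_all [Nat.ModEq]

theorem C_card : Nat.card ↥(R.disp b).ker = 16 := by
  have h := (R.disp b).ker.card_mul_index
  rw [AddSubgroup.index_ker, R.E_card h0 h3 h1 hb hb1, R.card] at h
  omega

/-- An isotropic subgroup of the moved part has at most four elements. -/
theorem E_iso {S : AddSubgroup V} (hS : S ≤ (R.disp b).range)
    (hiso : ∀ u ∈ S, ∀ v ∈ S, R.B u v = 0) : Nat.card ↥S ≤ 4 := by
  classical
  by_contra hcon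
  push Not at hcon
  have h := R.perp_card S
  have hle : Nat.card (↥S × ↥(R.disp b).ker) ≤ Nat.card ↥(R.perp S) := by
    refine Nat.card_le_card_of_injective (fun x => (⟨x.1.1 + x.2.1, fun a ha => by
      obtain ⟨w, hw⟩ := hS ha
      rw [R.B_add_left, hiso _ x.1.2 a ha, ← hw, R.B_comm x.2.1,
        R.E_perp w (R.fix_of_disp x.2.2), add_zero]⟩ : ↥(R.perp S))) fun x y e => ?_
    have e' : x.1.1 + x.2.1 = y.1.1 + y.2.1 := congrArg Subtype.val e
    have h1' : x.1.1 + y.1.1 = x.2.1 + y.2.1 := by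
      calc x.1.1 + y.1.1 = (x.1.1 + x.2.1) + x.2.1 + y.1.1 := by rw [add_assoc x.1.1 x.2.1, R.vv, add_zero]
        _ = y.1.1 + y.2.1 + x.2.1 + y.1.1 := by rw [e']
        _ = x.2.1 + y.2.1 + (y.1.1 + y.1.1) := by abel
        _ = _ := by rw [R.vv, add_zero]
    have hz : x.1.1 + y.1.1 = 0 := R.E_fix hb (add_mem (hS x.1.2) (hS y.1.2))
      (R.fix_of_disp (h1' ▸ add_mem x.2.2 y.2.2 : x.1.1 + y.1.1 ∈ (R.disp b).ker))
    have hx : x.1.1 = y.1.1 := by rwa [add_eq_zero_iff_eq_neg, ZModModule.neg_eq_self] at hz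
    rw [hx, add_right_inj] at e'
    exact Prod.ext (Subtype.ext hx) (Subtype.ext e')
  rw [Nat.card_prod, R.C_card h0 h3 h1 hb hb1] at hle
  nlinarith [h, hle, hcon]

end Rep

namespace Two

variable {G : Type*} [Group G] [Finite G] {z : G} {J : Subgroup G} (P : Two z J)
  (h0 : Nat.card ↥P.R.P0 = 4)
  (h3 : ∀ k : Fin 13, 4 ≤ (k : ℕ) → (k : ℕ) < 7 → Nat.card ↥(P.R.P k) = 4)
  (h1 : ∀ k : Fin 13, (k : ℕ) < 4 ∨ 7 ≤ (k : ℕ) → Nat.card ↥(P.R.P k) = 1)
  {b : SU4} (hb : b ^ 5 = 1) (hb1 : b ≠ 1)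

omit h0 h3 h1 hb hb1 in
/-- Two noncommuting elements of the core centralising a conjugate make its partner inner. -/
theorem inn_of_noncomm {g q r : G} (hq : q ∈ J) (hr : r ∈ J) (hqx : q * cj g z = cj g z * q)
    (hrx : r * cj g z = cj g z * r) (h : P.R.B (P.π q) (P.π r) = 1) : P.Inn (cj g⁻¹ z) := by
  have e := P.comm q hq r hr
  rw [h, show zp z (1 : ZMod 2) = z by simp [zp]] at e
  have e1 : z = r⁻¹ * q⁻¹ * r⁻¹⁻¹ * q⁻¹⁻¹ := by
    rw [inv_inv, inv_inv, mul_assoc (r⁻¹ * q⁻¹), e]; group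
  have e2 : cj g⁻¹ z = cj g⁻¹ r⁻¹ * cj g⁻¹ q⁻¹ * (cj g⁻¹ r⁻¹)⁻¹ * (cj g⁻¹ q⁻¹)⁻¹ := by
    conv_lhs => rw [e1]
    simp [cj, mul_assoc]
  rw [e2]
  have hq' : cj g⁻¹ q⁻¹ * z = z * cj g⁻¹ q⁻¹ :=
    cj_back (Commute.inv_left (show Commute q (cj g z) from hqx)).eq
  have hr' : cj g⁻¹ r⁻¹ * z = z * cj g⁻¹ r⁻¹ :=
    cj_back (Commute.inv_left (show Commute r (cj g z) from hrx)).eq
  exact P.inn_comm hr' hq'

include h0 h3 h1 hb hb1

/-- An involutory map commuting with `b` fixes the moved part. -/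
theorem fix_E {x : G} (hx : x * z = z * x) (h2 : ∀ v, P.ρ x (P.ρ x v) = v)
    (hxb : ∀ v, P.ρ x (P.R.φ b v) = P.R.φ b (P.ρ x v)) {e : P.V} (he : e ∈ (P.R.disp b).range) :
    P.ρ x e = e := by
  let F : AddSubgroup P.V :=
    { carrier := {v | v ∈ (P.R.disp b).range ∧ P.ρ x v = v}
      zero_mem' := ⟨zero_mem _, P.ρ_zero hx⟩
      add_mem' := fun {u v} hu hv => ⟨add_mem hu.1 hv.1, by rw [P.ρ_add hx, hu.2, hv.2]⟩
      neg_mem' := fun {u} hu => by rw [ZModModule.neg_eq_self]; exact hu }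
  obtain ⟨a, ha, ha0⟩ : ∃ a ∈ F, a ≠ (0 : P.V) := by
    by_cases hall : e = 0 ∨ P.ρ x e ≠ e
    · rcases hall with rfl | h
      · obtain ⟨u, hu⟩ : ∃ u, P.R.φ b u ≠ u := by
          by_contra hcon
          push Not at hcon
          exact hb1 (P.R.inj (Equiv.ext fun v => by rw [hcon v, map_one]; rfl))
        set w := P.R.disp b u with hw
        have hwE : w ∈ (P.R.disp b).range := ⟨u, rfl⟩
        have hw0 : w ≠ 0 := fun h => hu (P.R.fix_of_disp h)
        by_cases hf : P.ρ x w = w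
        · exact ⟨w, ⟨hwE, hf⟩, hw0⟩
        · refine ⟨w + P.ρ x w, ⟨add_mem hwE ?_, by rw [P.ρ_add hx, h2, add_comm]⟩, fun h => hf ?_⟩
          · exact ⟨P.ρ x u, by rw [Rep.disp_apply, ← hxb, ← P.ρ_add hx]; rfl⟩
          · rw [add_eq_zero_iff_eq_neg, ZModModule.neg_eq_self] at h; exact h.symm
      · obtain ⟨u, rfl⟩ := he
        refine ⟨P.R.disp b u + P.ρ x (P.R.disp b u), ⟨add_mem ⟨u, rfl⟩ ⟨P.ρ x u, ?_⟩,
          by rw [P.ρ_add hx, h2, add_comm]⟩, fun h' => h ?_⟩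
        · rw [Rep.disp_apply, Rep.disp_apply, ← hxb, P.ρ_add hx]
        · rw [add_eq_zero_iff_eq_neg, ZModModule.neg_eq_self] at h'; exact h'.symm
    · push Not at hall
      exact ⟨e, ⟨he, hall.2⟩, hall.1⟩
  have hFE := five_subgroup (AddMonoidHom.mk' (P.R.φ b) (P.R.add b)) (S := F)
    (T := (P.R.disp b).range) (fun v hv => hv.1) (P.R.E_card h0 h3 h1 hb hb1) (P.R.phi_five hb)
    (fun v hv => ⟨P.R.E_inv hb hv.1, (hxb v).trans (congrArg (P.R.φ b) hv.2)⟩)
    (fun v hv h => P.R.E_fix hb hv.1 h) ha ha0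
  exact (hFE ▸ he : e ∈ F).2

/-- A map fixing the moved part commutes with `b`. -/
theorem comm_of_fix_E {x : G} (hx : x * z = z * x)
    (hfix : ∀ e ∈ (P.R.disp b).range, P.ρ x e = e) (v : P.V) :
    P.ρ x (P.R.φ b v) = P.R.φ b (P.ρ x v) := by
  obtain ⟨e, he, hc⟩ := P.R.E_split hb v
  set c := v + e with hcdef
  have hv : v = e + c := by rw [hcdef, add_comm e, add_assoc, P.R.vv, add_zero]
  clear_value c
  obtain ⟨e₁, he₁, hc₁⟩ := P.R.E_split hb (P.ρ x c)
  have hz : e₁ = 0 := by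
    refine P.R.nondeg _ fun w => ?_
    show P.R.B _ w = 0
    obtain ⟨e₂, he₂, hc₂⟩ := P.R.E_split hb w
    have perpC : ∀ {p k : P.V}, p ∈ (P.R.disp b).range → P.R.φ b k = k → P.R.B p k = 0 := by
      rintro _ k ⟨u, rfl⟩ hk
      exact P.R.E_perp u hk
    have h12 : P.R.B (P.ρ x c) e₂ = 0 := by
      rw [← hfix e₂ he₂, P.ρ_B hx, P.R.B_comm]; exact perpC he₂ hc
    have hw : w = e₂ + (w + e₂) := by rw [add_comm e₂, add_assoc, P.R.vv, add_zero]
    rw [hw, P.R.B_add_right, perpC he₁ hc₂, add_zero]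
    have : e₁ = P.ρ x c + (P.ρ x c + e₁) := by rw [← add_assoc, P.R.vv, zero_add]
    rw [this, P.R.B_add_left, h12, zero_add, P.R.B_comm]
    exact perpC he₂ hc₁
  rw [hz, add_zero] at hc₁
  rw [hv, P.R.add, P.ρ_add hx, P.ρ_add hx, P.R.add, hc, hc₁, hfix e he, hfix _ (P.R.E_inv hb he)]

/-- An inner element squaring into the core and fixing the moved part lies in the core. -/
theorem inn_fix_E {x : G} (hx : x * z = z * x) (hi : P.Inn x) (h2 : x * x ∈ J)
    (hfix : ∀ e ∈ (P.R.disp b).range, P.ρ x e = e) : x ∈ J := by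
  obtain ⟨s, hs⟩ := hi
  refine (P.ρ_ker x hx).1 ?_
  rw [hs, two_five hb hb1 1 s (P.R.inj (by
    rw [map_pow, ← hs, pow_one, pow_two, ← P.ρ_mul x x hx hx, P.ρ_of_J h2, map_one]))
    (P.R.inj (Equiv.ext fun v => by
      rw [map_mul, map_mul, ← hs]; exact P.comm_of_fix_E h0 h3 h1 hb hb1 hx hfix v)), map_one]

/-- An element centralising `d` and fixing the moved part centralises its lifts. -/
theorem lift_comm {d x : G} (hd : d * z = z * d) (hdb : P.ρ d = P.R.φ b) (hx : x * z = z * x)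
    (hxd : x * d = d * x) (hfix : ∀ e ∈ (P.R.disp b).range, P.ρ x e = e) {r : G} (hr : r ∈ J)
    (hrE : P.π r ∈ (P.R.disp b).range) : r * x = x * r := by
  classical
  let F : AddSubgroup P.V :=
    { carrier := {v | v ∈ (P.R.disp b).range ∧ ∀ r ∈ J, P.π r = v → x * r = r * x}
      zero_mem' := ⟨zero_mem _, fun r hr e => by
        rcases (P.π_zero r hr).1 e with rfl | rfl
        · rw [one_mul, mul_one]
        · exact hx⟩
      add_mem' := fun {u v} hu hv => ⟨add_mem hu.1 hv.1, fun r hr e => by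
        obtain ⟨p, hp, rfl⟩ := P.π_surj u
        have h2 : P.π (p⁻¹ * r) = v := by
          rw [P.π_mul _ (inv_mem hp) _ hr, P.π_inv hp, e, ← add_assoc, P.R.vv, zero_add]
        have hA : Commute x p := hu.2 p hp rfl
        have hB : Commute x (p⁻¹ * r) := hv.2 _ (mul_mem (inv_mem hp) hr) h2
        simpa using (hA.mul_right hB).eq⟩
      neg_mem' := fun {u} hu => by rw [ZModModule.neg_eq_self]; exact hu }
  have flip : ∀ r ∈ J, P.π r ∈ (P.R.disp b).range → ¬ P.π r ∈ F → cj x r = z * r := by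
    intro r hr hrE hn
    refine (P.cj_of_fix hx hr (hfix _ hrE)).resolve_left fun e => hn ⟨hrE, fun r' hr' e' => ?_⟩
    rcases P.π_eq hr hr' e'.symm with rfl | rfl
    · exact cj_fix_iff.1 e
    · exact ((show Commute x z from hx).mul_right (cj_fix_iff.1 e)).eq
  obtain ⟨a, ha, ha0⟩ : ∃ a ∈ F, a ≠ (0 : P.V) := by
    by_contra hcon
    push Not at hcon
    have hle : Nat.card ↥(P.R.disp b).range ≤ 2 := by
      refine le_trans (Nat.card_le_card_of_injective
        (fun e : ↥(P.R.disp b).range => decide (e.1 = 0)) fun u v e => ?_) (le_of_eq (by simp))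
      simp only [decide_eq_decide] at e
      refine Subtype.ext ?_
      by_cases hu : u.1 = 0
      · rw [hu, e.1 hu]
      · have hv : v.1 ≠ 0 := fun h => hu (e.2 h)
        obtain ⟨p, hp, hpπ⟩ := P.π_surj u.1
        obtain ⟨p', hp', hpπ'⟩ := P.π_surj v.1
        have k1 := flip p hp (hpπ ▸ u.2) fun h => hu (hpπ ▸ hcon _ h)
        have k2 := flip p' hp' (hpπ' ▸ v.2) fun h => hv (hpπ' ▸ hcon _ h)
        have hsum : u.1 + v.1 = 0 := by
          refine hcon _ ⟨add_mem u.2 v.2, fun r' hr' e' => cj_fix_iff.1 ?_⟩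
          have hpr : P.π (p * p') = u.1 + v.1 := by rw [P.π_mul _ hp _ hp', hpπ, hpπ']
          have k3 : cj x (p * p') = p * p' := by
            rw [cj_mul' x p p', k1, k2, mul_assoc z p, ← mul_assoc p z, P.cz_J hp, mul_assoc z p,
              ← mul_assoc z z, P.z_sq, one_mul]
          rcases P.π_eq (mul_mem hp hp') hr' (hpr.trans e'.symm) with rfl | rfl
          · exact k3
          · rw [cj_mul' x z _, P.cj_z hx, k3]
        rwa [add_eq_zero_iff_eq_neg, ZModModule.neg_eq_self] at hsum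
    rw [P.R.E_card h0 h3 h1 hb hb1] at hle
    omega
  have hinv : ∀ v ∈ F, P.R.φ b v ∈ F := fun v hv => ⟨P.R.E_inv hb hv.1, fun r hr e => by
    have hr' := P.cj_mem (P.cz_inv hd) hr
    have h := hv.2 _ hr' (by
      rw [P.π_cj (P.cz_inv hd) hr, e, P.ρ_inv hd, hdb]
      exact (P.R.φ b).symm_apply_apply v)
    have h' := congrArg (cj d) h
    rwa [cj_mul' d x (cj d⁻¹ r), cj_mul' d (cj d⁻¹ r) x, cj_fix_iff.2 hxd.symm, cj_cj d d⁻¹ r,
      mul_inv_cancel, cj_one'] at h'⟩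
  have hFE := five_subgroup (AddMonoidHom.mk' (P.R.φ b) (P.R.add b)) (S := F)
    (T := (P.R.disp b).range) (fun v hv => hv.1) (P.R.E_card h0 h3 h1 hb hb1) (P.R.phi_five hb) hinv
    (fun v hv h => P.R.E_fix hb hv.1 h) ha ha0
  exact ((hFE ▸ hrE : P.π r ∈ F).2 r hr rfl).symm

/-- The partner of a conjugate centralised by an index-two part of the moved lifts is inner. -/
theorem inn_index {a g : G}
    (hlift : ∀ r ∈ J, P.π r ∈ (P.R.disp b).range → r * a = a * r)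
    (hindex : ∀ r ∈ J, ∀ r' ∈ J, r * a = a * r → r' * a = a * r' → r * cj g z ≠ cj g z * r →
      r' * cj g z ≠ cj g z * r' → r⁻¹ * r' * cj g z = cj g z * (r⁻¹ * r')) :
    P.Inn (cj g⁻¹ z) := by
  classical
  by_contra hyo
  set x := cj g z with hxdef
  let A : Subgroup G :=
    { carrier := {r | r ∈ J ∧ P.π r ∈ (P.R.disp b).range ∧ r * x = x * r}
      one_mem' := ⟨one_mem _, by rw [P.π_one]; exact zero_mem _, by rw [one_mul, mul_one]⟩
      mul_mem' := fun {r s} hr hs => ⟨mul_mem hr.1 hs.1,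
        by rw [P.π_mul _ hr.1 _ hs.1]; exact add_mem hr.2.1 hs.2.1, (Commute.mul_left hr.2.2 hs.2.2).eq⟩
      inv_mem' := fun {r} hr => ⟨inv_mem hr.1, by rw [P.π_inv hr.1]; exact hr.2.1,
        (Commute.inv_left hr.2.2).eq⟩ }
  let S : AddSubgroup P.V :=
    { carrier := {v | ∃ r ∈ A, P.π r = v}
      zero_mem' := ⟨1, one_mem _, P.π_one⟩
      add_mem' := by
        rintro _ _ ⟨r, hr, rfl⟩ ⟨s, hs, rfl⟩
        exact ⟨r * s, mul_mem hr hs, P.π_mul _ hr.1 _ hs.1⟩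
      neg_mem' := by
        rintro _ ⟨r, hr, rfl⟩
        exact ⟨r, hr, (ZModModule.neg_eq_self _).symm⟩ }
  have hSle : S ≤ (P.R.disp b).range := by rintro _ ⟨r, hr, rfl⟩; exact hr.2.1
  have hiso : ∀ u ∈ S, ∀ v ∈ S, P.R.B u v = 0 := by
    rintro _ ⟨r, hr, rfl⟩ _ ⟨s, hs, rfl⟩
    exact (Cfsg.Agent.H92.ExtraForm.two_cases _).resolve_right fun h =>
      hyo (P.inn_of_noncomm hr.1 hs.1 hr.2.2 hs.2.2 h)
  have h4 := P.R.E_iso h0 h3 h1 hb hb1 hSle hiso
  have h16 := P.R.E_card h0 h3 h1 hb hb1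
  choose L hL hLπ using fun v : ↥(P.R.disp b).range => P.π_surj v.1
  by_cases hall : ∀ v, L v * x = x * L v
  · have := Nat.card_le_card_of_injective (fun v : ↥(P.R.disp b).range =>
      (⟨v.1, L v, ⟨hL v, (hLπ v).symm ▸ v.2, hall v⟩, hLπ v⟩ : ↥S)) fun u v e =>
        Subtype.ext (congrArg Subtype.val e :)
    omega
  · push Not at hall
    obtain ⟨v₀, hv₀⟩ := hall
    have hmem : ∀ v, L v * x ≠ x * L v → v₀.1 + v.1 ∈ S := fun v hv =>
      ⟨(L v₀)⁻¹ * L v, ⟨mul_mem (inv_mem (hL v₀)) (hL v),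
        by rw [P.π_mul _ (inv_mem (hL v₀)) _ (hL v), P.π_inv (hL v₀), hLπ, hLπ]
           exact add_mem v₀.2 v.2,
        hindex _ (hL v₀) _ (hL v) (hlift _ (hL v₀) ((hLπ v₀).symm ▸ v₀.2))
          (hlift _ (hL v) ((hLπ v).symm ▸ v.2)) hv₀ hv⟩,
        by rw [P.π_mul _ (inv_mem (hL v₀)) _ (hL v), P.π_inv (hL v₀), hLπ, hLπ]⟩
    have hcard := Nat.card_le_card_of_injective (fun v : ↥(P.R.disp b).range =>
      if h : L v * x = x * L v then (true, (⟨v.1, L v, ⟨hL v, (hLπ v).symm ▸ v.2, h⟩, hLπ v⟩ : ↥S))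
      else (false, ⟨v₀.1 + v.1, hmem v h⟩)) fun u v e => by
        dsimp only at e
        split_ifs at e <;> simp only [Prod.mk.injEq, Subtype.mk.injEq, Bool.true_eq_false,
          Bool.false_eq_true, true_and, false_and, add_right_inj] at e
        all_goals exact Subtype.ext e
    rw [Nat.card_prod, Nat.card_eq_fintype_card (α := Bool), Fintype.card_bool] at hcard
    omega

/-- A two-group of inner maps centralising an outer one and normalised by `b` is trivial. -/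
theorem no_two_group {x : G} (hx : x * z = z * x) (hout : ¬ P.Inn x) (h2 : ∀ v, P.ρ x (P.ρ x v) = v)
    (hxb : ∀ v, P.ρ x (P.R.φ b v) = P.R.φ b (P.ρ x v)) {S : Subgroup SU4} (hS : IsPGroup 2 ↥S)
    (hSx : ∀ s ∈ S, ∀ v, P.ρ x (P.R.φ s v) = P.R.φ s (P.ρ x v))
    (hSb : ∀ s ∈ S, b⁻¹ * s * b ∈ S) {s : SU4} (hs : s ∈ S) : s = 1 := by
  classical
  haveI : Fact (Nat.Prime 2) := ⟨Nat.prime_two⟩
  set E := (P.R.disp b).range with hEdef
  have hfixE : ∀ e ∈ E, P.ρ x e = e := fun e he => P.fix_E h0 h3 h1 hb hb1 hx h2 hxb he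
  -- the fixed plane is preserved
  have hP0 : ∀ p ∈ P.R.P0, P.ρ x p ∈ P.R.P0 := fun p hp => P.R.fixed_P0 fun g => by
    obtain ⟨g', hg'⟩ := P.ρ_norm x⁻¹ (P.cz_inv hx) g
    have h := Equiv.congr_fun hg' (P.ρ x p)
    simp only [Equiv.Perm.mul_apply, P.ρ_inv hx, Equiv.Perm.inv_def, Equiv.symm_apply_apply] at h
    rw [P.R.phi_P0 h3 h1 g' hp] at h
    have h' := congrArg (P.ρ x) h
    rwa [Equiv.apply_symm_apply] at h'
  have hW : ∀ v, P.R.pr0 v = 0 → P.R.pr0 (P.ρ x v) = 0 := by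
    intro v hv
    refine P.R.nondeg _ fun w => ?_
    show P.R.B _ w = 0
    have hsplit := P.R.B_split h3 h1 (P.R.pr0 (P.ρ x v)) w
    rw [P.R.pr0_pr0, P.R.vv, P.R.B_zero_left, add_zero] at hsplit
    rw [hsplit]
    have hkey := P.R.B_split h3 h1 (P.ρ x v) (P.R.pr0 w)
    rw [P.R.pr0_pr0, P.R.vv, P.R.B_zero_right, add_zero] at hkey
    rw [← hkey, ← h2 (P.R.pr0 w), P.ρ_B hx, P.R.B_comm]
    exact P.R.W_perp h3 h1 hv (hP0 _ (P.R.pr0_mem w))
  -- the reflected vector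
  obtain ⟨v, hvb, hvW, hn⟩ : ∃ v, P.R.φ b v = v ∧ P.R.pr0 v = 0 ∧ P.ρ x v ≠ v := by
    by_contra hcon
    push Not at hcon
    refine hout (P.inn_J (P.cent x hx fun g => Equiv.ext fun u => ?_))
    have hWfix : ∀ w, P.R.pr0 w = 0 → P.ρ x w = w := by
      intro w hw
      obtain ⟨e, he, hc⟩ := P.R.E_split hb w
      have hc0 : P.R.pr0 (w + e) = 0 := by
        rw [Rep.pr0, P.R.op_add]
        show P.R.pr0 w + P.R.pr0 e = 0
        rw [hw, P.R.E_W h3 h1 he, add_zero]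
      have h := hcon _ hc hc0
      rwa [P.ρ_add hx, hfixE e he, add_left_inj] at h
    set p := P.R.pr0 u with hp
    set w := u + p with hwdef
    have hu : u = w + p := by rw [hwdef, add_assoc, P.R.vv, add_zero]
    have hw0 : P.R.pr0 w = 0 := by
      rw [hwdef, Rep.pr0, P.R.op_add]
      show P.R.pr0 u + P.R.pr0 p = 0
      rw [hp, P.R.pr0_pr0, P.R.vv]
    have hpm : p ∈ P.R.P0 := P.R.pr0_mem u
    clear_value w p
    simp only [Equiv.Perm.mul_apply]
    rw [hu, P.ρ_add hx, hWfix w hw0, P.R.add, P.R.add, P.R.phi_P0 h3 h1 g hpm,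
      P.ρ_add hx, hWfix _ (by rw [P.R.pr0_phi h3 h1, hw0]),
      P.R.phi_P0 h3 h1 g (hP0 _ hpm)]
  set n := v + P.ρ x v with hndef
  have hn0 : n ≠ 0 := fun h => hn (by
    rw [hndef, add_eq_zero_iff_eq_neg, ZModModule.neg_eq_self] at h; exact h.symm)
  have hnfix : P.ρ x n = n := by rw [hndef, P.ρ_add hx, h2, add_comm]
  have hnb : P.R.φ b n = n := by rw [hndef, P.R.add, hvb, ← hxb, hvb]
  have hnW : P.R.pr0 n = 0 := by
    rw [hndef, Rep.pr0, P.R.op_add]
    show P.R.pr0 v + P.R.pr0 _ = 0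
    rw [hvW, hW v hvW, add_zero]
  -- four fixed vectors in the six-space
  have hC4 : ∀ c, P.R.φ b c = c → P.R.pr0 c = 0 → c = 0 ∨ c = v ∨ c = n ∨ c = v + n := by
    have hv0 : v ≠ 0 := fun h => hn (by rw [h, P.ρ_zero hx])
    have hvn : v ≠ n := fun h => hn (h ▸ hnfix)
    let Cw : AddSubgroup P.V :=
      { carrier := {c | P.R.φ b c = c ∧ P.R.pr0 c = 0}
        zero_mem' := ⟨P.R.phi_zero b, P.R.op_zero' _⟩
        add_mem' := fun {c c'} hc hc' => ⟨by rw [P.R.add, hc.1, hc'.1], by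
          rw [Rep.pr0, P.R.op_add]
          show P.R.pr0 c + P.R.pr0 c' = 0
          rw [hc.2, hc'.2, add_zero]⟩
        neg_mem' := fun {c} hc => by rw [ZModModule.neg_eq_self]; exact hc }
    have hCw : Nat.card ↥Cw ≤ 4 := by
      have h := Nat.card_le_card_of_injective (fun x : ↥Cw × ↥P.R.P0 =>
        (⟨x.1.1 + x.2.1, P.R.disp_fix (by
          rw [P.R.add, x.1.2.1, P.R.phi_P0 h3 h1 b x.2.2])⟩ : ↥(P.R.disp b).ker)) fun x y e => by
        have e' : x.1.1 + x.2.1 = y.1.1 + y.2.1 := congrArg Subtype.val e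
        have key : ∀ x : ↥Cw × ↥P.R.P0, P.R.pr0 (x.1.1 + x.2.1) = x.2.1 := fun x => by
          rw [Rep.pr0, P.R.op_add]
          show P.R.pr0 x.1.1 + P.R.pr0 x.2.1 = x.2.1
          rw [x.1.2.2, zero_add]; exact x.2.2
        have e2 : x.2.1 = y.2.1 := by rw [← key x, ← key y, e']
        rw [e2, add_left_inj] at e'
        exact Prod.ext (Subtype.ext e') (Subtype.ext e2)
      rw [Nat.card_prod, h0, P.R.C_card h0 h3 h1 hb hb1] at h
      omega
    intro c hc hc0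
    by_contra hcon
    push Not at hcon
    have h5 : 5 ≤ Nat.card ↥Cw := by
      haveI := Fintype.ofFinite ↥Cw
      rw [Nat.card_eq_fintype_card]
      refine le_trans (le_of_eq ?_) (Finset.card_le_univ
        ({0, ⟨v, hvb, hvW⟩, ⟨n, hnb, hnW⟩, ⟨v, hvb, hvW⟩ + ⟨n, hnb, hnW⟩, ⟨c, hc, hc0⟩} : Finset ↥Cw))
      have hne : ∀ {a b : ↥Cw}, a.1 ≠ b.1 → a ≠ b := fun h e => h (congrArg Subtype.val e)
      have hvn0 : v + n ≠ 0 := fun h => hvn (by
        rwa [add_eq_zero_iff_eq_neg, ZModModule.neg_eq_self] at h)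
      rw [Finset.card_insert_of_notMem, Finset.card_insert_of_notMem, Finset.card_insert_of_notMem,
        Finset.card_insert_of_notMem, Finset.card_singleton]
      all_goals simp only [Finset.mem_insert, Finset.mem_singleton, not_or]
      · exact hne (Ne.symm hcon.2.2.2)
      · exact ⟨hne fun e => hv0 (right_eq_add.1 e), hne (Ne.symm hcon.2.2.1)⟩
      · exact ⟨hne hvn, hne fun e => hn0 (left_eq_add.1 e), hne (Ne.symm hcon.2.1)⟩
      · exact ⟨hne (Ne.symm hv0), hne (Ne.symm hn0), hne (Ne.symm hvn0), hne (Ne.symm hcon.1)⟩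
    omega
  have hBvn : P.R.B v n = 1 := by
    refine (Cfsg.Agent.H92.ExtraForm.two_cases _).resolve_left fun h => hn0 (P.R.nondeg n fun w => ?_)
    show P.R.B n w = 0
    obtain ⟨e, he, hc⟩ := P.R.E_split hb w
    set c := w + e with hcdef
    have hw : w = e + c := by rw [hcdef, add_comm e, add_assoc, P.R.vv, add_zero]
    obtain ⟨u, hu⟩ := he
    rw [hw, P.R.B_add_right, ← hu, P.R.B_comm n, P.R.E_perp u hnb, zero_add]
    have hsp := P.R.B_split h3 h1 n c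
    rw [hnW, P.R.B_zero_left, zero_add, add_zero] at hsp
    rw [hsp]
    rcases hC4 (c + P.R.pr0 c) (by rw [P.R.add, hc, P.R.phi_P0 h3 h1 b (P.R.pr0_mem c)]) (by
      rw [Rep.pr0, P.R.op_add]
      show P.R.pr0 c + P.R.pr0 (P.R.pr0 c) = 0
      rw [P.R.pr0_pr0, P.R.vv]) with e' | e' | e' | e' <;> rw [e']
    · exact P.R.B_zero_right n
    · rw [P.R.B_comm]; exact h
    · exact P.R.B_self n
    · rw [P.R.B_add_right, P.R.B_comm n v, h, P.R.B_self, add_zero]
  have hqn : P.R.q n = 1 := by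
    have h := P.ρ_q hx v
    rw [show P.ρ x v = v + n by rw [hndef, ← add_assoc, P.R.vv, zero_add], P.R.q_add, hBvn] at h
    exact flip_val _ _ h
  -- the fixed part of the six-space
  have hK : ∀ k, P.R.pr0 k = 0 → P.ρ x k = k → ∃ e ∈ E, k = e ∨ k = e + n := by
    intro k hk0 hk
    obtain ⟨e, he, hc⟩ := P.R.E_split hb k
    refine ⟨e, he, ?_⟩
    have hk' : k = e + (k + e) := by rw [add_comm e, add_assoc, P.R.vv, add_zero]
    have hcfix : P.ρ x (k + e) = k + e := by rw [P.ρ_add hx, hk, hfixE e he]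
    rcases hC4 (k + e) hc (by
      rw [Rep.pr0, P.R.op_add]
      show P.R.pr0 k + P.R.pr0 e = 0
      rw [hk0, P.R.E_W h3 h1 he, add_zero]) with e' | e' | e' | e'
    · exact Or.inl (by rw [hk', e', add_zero])
    · exact absurd (e' ▸ hcfix) hn
    · exact Or.inr (by rw [hk', e'])
    · exfalso
      rw [e', P.ρ_add hx, hnfix, add_left_inj] at hcfix
      exact hn hcfix
  have hSn : ∀ t ∈ S, P.R.φ t n = n := by
    intro t ht
    have hmem : P.R.φ t v + P.ρ x (P.R.φ t v) = P.R.φ t n := by rw [hSx t ht, ← P.R.add]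
    obtain ⟨e, he, hc⟩ := P.R.E_split hb (P.R.φ t v)
    set c := P.R.φ t v + e with hcdef
    have hu : P.R.φ t v = e + c := by rw [hcdef, add_comm e, add_assoc, P.R.vv, add_zero]
    have hc0 : P.R.pr0 c = 0 := by
      rw [hcdef, Rep.pr0, P.R.op_add]
      show P.R.pr0 _ + P.R.pr0 e = 0
      rw [P.R.pr0_phi h3 h1, hvW, P.R.E_W h3 h1 he, add_zero]
    rw [hu, P.ρ_add hx, hfixE e he, add_add_add_comm, P.R.vv, zero_add] at hmem
    have hne : c + P.ρ x c ≠ 0 := by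
      rw [hmem]
      exact fun h => hn0 ((P.R.φ t).injective (h.trans (P.R.phi_zero t).symm))
    rcases hC4 c hc hc0 with e' | e' | e' | e' <;> rw [e'] at hmem hne
    · exact absurd (by rw [P.ρ_zero hx, add_zero]) hne
    · exact hmem.symm
    · exact absurd (by rw [hnfix, P.R.vv]) hne
    · rw [P.ρ_add hx, hnfix, add_add_add_comm, P.R.vv, add_zero] at hmem
      exact hmem.symm
  -- the action on the moved part
  have hact : ∀ t ∈ S, ∀ e ∈ E, ∃ e' ∈ E, P.R.φ t e = e' ∨ P.R.φ t e = e' + n := fun t ht e he =>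
    hK _ (by rw [P.R.pr0_phi h3 h1, P.R.E_W h3 h1 he]) (by rw [hSx t ht, hfixE e he])
  have huniq : ∀ {a c : P.V}, a ∈ E → c ∈ E → (a = c + n ∨ a + n = c) → False := by
    intro a c ha hc h
    refine hn0 (P.R.E_fix hb (?_ : n ∈ E) hnb)
    have : n = a + c := by
      rcases h with h | h
      · rw [h, add_comm c n, add_assoc, P.R.vv, add_zero]
      · rw [← h, ← add_assoc, P.R.vv, zero_add]
    rw [this]; exact add_mem ha hc
  choose act hactE hactv using hact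
  let inst : MulAction ↥S ↥E :=
    { smul := fun t e => ⟨act t.1 t.2 e.1 e.2, hactE t.1 t.2 e.1 e.2⟩
      one_smul := fun e => Subtype.ext (by
        show act 1 _ e.1 e.2 = e.1
        rcases hactv 1 S.one_mem e.1 e.2 with h | h <;> rw [map_one, Equiv.Perm.one_apply] at h
        · exact h.symm
        · exact (huniq e.2 (hactE _ _ _ _) (Or.inl h)).elim)
      mul_smul := fun t t' e => Subtype.ext (by
        show act (t * t').1 _ e.1 e.2 = act t.1 t.2 _ (hactE t'.1 t'.2 e.1 e.2)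
        set a := act t'.1 t'.2 e.1 e.2 with ha
        have h2' := hactv t'.1 t'.2 e.1 e.2
        have h1' := hactv t.1 t.2 a (hactE t'.1 t'.2 e.1 e.2)
        have hmem1 := hactE (t * t').1 (t * t').2 e.1 e.2
        have hmem2 := hactE t.1 t.2 a (hactE t'.1 t'.2 e.1 e.2)
        have h3' := hactv (t * t').1 (t * t').2 e.1 e.2
        have hcomp : P.R.φ (t * t').1 e.1 = act t.1 t.2 a (hactE t'.1 t'.2 e.1 e.2) ∨
            P.R.φ (t * t').1 e.1 = act t.1 t.2 a (hactE t'.1 t'.2 e.1 e.2) + n := by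
          rw [Subgroup.coe_mul, map_mul, Equiv.Perm.mul_apply]
          rcases h2' with h | h <;> rw [h]
          · exact h1'
          · rw [P.R.add, hSn t.1 t.2]
            rcases h1' with k | k <;> rw [k]
            · exact Or.inr rfl
            · exact Or.inl (by rw [add_assoc, P.R.vv, add_zero])
        rcases h3' with h | h <;> rcases hcomp with k | k <;> rw [h] at k
        · exact k
        · exact (huniq hmem1 hmem2 (Or.inl k)).elim
        · exact (huniq hmem1 hmem2 (Or.inr k)).elim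
        · exact add_right_cancel k) }
  have hsmul : ∀ (t : ↥S) (e : ↥E), ((t • e : ↥E) : P.V) = act t.1 t.2 e.1 e.2 := fun t e => rfl
  let F : AddSubgroup P.V :=
    { carrier := {e | e ∈ E ∧ ∀ t ∈ S, P.R.φ t e = e ∨ P.R.φ t e = e + n}
      zero_mem' := ⟨zero_mem _, fun t _ => Or.inl (P.R.phi_zero t)⟩
      add_mem' := fun {a c} ha hc => ⟨add_mem ha.1 hc.1, fun t ht => by
        rcases ha.2 t ht with h | h <;> rcases hc.2 t ht with k | k <;> rw [P.R.add, h, k]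
        · exact Or.inl rfl
        · exact Or.inr (by abel)
        · exact Or.inr (by abel)
        · exact Or.inl (by rw [add_add_add_comm, P.R.vv, add_zero])⟩
      neg_mem' := fun {a} ha => by rw [ZModModule.neg_eq_self]; exact ha }
  have hFinv : ∀ a ∈ F, P.R.φ b a ∈ F := fun a ha => ⟨P.R.E_inv hb ha.1, fun t ht => by
    have e : P.R.φ t (P.R.φ b a) = P.R.φ b (P.R.φ (b⁻¹ * t * b) a) := by
      simp only [← Equiv.Perm.mul_apply, ← map_mul]
      congr 2
      group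
    rw [e]
    rcases ha.2 _ (hSb t ht) with h | h <;> rw [h]
    · exact Or.inl rfl
    · exact Or.inr (by rw [P.R.add, hnb])⟩
  obtain ⟨a, ha, ha0⟩ : ∃ a ∈ F, a ≠ (0 : P.V) := by
    have hmod := hS.card_modEq_card_fixedPoints ↥E
    rw [P.R.E_card h0 h3 h1 hb hb1] at hmod
    have hzero : (0 : ↥E) ∈ MulAction.fixedPoints ↥S ↥E := fun t => Subtype.ext (by
      rw [hsmul]
      rcases hactv t.1 t.2 _ (zero_mem E) with h | h <;> rw [P.R.phi_zero] at h
      · exact h.symm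
      · exact (huniq (zero_mem E) (hactE _ _ _ _) (Or.inl h)).elim)
    obtain ⟨e, he, hne⟩ : ∃ e ∈ MulAction.fixedPoints ↥S ↥E, e ≠ 0 := by
      by_contra hcon
      push Not at hcon
      have : MulAction.fixedPoints ↥S ↥E = {0} := Set.ext fun e =>
        ⟨fun h => hcon e h, fun h => by rw [Set.mem_singleton_iff] at h; rw [h]; exact hzero⟩
      rw [this] at hmod
      simp [Nat.ModEq] at hmod
    refine ⟨e.1, ⟨e.2, fun t ht => ?_⟩, fun h => hne (Subtype.ext h)⟩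
    have h := congrArg Subtype.val (he ⟨t, ht⟩)
    rw [hsmul] at h
    rcases hactv t ht e.1 e.2 with k | k
    · exact Or.inl (k.trans h)
    · exact Or.inr (by rw [k, h])
  have hFE := five_subgroup (AddMonoidHom.mk' (P.R.φ b) (P.R.add b)) (S := F) (T := E)
    (fun c hc => hc.1) (P.R.E_card h0 h3 h1 hb hb1) (P.R.phi_five hb) hFinv
    (fun c hc h => P.R.E_fix hb hc.1 h) ha ha0
  have hfix : ∀ t ∈ S, ∀ e ∈ E, P.R.φ t e = e := by
    intro t ht e he
    refine ((hFE ▸ he : e ∈ F).2 t ht).resolve_right fun h => ?_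
    have hq := P.R.q_inv t e
    rw [h, P.R.q_add, hqn] at hq
    obtain ⟨u, rfl⟩ := he
    rw [P.R.E_perp u hnb, add_zero, add_eq_left] at hq
    exact one_ne_zero hq
  obtain ⟨k, hk⟩ := hS ⟨s, hs⟩
  refine two_five hb hb1 k s (congrArg Subtype.val hk :) (P.R.inj (Equiv.ext fun w => ?_))
  obtain ⟨c₀, hc₀, hρ⟩ := P.ρ_range s
  rw [map_mul, map_mul, ← hρ]
  exact P.comm_of_fix_E h0 h3 h1 hb hb1 hc₀ (fun e he => by rw [hρ]; exact hfix s hs e he) w

omit hb hb1

/-- No other conjugate of `z` is in the core. -/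
theorem no_conj_J {g : G} (hy : cj g z ∈ J) : cj g z = z := by
  classical
  by_contra hne
  set x := cj g z with hx
  obtain ⟨b, hb, hb1, hbx⟩ := P.R.exists_five h3 h1 (P.π x)
  obtain ⟨d, hd, hdb, hd5⟩ := P.exists_lift (m := 16) hb
    (by rw [show (16 : ℕ) = 5 * 3 + 1 from rfl, pow_succ, pow_mul, hb, one_pow, one_mul])
    (by norm_num)
  have h5 : Odd 5 := by decide
  have hdx : d * x = x * d := P.odd_comm hd h5 hd5 hy (by rw [hdb]; exact hbx)
  obtain ⟨u, w, hu, hw, hux, hwx, huw⟩ := P.R.exists_fix_pair h0 h3 h1 hb hbx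
  obtain ⟨c, hc, rfl⟩ := P.π_surj u
  obtain ⟨e, he, rfl⟩ := P.π_surj w
  have hdc : d * c = c * d := P.odd_comm hd h5 hd5 hc (by rw [hdb]; exact hu)
  have hde : d * e = e * d := P.odd_comm hd h5 hd5 he (by rw [hdb]; exact hw)
  have hcx : c * x = x * c := (P.comm_iff hc hy).2 hux
  have hex : e * x = x * e := (P.comm_iff he hy).2 hwx
  have back : ∀ {a : G}, a * x = x * a → cj g⁻¹ a * z = z * cj g⁻¹ a := fun h => cj_back h
  have pw : ∀ (a : G) (n : ℕ), cj g⁻¹ a ^ n = cj g⁻¹ (a ^ n) := fun a n => by simp only [cj, conj_pow]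
  have one' : cj g⁻¹ (1 : G) = 1 := by simp [cj]
  have hd' := back hdx
  obtain ⟨b', hb'⟩ : P.Inn (cj g⁻¹ d) := P.inn_of_odd_order hd' h5 (by rw [pw, hd5, one'])
  have hb'5 : b' ^ 5 = 1 := P.R.inj (by rw [map_pow, ← hb', ← P.ρ_pow hd', pw, hd5, one', P.ρ_one, map_one])
  have hb'1 : b' ≠ 1 := fun h => by
    rw [h, map_one] at hb'
    have h4 := P.pow_four ((P.ρ_ker _ hd').1 hb')
    have h5' : cj g⁻¹ d ^ 5 = 1 := by rw [pw, hd5, one']
    rw [pow_succ, h4, one_mul] at h5'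
    have hd1 : d = 1 := cj_injective g⁻¹ (h5'.trans one'.symm)
    rw [hd1, P.ρ_one] at hdb
    exact hb1 (P.R.inj (hdb.symm.trans (map_one _).symm))
  have hcomm' : ∀ {a : G}, d * a = a * d → cj g⁻¹ a * z = z * cj g⁻¹ a → ∀ v,
      P.ρ (cj g⁻¹ a) (P.R.φ b' v) = P.R.φ b' (P.ρ (cj g⁻¹ a) v) := fun {a} hda haz v => by
    rw [← hb', ← Equiv.Perm.mul_apply, ← Equiv.Perm.mul_apply, ← P.ρ_mul _ _ haz hd',
      ← P.ρ_mul _ _ hd' haz, ← cj_mul', ← cj_mul', hda]
  have hkey : ∀ {a : G}, a ^ 4 = 1 → d * a = a * d → cj g⁻¹ a * z = z * cj g⁻¹ a →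
      P.Inn (cj g⁻¹ a) → cj g⁻¹ a ∈ J := by
    intro a ha hda haz hi
    obtain ⟨s, hs⟩ := hi
    refine (P.ρ_ker _ haz).1 ?_
    rw [hs, two_five hb'5 hb'1 2 s (P.R.inj (by
      rw [map_pow, ← hs, ← P.ρ_pow haz, pw, show 2 ^ 2 = 4 from rfl, ha, one', P.ρ_one, map_one]))
      (P.R.inj (Equiv.ext fun v => by
        rw [map_mul, map_mul, ← hs]; exact hcomm' hda haz v)), map_one]
  set y := cj g⁻¹ z with hydef
  have hyz : y * z = z * y := back (P.cz_J hy).symm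
  have hzd : d * z = z * d := hd
  have hyJ : y ∈ J := hkey (by simp [pow_succ, mul_assoc, P.z_sq]) hzd hyz
    (P.inn_of_noncomm hc he hcx hex huw)
  have hyne : y ≠ z := fun h => hne (by
    rw [hx]; nth_rw 1 [← h]
    rw [hydef, cj_cj, mul_inv_cancel, cj_one'])
  have cA : ∀ {a a' : G}, a ∈ J → a' ∈ J →
      a' * a = a * a' ∨ cj g⁻¹ a' * cj g⁻¹ a = cj g⁻¹ a * cj g⁻¹ a' * y := by
    intro a a' ha ha'
    have h := P.comm a ha a' ha'
    unfold zp at h
    split_ifs at h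
    · exact Or.inl (h.trans (mul_one _))
    · refine Or.inr ?_
      rw [← cj_mul' g⁻¹ a' a, h, cj_mul' g⁻¹ (a * a') z, cj_mul' g⁻¹ a a']
  -- an outer element centralising `d`
  obtain ⟨q, hq, hqd, hqx, hqout⟩ : ∃ q ∈ J, d * q = q * d ∧ q * x = x * q ∧ ¬ P.Inn (cj g⁻¹ q) := by
    by_contra hcon
    push Not at hcon
    have hcJ := hkey (P.pow_four hc) hdc (back hcx) (hcon c hc hdc hcx)
    have heJ := hkey (P.pow_four he) hde (back hex) (hcon e he hde hex)
    rcases cA hc he with h | h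
    · have := (P.comm_iff hc he).1 h.symm
      rw [huw] at this
      exact one_ne_zero this
    · have h' := P.comm _ hcJ _ heJ
      rw [h, mul_right_inj] at h'
      unfold zp at h'
      split_ifs at h'
      · exact P.z_ne (cj_injective g⁻¹ (h'.trans one'.symm))
      · exact hyne h'
  have hq'z := back hqx
  -- the inner part
  let A : Subgroup G :=
    { carrier := {r | r ∈ J ∧ r * x = x * r ∧ P.Inn (cj g⁻¹ r)}
      one_mem' := ⟨one_mem _, by rw [one_mul, mul_one], by rw [one']; exact P.inn_J J.one_mem⟩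
      mul_mem' := fun {r s} hr hs => ⟨mul_mem hr.1 hs.1, (Commute.mul_left hr.2.1 hs.2.1).eq, by
        rw [cj_mul' g⁻¹ r s]; exact P.inn_mul (back hr.2.1) (back hs.2.1) hr.2.2 hs.2.2⟩
      inv_mem' := fun {r} hr => ⟨inv_mem hr.1, (Commute.inv_left hr.2.1).eq, by
        rw [show cj g⁻¹ r⁻¹ = (cj g⁻¹ r)⁻¹ by simp [cj, mul_assoc]]
        exact P.inn_inv (back hr.2.1) hr.2.2⟩ }
  choose sA hsA using fun r : ↥A => r.2.2.2
  let ψ : ↥A →* SU4 := MonoidHom.mk' sA fun r s => P.R.inj (by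
    rw [map_mul, ← hsA, ← hsA, ← hsA, ← P.ρ_mul _ _ (back r.2.2.1) (back s.2.2.1), ← cj_mul']
    rfl)
  have hψ : ∀ r, P.ρ (cj g⁻¹ r.1) = P.R.φ (ψ r) := hsA
  have hσ : ∀ v, P.ρ (cj g⁻¹ q) (P.ρ (cj g⁻¹ q) v) = v := fun v => by
    have hmem : cj g⁻¹ q * cj g⁻¹ q ∈ J := by
      rw [← cj_mul' g⁻¹ q q, P.sq q hq]
      unfold zp
      split_ifs
      · rw [one']; exact one_mem _
      · exact hyJ
    rw [← Equiv.Perm.mul_apply, ← P.ρ_mul _ _ hq'z hq'z, P.ρ_of_J hmem]; rfl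
  have hσS : ∀ s ∈ ψ.range, ∀ v,
      P.ρ (cj g⁻¹ q) (P.R.φ s v) = P.R.φ s (P.ρ (cj g⁻¹ q) v) := by
    rintro _ ⟨r, rfl⟩ v
    rw [← hψ, ← Equiv.Perm.mul_apply, ← Equiv.Perm.mul_apply, ← P.ρ_mul _ _ hq'z (back r.2.2.1),
      ← P.ρ_mul _ _ (back r.2.2.1) hq'z]
    rcases cA r.2.1 hq with h | h
    · rw [← cj_mul' g⁻¹ q r.1, ← cj_mul' g⁻¹ r.1 q, h]
    · rw [h, P.ρ_mul _ _ (P.cz_mul (back r.2.2.1) hq'z) hyz, P.ρ_of_J hyJ, mul_one]
  have hSb : ∀ s ∈ ψ.range, b'⁻¹ * s * b' ∈ ψ.range := by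
    rintro _ ⟨r, rfl⟩
    have hr1 : cj d⁻¹ r.1 * x = x * cj d⁻¹ r.1 := by
      have h := congrArg (cj d⁻¹) r.2.2.1
      rwa [cj_mul' d⁻¹ r.1 x, cj_mul' d⁻¹ x r.1,
        cj_fix_iff.2 ((Commute.inv_left (show Commute d x from hdx)).eq)] at h
    have hrz : cj g⁻¹ (cj d⁻¹ r.1) = (cj g⁻¹ d)⁻¹ * cj g⁻¹ r.1 * cj g⁻¹ d := by simp [cj, mul_assoc]
    refine ⟨⟨cj d⁻¹ r.1, P.cj_mem (P.cz_inv hd) r.2.1, hr1, ?_⟩, P.R.inj ?_⟩
    · rw [hrz]
      exact P.inn_mul (P.cz_mul (P.cz_inv hd') (back r.2.2.1)) hd'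
        (P.inn_mul (P.cz_inv hd') (back r.2.2.1) (P.inn_inv hd' ⟨b', hb'⟩) r.2.2.2) ⟨b', hb'⟩
    · rw [← hψ]
      show P.ρ (cj g⁻¹ (cj d⁻¹ r.1)) = _
      rw [hrz, P.ρ_mul _ _ (P.cz_mul (P.cz_inv hd') (back r.2.2.1)) hd',
        P.ρ_mul _ _ (P.cz_inv hd') (back r.2.2.1), P.ρ_inv hd', hb', hψ, map_mul, map_mul, map_inv]
  have hp2 : IsPGroup 2 ↥ψ.range := by
    rintro ⟨s, r, rfl⟩
    refine ⟨2, Subtype.ext ?_⟩
    show ψ r ^ (2 ^ 2) = 1
    rw [← map_pow, show r ^ (2 ^ 2) = 1 from Subtype.ext (P.pow_four r.2.1), map_one]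
  have hAJ : ∀ r ∈ A, cj g⁻¹ r ∈ J := fun r hr => (P.ρ_ker _ (back hr.2.1)).1 (by
    rw [hψ ⟨r, hr⟩, P.no_two_group h0 h3 h1 hb'5 hb'1 hq'z hqout hσ
      (hcomm' hqd hq'z) hp2 hσS hSb ⟨_, rfl⟩, map_one])
  -- counting
  let K0 : AddSubgroup P.V :=
    { carrier := {v | ∃ r ∈ A, P.π r = v}
      zero_mem' := ⟨1, one_mem _, P.π_one⟩
      add_mem' := by
        rintro _ _ ⟨r, hr, rfl⟩ ⟨s, hs, rfl⟩
        exact ⟨r * s, mul_mem hr hs, P.π_mul _ hr.1 _ hs.1⟩
      neg_mem' := by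
        rintro _ ⟨r, hr, rfl⟩
        exact ⟨r, hr, (ZModModule.neg_eq_self _).symm⟩ }
  have hiso : ∀ a ∈ K0, ∀ a' ∈ K0, P.R.B a a' = 0 := by
    rintro _ ⟨r, hr, rfl⟩ _ ⟨s, hs, rfl⟩
    refine (P.comm_iff hr.1 hs.1).1 ?_
    rcases cA hr.1 hs.1 with h | h
    · exact h.symm
    · exfalso
      have h' := P.comm _ (hAJ r hr) _ (hAJ s hs)
      rw [h, mul_right_inj] at h'
      unfold zp at h'
      split_ifs at h'
      · exact P.z_ne (cj_injective g⁻¹ (h'.trans one'.symm))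
      · exact hyne h'
  let vp : AddSubgroup P.V := (P.R.Bhom (P.π x)).ker
  have hvp : 128 ≤ Nat.card ↥vp := by
    have h := vp.card_mul_index
    rw [AddSubgroup.index_ker, P.R.card] at h
    have h2 : Nat.card ↥(P.R.Bhom (P.π x)).range ≤ 2 :=
      le_trans (Nat.card_le_card_of_injective Subtype.val Subtype.val_injective) (le_of_eq (Nat.card_zmod 2))
    have := Nat.mul_le_mul_left (Nat.card ↥vp) h2
    omega
  have hcover : Nat.card ↥vp ≤ Nat.card (Bool × ↥K0) := by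
    have hl : ∀ a : ↥vp, ∃ r ∈ J, r * x = x * r ∧ P.π r = a.1 := fun a => by
      obtain ⟨r, hr, e⟩ := P.π_surj a.1
      refine ⟨r, hr, (P.comm_iff hr hy).2 ?_, e⟩
      rw [e, P.R.B_comm]; exact a.2
    choose L hLJ hLx hLπ using hl
    refine Nat.card_le_card_of_injective (fun a => if h : P.Inn (cj g⁻¹ (L a))
      then (true, ⟨a.1, L a, ⟨hLJ a, hLx a, h⟩, hLπ a⟩)
      else (false, ⟨P.π q + a.1, q * L a, ⟨mul_mem hq (hLJ a), (Commute.mul_left hqx (hLx a)).eq, by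
        rw [cj_mul' g⁻¹ q (L a), P.inn_mul_iff hq'z (back (hLx a))]
        exact iff_of_false hqout h⟩, by rw [P.π_mul _ hq _ (hLJ a), hLπ]⟩)) fun a a' e => ?_
    dsimp only at e
    split_ifs at e <;> simp only [Prod.mk.injEq, Subtype.mk.injEq, Bool.true_eq_false,
      Bool.false_eq_true, true_and, false_and, add_right_inj] at e
    all_goals exact Subtype.ext e
  rw [Nat.card_prod, Nat.card_eq_fintype_card (α := Bool), Fintype.card_bool] at hcover
  have hperp : Nat.card ↥K0 ≤ Nat.card ↥(P.R.perp K0) :=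
    AddSubgroup.card_le_of_le fun a ha a' ha' => hiso a ha a' ha'
  have := P.R.perp_card K0
  nlinarith

/-- The transfer at an outer element centralising an element of order five. -/
theorem split_value {d a : G} {b : SU4} (hb : b ^ 5 = 1) (hb1 : b ≠ 1) (hd : d * z = z * d)
    (hdb : P.ρ d = P.R.φ b) (hd5 : d ^ 5 = 1) (ha : a * z = z * a) (hout : ¬ P.Inn a)
    (had : a * d = d * a) (h2 : a * a = 1 ∨ a * a = z) :
    MonoidHom.transfer P.chi a = P.chi ⟨a, Subgroup.mem_centralizer_singleton_iff.2 ha⟩ := by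
  classical
  have ha2 : a * a ∈ J := by
    rcases h2 with e | e <;> rw [e]
    exacts [one_mem _, P.hzJ]
  have hσ : ∀ v, P.ρ a (P.ρ a v) = v := fun v => by
    rw [← Equiv.Perm.mul_apply, ← P.ρ_mul _ _ ha ha, P.ρ_of_J ha2]; rfl
  have hab : ∀ v, P.ρ a (P.R.φ b v) = P.R.φ b (P.ρ a v) := fun v => by
    rw [← hdb, ← Equiv.Perm.mul_apply, ← Equiv.Perm.mul_apply, ← P.ρ_mul _ _ ha hd,
      ← P.ρ_mul _ _ hd ha, had]
  have haE : ∀ e ∈ (P.R.disp b).range, P.ρ a e = e := fun e he => P.fix_E h0 h3 h1 hb hb1 ha hσ hab he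
  have hlift : ∀ r ∈ J, P.π r ∈ (P.R.disp b).range → r * a = a * r := fun r hr hrE =>
    P.lift_comm h0 h3 h1 hb hb1 hd hdb ha had haE hr hrE
  refine P.transfer_value ha h2 (fun g hxz hxa hD => ?_) (fun _ g hxz hindex =>
    P.inn_index h0 h3 h1 hb hb1 hlift hindex)
  set x := cj g z with hxdef
  have hx2 : x * x = 1 := cj_self_sq P.z_sq
  have hxE : ∀ e ∈ (P.R.disp b).range, P.ρ x e = e := by
    intro e he
    obtain ⟨r, hr, rfl⟩ := P.π_surj e
    rw [← P.π_cj hxz hr, cj_fix_iff.2 (hD r hr (hlift r hr he)).symm]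
  have hx2J : x * x ∈ J := by rw [hx2]; exact one_mem _
  by_cases hxi : P.Inn x
  · exact P.no_conj_J h0 h3 h1 (P.inn_fix_E h0 h3 h1 hb hb1 hxz hxi hx2J hxE)
  exfalso
  -- a product with the given element lies in the core
  have haxz : a * x * z = z * (a * x) := P.cz_mul ha hxz
  have hq : a * x ∈ J := P.inn_fix_E h0 h3 h1 hb hb1 haxz
    ((P.inn_mul_iff ha hxz).2 (iff_of_false hout hxi))
    (by rw [show a * x * (a * x) = a * (x * a) * x by group, hxa, ← mul_assoc a a, mul_assoc _ x x, hx2,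
          mul_one]; exact ha2)
    (fun e he => by rw [P.ρ_mul _ _ ha hxz, Equiv.Perm.mul_apply, hxE e he, haE e he])
  have hqC : P.R.φ b (P.π (a * x)) = P.π (a * x) := by
    obtain ⟨e, he, hc⟩ := P.R.E_split hb (P.π (a * x))
    suffices h : e = 0 by rwa [h, add_zero] at hc
    refine P.R.nondeg _ fun w => ?_
    show P.R.B _ w = 0
    obtain ⟨e₂, he₂, hc₂⟩ := P.R.E_split hb w
    have perpC : ∀ {p k : P.V}, p ∈ (P.R.disp b).range → P.R.φ b k = k → P.R.B p k = 0 := by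
      rintro _ k ⟨u, rfl⟩ hk
      exact P.R.E_perp u hk
    rw [show w = e₂ + (w + e₂) by rw [add_comm e₂, add_assoc, P.R.vv, add_zero], P.R.B_add_right,
      perpC he hc₂, add_zero,
      show e = P.π (a * x) + (P.π (a * x) + e) by rw [← add_assoc, P.R.vv, zero_add],
      P.R.B_add_left, P.R.B_comm (P.π (a * x) + e), perpC he₂ hc, add_zero]
    obtain ⟨r, hr, rfl⟩ := P.π_surj e₂
    refine (P.comm_iff hq hr).1 ?_
    exact (Commute.mul_left (show Commute a r from (hlift r hr he₂).symm)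
      (show Commute x r from (hD r hr (hlift r hr he₂)).symm)).eq
  have hdx : d * x = x * d := by
    have h1' : Commute d (a * x) := P.odd_comm hd (by decide) hd5 hq (by rw [hdb]; exact hqC)
    have h2' : Commute d a⁻¹ := (show Commute d a from had.symm).inv_right
    have := (h2'.mul_right h1').eq
    rwa [inv_mul_cancel_left] at this
  -- the partner
  set y := cj g⁻¹ z with hydef
  have hyz : y * z = z * y := cj_back hxz.symm
  have hyi : P.Inn y := by
    by_contra hyo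
    have hiso : ∀ u ∈ (P.R.disp b).range, ∀ v ∈ (P.R.disp b).range, P.R.B u v = 0 := by
      intro u hu v hv
      obtain ⟨r, hr, rfl⟩ := P.π_surj u
      obtain ⟨s, hs, rfl⟩ := P.π_surj v
      refine (Cfsg.Agent.H92.ExtraForm.two_cases _).resolve_right fun h => hyo ?_
      exact P.inn_of_noncomm hr hs (hD r hr (hlift r hr hu)) (hD s hs (hlift s hs hv)) h
    have := P.R.E_iso h0 h3 h1 hb hb1 le_rfl hiso
    rw [P.R.E_card h0 h3 h1 hb hb1] at this
    omega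
  have hd'z : cj g⁻¹ d * z = z * cj g⁻¹ d := cj_back hdx
  have hd'5 : cj g⁻¹ d ^ 5 = 1 := by rw [cj, conj_pow, hd5]; group
  obtain ⟨b', hb'⟩ : P.Inn (cj g⁻¹ d) := P.inn_of_odd_order hd'z (by decide) hd'5
  have hb'5 : b' ^ 5 = 1 := P.R.inj (by rw [map_pow, ← hb', ← P.ρ_pow hd'z, hd'5, P.ρ_one, map_one])
  have hb'1 : b' ≠ 1 := fun h => by
    rw [h, map_one] at hb'
    have h4 := P.pow_four ((P.ρ_ker _ hd'z).1 hb')
    rw [pow_succ, h4, one_mul] at hd'5
    have hd1 : d = 1 := cj_injective g⁻¹ (hd'5.trans (by simp [cj]))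
    rw [hd1, P.ρ_one] at hdb
    exact hb1 (P.R.inj (hdb.symm.trans (map_one _).symm))
  obtain ⟨s, hs⟩ := hyi
  have hyJ : y ∈ J := (P.ρ_ker _ hyz).1 (by
    rw [hs, two_five hb'5 hb'1 1 s (P.R.inj (by
      rw [map_pow, ← hs, pow_one, pow_two, ← P.ρ_mul _ _ hyz hyz, cj_self_sq P.z_sq, P.ρ_one, map_one]))
      (P.R.inj (by
        rw [map_mul, map_mul, ← hs, ← hb', ← P.ρ_mul _ _ hyz hd'z, ← P.ρ_mul _ _ hd'z hyz, hydef,
          ← cj_mul' g⁻¹ z d, ← cj_mul' g⁻¹ d z, hd])), map_one])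
  have hy0 := P.no_conj_J h0 h3 h1 hyJ
  refine hxi ?_
  rw [hxdef, show cj g z = z by
    nth_rw 1 [← hy0]
    rw [cj_cj, mul_inv_cancel, cj_one']]
  exact P.inn_J P.hzJ

/-- The transfer at an element of the fixed plane. -/
theorem split_plane {a : G} {b : SU4} (hb : b ^ 5 = 1) (hb1 : b ≠ 1) (haJ : a ∈ J)
    (hp : P.π a ∈ P.R.P0) : MonoidHom.transfer P.chi a = 1 := by
  classical
  have ha := P.cz_J haJ
  have h2 : a * a = 1 ∨ a * a = z := by
    rw [P.sq a haJ]; unfold zp; split_ifs <;> simp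
  have hlift : ∀ r ∈ J, P.R.pr0 (P.π r) = 0 → r * a = a * r := fun r hr h =>
    (P.comm_iff hr haJ).2 (by rw [P.R.B_comm]; exact P.R.W_perp h3 h1 h hp)
  have hliftE : ∀ r ∈ J, P.π r ∈ (P.R.disp b).range → r * a = a * r := fun r hr h =>
    hlift r hr (P.R.E_W h3 h1 h)
  rw [P.transfer_value ha h2 (fun g hxz hxa hD => ?_) (fun _ g hxz hindex =>
    P.inn_index h0 h3 h1 hb hb1 hliftE hindex)]
  · exact P.chi_one.2 (P.inn_J haJ)
  set x := cj g z with hxdef
  have hx2J : x * x ∈ J := by rw [hxdef, cj_self_sq P.z_sq]; exact one_mem _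
  have hxW : ∀ w, P.R.pr0 w = 0 → P.ρ x w = w := by
    intro w hw
    obtain ⟨r, hr, rfl⟩ := P.π_surj w
    rw [← P.π_cj hxz hr, cj_fix_iff.2 (hD r hr (hlift r hr hw)).symm]
  by_cases hxi : P.Inn x
  · exact P.no_conj_J h0 h3 h1 (P.inn_fix_E h0 h3 h1 hb hb1 hxz hxi hx2J
      fun e he => hxW e (P.R.E_W h3 h1 he))
  exfalso
  refine hxi (P.inn_J (P.cent x hxz fun g' => Equiv.ext fun u => ?_))
  have hP0 : ∀ p ∈ P.R.P0, P.ρ x p ∈ P.R.P0 := fun p hp => P.R.fixed_P0 fun h => by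
    obtain ⟨g'', hg''⟩ := P.ρ_norm x⁻¹ (P.cz_inv hxz) h
    have h' := Equiv.congr_fun hg'' (P.ρ x p)
    simp only [Equiv.Perm.mul_apply, P.ρ_inv hxz, Equiv.Perm.inv_def, Equiv.symm_apply_apply] at h'
    rw [P.R.phi_P0 h3 h1 g'' hp] at h'
    have h'' := congrArg (P.ρ x) h'
    rwa [Equiv.apply_symm_apply] at h''
  set p := P.R.pr0 u with hpdef
  set w := u + p with hwdef
  have hu : u = w + p := by rw [hwdef, add_assoc, P.R.vv, add_zero]
  have hw0 : P.R.pr0 w = 0 := by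
    rw [hwdef, Rep.pr0, P.R.op_add]
    show P.R.pr0 u + P.R.pr0 p = 0
    rw [hpdef, P.R.pr0_pr0, P.R.vv]
  have hpm : p ∈ P.R.P0 := P.R.pr0_mem u
  clear_value w p
  simp only [Equiv.Perm.mul_apply]
  rw [hu, P.ρ_add hxz, hxW w hw0, P.R.add, P.R.add, P.R.phi_P0 h3 h1 g' hpm,
    P.ρ_add hxz, hxW _ (by rw [P.R.pr0_phi h3 h1, hw0]),
    P.R.phi_P0 h3 h1 g' (hP0 _ hpm)]

end Two

end Cfsg.Agent.H49.UChar
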